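import Cfsg.Agent.Leech.MonsterSection.OkBig
import Cfsg.Agent.Leech.MonsterSection.Local
import Cfsg.Agent.FiFour.Quad.Perms
import Cfsg.Agent.S0283
import Cfsg.Prelude.Def_MonsterType

/-!
# The quotient 3.U₄(3).2
-/

set_option autoImplicit false
set_option maxRecDepth 100000
set_option linter.style.haveILetI false

namespace Cfsg.Lib.Leech.MonsterSection

open Cfsg Cfsg.Lib.Leech
open Cfsg.Lib.PermCert (PP ap valid Level check grp topGens size)
open Cfsg.Lib.FiFour.Quad (autQ rho Q6s K3 omega_equiv omega_centralizer card_autQ range_rho rho_mem_autQ adjQ)

/-- The unitary group on the 126 objects. -/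
noncomputable abbrev Wq : Subgroup (Equiv.Perm (Fin 126)) := (Cfsg.Omega K3 (⇑Q6s)).map rho

/-- The group on the triples. -/
abbrev triG : Subgroup (Equiv.Perm (Fin 126)) := grp 126 bigD.chain

/-- The orthogonality of the objects, one row each. -/
def bigAdj : ℕ :=
  213740668088621645472983395150639778791305537938928194064225769050377843943972356075681601210828436824918973190885369191235908900588166556815453168983998321775040401230385582279253842126793377668521742887733955318604380197145577713443094806875587314110859985047876701382707907275326764407774040269893799631836643894422609392056985571269385050967178246266379102940114171242176573487021336949534015740738727980356891552190597135683664228199235578876239664334384771568497400385221687963934719922150528607246408980981072309370519835905632926671537671346297516658605587128204181182900227653032548352312807465484794898587064147348872395010255031364422490384245176433842103940327198227501895840138268153661969134191776973839985274642098615550656532946957038929578162391799546590419808583994860716176411464818985932986182716861445543078013243853450571798713017540434274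2409475194530418329218652005321906054951902911477883616520751596140591300117933688730202493161805177195490762148461638525010106088035691062435570916692014011350065338046982505371948195017125919418629794280638208415835058555325479495639068596274031832638009522942057033585118037881185100948129633531649564994378237527282313552143883782093649798549074745071170634738206655680256183647228872546226536927648329907489924834776876498832299829372921836320258733561465474459526164637296859036979478460701099055554670090451445978013864182922642190718645339672885203760793689019722925283412091935306868667973063338388536180925359289824138466227073655494265648876879221746452872729479658872386945406896451258367043151599112860076597779337593267673784938528879023816887065770203854638438166911062419897526672991225708151501563596633546871058498905537923239267780413106604669395934753811992087522891334950837535841494242210124610953629072023681904335266488756892202483331180608394989942252219622967820082270399726415210637757003079650805106188747971067928685987594550855322805618735225722025074612030194800445670859075002726053761495797019489840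2873498242239798421210010098362862404332905991647877659731300795539891930740153898112911096199467494969548361154228687567710795072016561579234385263816904872729480398985485794744262325859429787546377989573470458253880919280183008302988938510778443659644415340526062733829666108137127021684234905930319534387967093318626727379546986346270410902262022112075247812969915472748499721841219716728656603253828053994668515137714481635513378051900379970606775064441992767055698367836886966003152498196263537273178710724355692654919149190366380402899080124612983828516363382513958489259212560918829502860017184273993100538348760408747485868410723380264503449932347449174910089395762742169245844251486757942697156113123675667030409728332448384836916644352880774669232404978391549883592663100389207894092324665818222305761165657226907910645122389811535288374254248092951546370584127511616832564749282507642595049215964797382056454892845590147818566692170194383617427089856084186351984083954163918226005423834842768094050532945049225142852566157621158518008929702321679647701578898099670350572874256005437933925691232472655831730386049392515093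3339463546706045600116502269357650018096784159658093769018869796988612221421085245133617033189110691836521139909525869137899560474290805935985329210726883384222636489861672972720132983929660932746495941321319975601862035666530845188692547262025885843107082473984043095636991840527841288716584706882522500795490722199828910788445140575556227417734884358169571216185861819234032565660148785968944421714176688197393741429665372451317528057065908159751510813342097705015857274813742497557701620758517763226092488579861004484816281428838307892999084398125591335449359066127338159532551246534613470229306920062651607460275842873020979849340968781142253234366463330289209298763923911543277395427512919683058253977766318488576268545258816401129352569142756278106327117420325508973793404027693900180811628858004180979304501081166281429712756976191347271066148197364797262233594167054685364090323460332340114858403126523470118356132019610453311198576510045794389670221117288837072000396114637302255125074089890529536202397969545974153702160527930636566050852990598045262397547510706863313505407158415004193676214987419211139497355100862708669144758535373893678209994104026763148575894987842413940084753454174818944804518548908367967495409174543819665639776979587530314706444795299128484259873288610727342356370752912671590981956630019320683617166704830512978886132017656504182237716477241241690432468161263855294186387927105924524632131818978962970851865838813986934449087147039280789522095451632940950633631251584816160395698297155836530803573444007208945152386339789201716641434937789564121111346520935371286633151271396630959560675255887316436827897274028947744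

theorem bigAdj0 : ((List.range 21).all fun k => (List.range 126).all fun l =>
    adjQ (Fin.ofNat 126 (21 * 0 + k)) (Fin.ofNat 126 l) == bigAdj.testBit (126 * (21 * 0 + k) + l)) = true := by
  decide +kernel

theorem bigAdj1 : ((List.range 21).all fun k => (List.range 126).all fun l =>
    adjQ (Fin.ofNat 126 (21 * 1 + k)) (Fin.ofNat 126 l) == bigAdj.testBit (126 * (21 * 1 + k) + l)) = true := by
  decide +kernel

theorem bigAdj2 : ((List.range 21).all fun k => (List.range 126).all fun l =>
    adjQ (Fin.ofNat 126 (21 * 2 + k)) (Fin.ofNat 126 l) == bigAdj.testBit (126 * (21 * 2 + k) + l)) = true := by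
  decide +kernel

theorem bigAdj3 : ((List.range 21).all fun k => (List.range 126).all fun l =>
    adjQ (Fin.ofNat 126 (21 * 3 + k)) (Fin.ofNat 126 l) == bigAdj.testBit (126 * (21 * 3 + k) + l)) = true := by
  decide +kernel

theorem bigAdj4 : ((List.range 21).all fun k => (List.range 126).all fun l =>
    adjQ (Fin.ofNat 126 (21 * 4 + k)) (Fin.ofNat 126 l) == bigAdj.testBit (126 * (21 * 4 + k) + l)) = true := by
  decide +kernel

theorem bigAdj5 : ((List.range 21).all fun k => (List.range 126).all fun l =>
    adjQ (Fin.ofNat 126 (21 * 5 + k)) (Fin.ofNat 126 l) == bigAdj.testBit (126 * (21 * 5 + k) + l)) = true := by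
  decide +kernel

theorem bigAdj_chunks : ∀ i < 6, ((List.range 21).all fun k => (List.range 126).all fun l =>
    adjQ (Fin.ofNat 126 (21 * i + k)) (Fin.ofNat 126 l) == bigAdj.testBit (126 * (21 * i + k) + l)) = true := by
  intro i hi
  interval_cases i
  · exact bigAdj0
  · exact bigAdj1
  · exact bigAdj2
  · exact bigAdj3
  · exact bigAdj4
  · exact bigAdj5

theorem bigAdj_spec (k l : Fin 126) : adjQ k l = bigAdj.testBit (126 * k.val + l.val) := by
  have h := of_blocks (k := 6) (w := 21) (p := fun c => ∀ l < 126,
      adjQ (Fin.ofNat 126 c) (Fin.ofNat 126 l) = bigAdj.testBit (126 * c + l)) (fun i hi r hr l hl => by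
    have := List.all_eq_true.mp (List.all_eq_true.mp (bigAdj_chunks i hi) r (List.mem_range.mpr hr)) l
      (List.mem_range.mpr hl)
    simpa using this) k k.2 l l.2
  simpa only [Fin.ofNat_val_eq_self] using h

/-- A generator keeps the table. -/
def bigTriGen (s : PP) : Bool := valid 126 s &&
    (List.range 126).all fun k => (List.range 126).all fun l =>
      bigAdj.testBit (126 * ap s.1 k + ap s.1 l) == bigAdj.testBit (126 * k + l)

theorem bigTri0 : bigTriGen ((topGens bigD.chain).getD 0 (0, 0)) = true := by
  decide +kernel

theorem bigTri1 : bigTriGen ((topGens bigD.chain).getD 1 (0, 0)) = true := by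
  decide +kernel

theorem bigTri2 : bigTriGen ((topGens bigD.chain).getD 2 (0, 0)) = true := by
  decide +kernel

theorem bigTri3 : bigTriGen ((topGens bigD.chain).getD 3 (0, 0)) = true := by
  decide +kernel

theorem bigTri4 : bigTriGen ((topGens bigD.chain).getD 4 (0, 0)) = true := by
  decide +kernel

theorem bigTri5 : bigTriGen ((topGens bigD.chain).getD 5 (0, 0)) = true := by
  decide +kernel

theorem bigTri6 : bigTriGen ((topGens bigD.chain).getD 6 (0, 0)) = true := by
  decide +kernel

theorem bigTri7 : bigTriGen ((topGens bigD.chain).getD 7 (0, 0)) = true := by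
  decide +kernel

theorem bigTri8 : bigTriGen ((topGens bigD.chain).getD 8 (0, 0)) = true := by
  decide +kernel

theorem bigTri9 : bigTriGen ((topGens bigD.chain).getD 9 (0, 0)) = true := by
  decide +kernel

theorem bigTri10 : bigTriGen ((topGens bigD.chain).getD 10 (0, 0)) = true := by
  decide +kernel

theorem bigTri11 : bigTriGen ((topGens bigD.chain).getD 11 (0, 0)) = true := by
  decide +kernel

theorem bigTri12 : bigTriGen ((topGens bigD.chain).getD 12 (0, 0)) = true := by
  decide +kernel

theorem bigTri13 : bigTriGen ((topGens bigD.chain).getD 13 (0, 0)) = true := by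
  decide +kernel

theorem bigTri14 : bigTriGen ((topGens bigD.chain).getD 14 (0, 0)) = true := by
  decide +kernel

theorem bigTri15 : bigTriGen ((topGens bigD.chain).getD 15 (0, 0)) = true := by
  decide +kernel

theorem bigTri_count : (topGens bigD.chain).length = 16 ∧ size bigD.chain = 6531840 := by
  decide +kernel

theorem bigTri_checks : ((topGens bigD.chain).all fun s => valid 126 s &&
    (List.range 126).all fun k => (List.range 126).all fun l =>
      bigAdj.testBit (126 * ap s.1 k + ap s.1 l) == bigAdj.testBit (126 * k + l)) = true ∧
    size bigD.chain = 6531840 := by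
  refine ⟨List.all_eq_true.mpr fun s hs => ?_, bigTri_count.2⟩
  obtain ⟨i, hi, rfl⟩ := List.getElem_of_mem hs
  show bigTriGen _ = true
  rw [← List.getD_eq_getElem _ (0, 0) hi]
  rw [bigTri_count.1] at hi
  interval_cases i
  · exact bigTri0
  · exact bigTri1
  · exact bigTri2
  · exact bigTri3
  · exact bigTri4
  · exact bigTri5
  · exact bigTri6
  · exact bigTri7
  · exact bigTri8
  · exact bigTri9
  · exact bigTri10
  · exact bigTri11
  · exact bigTri12
  · exact bigTri13
  · exact bigTri14
  · exact bigTri15

theorem triG_le : triG ≤ autQ := by
  refine (Subgroup.closure_le _).mpr ?_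
  rintro _ ⟨s, hs, rfl⟩ k l
  have h := List.all_eq_true.mp bigTri_checks.1 s hs
  simp only [Bool.and_eq_true, List.all_eq_true, List.mem_range, beq_iff_eq] at h
  obtain ⟨hv, hk⟩ := h
  have e := hk k k.2 l l.2
  rw [← PermCert.perm_apply hv, ← PermCert.perm_apply hv, ← bigAdj_spec, ← bigAdj_spec] at e
  exact e

theorem card_triG : Nat.card triG = 6531840 := by
  exact (big_kernels bigCls bigBOK rfl).2.2.trans bigTri_checks.2

theorem Wq_conj {g : Equiv.Perm (Fin 126)} (hg : g ∈ autQ) {w : Equiv.Perm (Fin 126)} (hw : w ∈ Wq) :
    g * w * g⁻¹ ∈ Wq := by
  rw [← range_rho] at hg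
  obtain ⟨h, rfl⟩ := hg
  obtain ⟨x, hx, rfl⟩ := hw
  exact ⟨h * x * h⁻¹, (inferInstance : (Cfsg.Omega K3 (⇑Q6s)).Normal).conj_mem x hx h, by
    rw [map_mul, map_mul, map_inv]⟩

theorem Wq_simple : IsSimpleGroup Wq ∧ Nat.card Wq = 3265920 := by
  obtain ⟨K, _, _, hK, hcard, ⟨u⟩⟩ := omega_equiv
  have := Cfsg.Agent.S0283.result (F := K) (q := 3) (by rw [hK]; norm_num) 4 (by norm_num) (by norm_num)
  have : Nontrivial Wq := u.toEquiv.nontrivial
  exact ⟨IsSimpleGroup.isSimpleGroup_of_surjective u.symm.toMonoidHom u.symm.surjective, hcard⟩

theorem Wq_le : Wq ≤ triG := by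
  obtain ⟨hs, hc⟩ := Wq_simple
  have hWA : Wq ≤ autQ := by rintro _ ⟨x, -, rfl⟩; exact rho_mem_autQ x
  set H := triG.subgroupOf autQ with hH
  have hidx : H.index = 2 := by
    have h := H.card_mul_index
    rw [hH, Nat.card_congr (Subgroup.subgroupOfEquivOfLe triG_le).toEquiv, card_triG, card_autQ] at h
    exact Nat.eq_of_mul_eq_mul_left (n := 6531840) (by norm_num) (h.trans (by norm_num))
  haveI : H.Normal := Subgroup.normal_of_index_eq_two hidx
  set H' := H.comap (Subgroup.inclusion hWA) with hH'
  haveI : H'.Normal := Subgroup.Normal.comap inferInstance _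
  rcases Subgroup.Normal.eq_bot_or_eq_top (H := H') inferInstance with h | h
  · exfalso
    have h1 : H'.index ∣ 2 := by
      rw [hH', Subgroup.index_comap, ← hidx]
      exact Subgroup.relIndex_dvd_index_of_normal H _
    rw [h, Subgroup.index_bot, hc] at h1
    exact absurd (Nat.le_of_dvd two_pos h1) (by norm_num)
  · intro w hw
    have : (⟨w, hw⟩ : Wq) ∈ H' := h ▸ Subgroup.mem_top _
    exact this

/-- The group on all fixed classes. -/
noncomputable abbrev bigP : Subgroup (Equiv.Perm (Fin (2 ^ bigD.m))) := (actT bigCls).range

/-- The map to the triples. -/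
noncomputable def bigPi : bigP →* triG :=
  (actT bigCls).rangeRestrict.liftOfSurjective (actT bigCls).rangeRestrict_surjective
    ⟨triPerm bigCls bigBOK, by rw [MonoidHom.ker_rangeRestrict]; exact actT_le_triPerm bigCls bigBOK⟩

theorem bigPi_spec (g : bigD.C0) : bigPi ((actT bigCls).rangeRestrict g) = triPerm bigCls bigBOK g :=
  MonoidHom.liftOfRightInverse_comp_apply _ _ _ _ g

theorem bigPi_surjective : Function.Surjective bigPi := fun π => by
  obtain ⟨g, hg⟩ := triPerm_surjective bigCls bigBOK π
  exact ⟨_, (bigPi_spec g).trans hg⟩

theorem bigPi_ker : Nat.card bigPi.ker = 3 := by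
  obtain ⟨-, h3, -⟩ := big_kernels bigCls bigBOK rfl
  haveI : Finite Co0 := Nat.finite_of_card_ne_zero (by rw [card_co0]; norm_num)
  have e : bigPi.ker = (triPerm bigCls bigBOK).ker.map (actT bigCls).rangeRestrict := by
    ext x
    obtain ⟨g, rfl⟩ := (actT bigCls).rangeRestrict_surjective x
    constructor
    · intro h
      exact ⟨g, by show triPerm bigCls bigBOK g = 1; rw [← bigPi_spec]; exact h, rfl⟩
    · rintro ⟨g', hg', e⟩
      show bigPi _ = 1
      rw [← e, bigPi_spec]
      exact hg'
  set K := (triPerm bigCls bigBOK).ker
  let f := (actT bigCls).rangeRestrict.subgroupMap K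
  have h1 := f.ker.card_mul_index
  rw [Subgroup.index_ker, MonoidHom.range_eq_top.mpr (MonoidHom.subgroupMap_surjective _ _), Subgroup.card_top] at h1
  rw [e]
  have h2 : Nat.card f.ker = Nat.card (actT bigCls).ker := by
    refine Nat.card_congr ⟨fun x => ⟨x.1.1, ?_⟩, fun x => ⟨⟨x.1, actT_le_triPerm bigCls bigBOK x.2⟩, ?_⟩,
      fun _ => rfl, fun _ => rfl⟩
    · have := congrArg Subtype.val (congrArg Subtype.val (MonoidHom.mem_ker.mp x.2))
      exact this
    · exact Subtype.ext (Subtype.ext (MonoidHom.mem_ker.mp x.2))
  rw [h2, h3, mul_comm 3] at h1
  exact Nat.eq_of_mul_eq_mul_left (Nat.card_pos (α := (actT bigCls).ker)) h1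

/-- The representation. -/
noncomputable def bigRep : Rep bigCls bigP :=
  { prime := bigBOK.prime
    T := (actT bigCls).rangeRestrict
    surj := (actT bigCls).rangeRestrict_surjective
    ker := by rw [MonoidHom.ker_rangeRestrict]; exact (big_kernels bigCls bigBOK rfl).1
    triv := fun g h => Subtype.ext ((actT_eq_one bigCls).mpr h) }

theorem bigP_no_two (N : Subgroup bigP) (hN : N.Normal) (hp : IsPGroup 2 N) : N = ⊥ := by
  obtain ⟨hs, hc⟩ := Wq_simple
  haveI : Fact (Nat.Prime 2) := ⟨Nat.prime_two⟩
  set A := (N.map bigPi).map triG.subtype with hA
  have hAp : IsPGroup 2 A := (hp.map bigPi).map triG.subtype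
  have hAn : ∀ a ∈ A, ∀ g ∈ triG, g * a * g⁻¹ ∈ A := by
    rintro _ ⟨a, ha, rfl⟩ g hg
    exact ⟨_, (Subgroup.Normal.map hN bigPi bigPi_surjective).conj_mem a ha ⟨g, hg⟩, rfl⟩
  have hAbot : A.subgroupOf Wq = ⊥ := by
    have hn : (A.subgroupOf Wq).Normal := ⟨fun a ha v => hAn _ ha _ (Wq_le v.2)⟩
    refine (hn.eq_bot_or_eq_top).resolve_right fun e => ?_
    obtain ⟨n, hn'⟩ := (IsPGroup.iff_card (p := 2)).1 (hAp.comap_subtype (K := Wq))
    rw [show Subgroup.comap Wq.subtype A = A.subgroupOf Wq from rfl, e, Subgroup.card_top, hc] at hn'
    have : 3 ∣ 2 ^ n := hn' ▸ ⟨1088640, rfl⟩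
    exact absurd (Nat.le_of_dvd (by norm_num) (Nat.prime_three.dvd_of_dvd_pow this)) (by norm_num)
  have hA1 : ∀ a ∈ A, a = 1 := by
    intro a ha
    have haG : a ∈ triG := by obtain ⟨y, -, rfl⟩ := ha; exact y.2
    refine omega_centralizer fun w hw => ?_
    have hmem : a * w * a⁻¹ * w⁻¹ ∈ A := by
      rw [mul_assoc (a * w) a⁻¹ w⁻¹, mul_assoc a, ← mul_assoc w]
      exact mul_mem ha (hAn _ (inv_mem ha) w (Wq_le hw))
    have hW : a * w * a⁻¹ * w⁻¹ ∈ Wq := Wq.mul_mem (Wq_conj (triG_le haG) hw) (Wq.inv_mem hw)
    have h1 : (⟨_, hW⟩ : Wq) ∈ A.subgroupOf Wq := hmem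
    rw [hAbot, Subgroup.mem_bot] at h1
    have h2 : a * w * a⁻¹ * w⁻¹ = 1 := congrArg Subtype.val h1
    exact mul_inv_eq_iff_eq_mul.mp (mul_inv_eq_one.mp h2)
  have hle : N ≤ bigPi.ker := fun x hx =>
    Subtype.ext (hA1 _ ⟨bigPi x, Subgroup.mem_map_of_mem _ hx, rfl⟩)
  obtain ⟨n, hn⟩ := (IsPGroup.iff_card (p := 2)).1 hp
  have hd : Nat.card N ∣ 3 := bigPi_ker ▸ Subgroup.card_dvd_of_le hle
  refine Subgroup.card_eq_one.mp ?_
  rcases (Nat.dvd_prime Nat.prime_three).mp hd with h | h
  · exact h
  · exfalso
    have : 3 ∣ 2 ^ n := hn ▸ h ▸ dvd_rfl
    exact absurd (Nat.le_of_dvd (by norm_num) (Nat.prime_three.dvd_of_dvd_pow this)) (by norm_num)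

/-- The shape of a centraliser whose quotient is this group. -/
theorem large_shape {X : Type*} [Group X] (R : Subgroup X) [R.Normal] (e : X ⧸ R ≃* bigP) :
    ∃ (N M : Subgroup X) (_ : N.Normal) (_ : M.Normal), R ≤ N ∧ N ≤ M ∧ Nat.card N = 3 * Nat.card R ∧
      (∃ (K : Type) (_ : Field K) (_ : Fintype K), Fintype.card K = 9 ∧
        Nonempty (M ⧸ N.subgroupOf M ≃* Cfsg.PSU 4 K 3)) ∧ M.index = 2 := by
  obtain ⟨K, _, _, hK, hcard, ⟨u⟩⟩ := omega_equiv
  set W' := Wq.subgroupOf triG with hW'
  haveI hWn : W'.Normal := ⟨fun w hw g => Wq_conj (triG_le g.2) hw⟩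
  let p : X →* bigP := e.toMonoidHom.comp (QuotientGroup.mk' R)
  have hp : Function.Surjective p := e.surjective.comp (QuotientGroup.mk'_surjective R)
  have hpk : p.ker = R := by
    ext x
    rw [MonoidHom.mem_ker, MonoidHom.comp_apply]
    exact (map_eq_one_iff e e.injective).trans (QuotientGroup.eq_one_iff x)
  let f : X →* triG := bigPi.comp p
  have hf : Function.Surjective f := bigPi_surjective.comp hp
  set M := W'.comap f with hM
  have hNM : f.ker ≤ M := fun x hx => by
    show f x ∈ W'
    rw [MonoidHom.mem_ker.mp hx]; exact one_mem _
  have hRN : R ≤ f.ker := fun x hx => by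
    show bigPi (p x) = 1
    rw [show p x = 1 from MonoidHom.mem_ker.mp (hpk.symm ▸ hx), map_one]
  have hNc : Nat.card f.ker = 3 * Nat.card R := by
    set q := p.subgroupComap bigPi.ker
    have hq : Function.Surjective q := fun y => by
      obtain ⟨x, hx⟩ := hp y
      exact ⟨⟨x, by show p x ∈ bigPi.ker; rw [hx]; exact y.2⟩, Subtype.ext hx⟩
    have h := Subgroup.card_eq_card_quotient_mul_card_subgroup q.ker
    rw [Nat.card_congr (QuotientGroup.quotientKerEquivOfSurjective q hq).toEquiv, bigPi_ker] at h
    have hk : q.ker = R.subgroupOf (bigPi.ker.comap p) := by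
      ext x
      rw [MonoidHom.mem_ker, Subgroup.mem_subgroupOf, ← hpk, MonoidHom.mem_ker]
      exact ⟨fun h => congrArg Subtype.val h, fun h => Subtype.ext h⟩
    have hle : R ≤ bigPi.ker.comap p := hRN
    rw [hk, Nat.card_congr (Subgroup.subgroupOfEquivOfLe hle).toEquiv] at h
    exact h
  let r := f.subgroupComap W'
  have hr : Function.Surjective r := fun y => by
    obtain ⟨x, hx⟩ := hf y
    exact ⟨⟨x, by show f x ∈ W'; rw [hx]; exact y.2⟩, Subtype.ext hx⟩
  have hrk : r.ker = f.ker.subgroupOf M := by
    ext m
    exact ⟨fun h => congrArg Subtype.val h, fun h => Subtype.ext h⟩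
  refine ⟨f.ker, M, inferInstance, Subgroup.Normal.comap hWn f, hRN, hNM, hNc,
    ⟨K, inferInstance, inferInstance, hK, ⟨?_⟩⟩, ?_⟩
  · exact (QuotientGroup.quotientMulEquivOfEq hrk.symm).trans ((QuotientGroup.quotientKerEquivOfSurjective r hr).trans
      ((Subgroup.subgroupOfEquivOfLe Wq_le).trans u))
  · rw [hM, Subgroup.index_comap_of_surjective W' hf]
    have h := W'.card_mul_index
    rw [hW', Nat.card_congr (Subgroup.subgroupOfEquivOfLe Wq_le).toEquiv, card_triG,
      show Nat.card Wq = 3265920 from hcard] at h
    exact Nat.eq_of_mul_eq_mul_left (n := 3265920) (by norm_num) (h.trans (by norm_num))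

end Cfsg.Lib.Leech.MonsterSection
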