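import Cfsg.Agent.Leech.MonsterSection.DataSeven

/-!
# The checks for the element of order 7
-/

set_option autoImplicit false
set_option maxRecDepth 100000

namespace Cfsg.Lib.Leech.MonsterSection

theorem sevenCls : ClsOK sevenD where
  perm := by decide +kernel
  bs_ok := by decide +kernel
  bs_fix := by decide +kernel
  ws_ok := by decide +kernel
  unit := by decide +kernel
  lin_unit := by decide +kernel
  head := by decide +kernel
  ident := by decide +kernel
  reps_ok := reps_of_checks (by decide +kernel)
  ord := by decide +kernel

theorem sevenAct : ActOK sevenD sevenA where
  words := by decide +kernel
  acts := by decide +kernel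
  base := by decide +kernel
  cover := by decide +kernel
  trans := by decide +kernel
  bads := by decide +kernel
  levs := by decide +kernel
  head_ca := by decide +kernel
  head_cp := by decide +kernel
  fc_ok := by decide +kernel
  chain := by decide +kernel
  objs := by decide +kernel
  count := by decide +kernel
  prime := by show Nat.Prime 7; norm_num
  moved := by decide +kernel

end Cfsg.Lib.Leech.MonsterSection
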