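import Cfsg.Agent.Leech.MonsterSection.Hom

/-!
# An element inverting, and one squaring, the element of order 7
-/

set_option autoImplicit false
set_option maxRecDepth 100000

namespace Cfsg.Lib.Leech.MonsterSection

open Cfsg.Lib.Leech Stab

/-- The change of frame. -/
def invFrame : List Atom :=
  [.flip 4105386, .perm (4208762615905350034798768235830854483527332386411730997018752457865686017467397631297290427949420760675312074756, 9619685465108180311569575217520423290532891383393168256869212730603725557775320653110692487260129430833807884306), .xi, .perm (9619685465108180311569575217520423290532891383393168256869212730603725557775320653110692487260129430833807884306, 4208762615905350034798768235830854483527332386411730997018752457865686017467397631297290427949420760675312074756), .flip 4105386, .flip 3514235, .perm (601401209044701745421647987598557582667723689566259425629411340038832576154796162762535646482806660642173091856, 9619740507955098110158059534756910407786080134105356616906231644882659989942694774865879878838014140670046306306), .xi, .perm (9619740507955098110158059534756910407786080134105356616906231644882659989942694774865879878838014140670046306306, 601401209044701745421647987598557582667723689566259425629411340038832576154796162762535646482806660642173091856), .flip 3514235, .flip 11937475, .perm (8417286706134812459009406909673989961507380958703165107266201779910642333583388503734436753105567310240180862996, 2404971824961397689636744620796932995402816984156668047268100097941734207774735673909589428761674127925277097996),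 .xi]

/-- The inverse change of frame. -/
def invFrameInv : List Atom :=
  [.xi, .perm (2404971824961397689636744620796932995402816984156668047268100097941734207774735673909589428761674127925277097996, 8417286706134812459009406909673989961507380958703165107266201779910642333583388503734436753105567310240180862996), .flip 11937475, .flip 3514235, .perm (601401209044701745421647987598557582667723689566259425629411340038832576154796162762535646482806660642173091856, 9619740507955098110158059534756910407786080134105356616906231644882659989942694774865879878838014140670046306306), .xi, .perm (9619740507955098110158059534756910407786080134105356616906231644882659989942694774865879878838014140670046306306, 601401209044701745421647987598557582667723689566259425629411340038832576154796162762535646482806660642173091856), .flip 3514235, .flip 4105386, .perm (4208762615905350034798768235830854483527332386411730997018752457865686017467397631297290427949420760675312074756, 9619685465108180311569575217520423290532891383393168256869212730603725557775320653110692487260129430833807884306), .xi, .perm (9619685465108180311569575217520423290532891383393168256869212730603725557775320653110692487260129430833807884306, 4208762615905350034798768235830854483527332386411730997018752457865686017467397631297290427949420760675312074756), .flip 4105386]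

/-- The word of the inverting element. -/
def invFlip : ℕ := 9725425

/-- The inverse of the permutation of order 7. -/
def sevenSigInv : PermCert.PP := (9018476912606959197342513220286972540411634590554752419003812308605038951680725361714725207816192237368146395136, 5411225592699996514884407292405992917856418907017892305383843429109229511930760998151285759543438292055190798336)

/-- A permutation taking the element of order 7 to its square. -/
def sevenSq : PermCert.PP := (12625948406141295096689410984234720573208300824035042211604417108712350802732521423679285461651447340244674871296, 5411179723847551220139007167998563903922205117222771784623101073533930995926720499100347513696040370850821636096)

end Cfsg.Lib.Leech.MonsterSection
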