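import Cfsg.Agent.Leech.MonsterSection.Setup
import Cfsg.Agent.Leech.MonsterFusion

/-!
# The fixed points on the extraspecial subgroup of a standard element
-/

set_option autoImplicit false
set_option linter.style.haveILetI false
set_option linter.unusedSectionVars false

namespace Cfsg.Lib.Leech.MonsterSection

open Cfsg Cfsg.Lib.Golay Cfsg.Lib.Leech Stab
open scoped commutatorElement

/-- The fixed classes carry a non-degenerate form. -/
def NondegOK (D : Data) : Prop :=
  ∀ c < 2 ^ D.m, c ≠ 0 → ∃ j < D.m, dotInt (D.vecZ c D.m) (D.vecZ (2 ^ j) D.m) / 8 % 2 = 1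

/-- The number of fixed classes of vectors of squared length 64. -/
def Data.n64 (D : Data) : ℕ :=
  ((Finset.range (2 ^ D.m)).filter fun c => Cfsg.sqNorm (dec (D.reps.getD c 0)) = 64).card

theorem vec_zero (D : Data) : D.vec 0 = 0 := by
  have : ∀ j, D.vecN 0 j = 0 := by
    intro j
    induction j with
    | zero => rfl
    | succ j ih => rw [Data.vecN, ih, Nat.zero_testBit]; simp
  exact this D.m

variable {G : Type*} [Group G] [Finite G] {z : G} {Q : Subgroup (Subgroup.centralizer ({z} : Set G))} [Q.Normal]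
  {e : (Subgroup.centralizer ({z} : Set G)) ⧸ Q ≃* Spor.Co1} {ψ : leechLattice → Q ⧸ Subgroup.center Q} {D : Data}

theorem zC_comm (u : Subgroup.centralizer ({z} : Set G)) : u * zC z = zC z * u :=
  Subtype.ext (Subgroup.mem_centralizer_singleton_iff.mp u.2)

theorem zC_sq (hw : IsExtraspecialCentralizerSetting z Q 12) :
    zC z * zC z = (1 : Subgroup.centralizer ({z} : Set G)) := Subtype.ext (by
  have := pow_orderOf_eq_one z
  rw [hw.1, pow_two] at this
  exact this)

theorem zC_ne (hw : IsExtraspecialCentralizerSetting z Q 12) :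
    zC z ≠ (1 : Subgroup.centralizer ({z} : Set G)) := fun e => by
  have h : z = 1 := congrArg Subtype.val e
  have := hw.1
  rw [h, orderOf_one] at this
  omega

theorem center_cases' (hw : IsExtraspecialCentralizerSetting z Q 12) {a : Q} (ha : a ∈ Subgroup.center Q) :
    (a : Subgroup.centralizer ({z} : Set G)) = 1 ∨ (a : Subgroup.centralizer ({z} : Set G)) = zC z := by
  rcases centerQ_cases hw ha with h | h <;> rw [h]
  · exact Or.inl rfl
  · exact Or.inr rfl

/-- Classes with odd product give elements that do not commute. -/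
theorem not_commute_of_dot (hw : IsExtraspecialCentralizerSetting z Q 12) (hψ : IsLeechModTwoIso Q e ψ)
    {v w : leechLattice} {a b : Q} (ha : ψ v = QuotientGroup.mk a) (hb : ψ w = QuotientGroup.mk b)
    (hd : dotInt (v : GolayPt → ℤ) w / 8 % 2 = 1) : a * b ≠ b * a := by
  intro hc
  have hab := sq_iff hw hψ (v := v + w) (a := a * b) (by rw [hψ.1, ha, hb, QuotientGroup.mk_mul])
  rw [AddSubgroup.coe_add, sqNorm_add] at hab
  have h1 := sq_iff hw hψ ha
  have h2 := sq_iff hw hψ hb
  have e : a * b * (a * b) = a * a * (b * b) := by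
    calc a * b * (a * b) = a * (b * a) * b := by group
      _ = a * (a * b) * b := by rw [hc]
      _ = _ := by group
  obtain ⟨p, hp⟩ := sixteen_dvd_sqNorm v.2
  obtain ⟨q, hq⟩ := sixteen_dvd_sqNorm w.2
  obtain ⟨d, hd'⟩ := eight_dvd_dot v.2 w.2
  rw [hd', Int.mul_ediv_cancel_left _ (by norm_num)] at hd
  rw [hp, hq, hd'] at hab
  rw [hp] at h1
  rw [hq] at h2
  have key : ∀ {x : Q}, x * x ≠ 1 → x * x = ⟨zC z, zC_mem hw⟩ := fun {x} hx => by
    refine (centerQ_cases hw ?_).resolve_left hx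
    rw [← QuotientGroup.eq_one_iff, QuotientGroup.mk_mul]
    exact (psi_mul_comm hψ _ (QuotientGroup.mk x)).2 |>.symm ▸ (psi_mul_comm hψ (QuotientGroup.mk x) (QuotientGroup.mk x)).2
  have hz2 : (⟨zC z, zC_mem hw⟩ : Q) * ⟨zC z, zC_mem hw⟩ = 1 := Subtype.ext (zC_sq hw)
  have hz1 : (⟨zC z, zC_mem hw⟩ : Q) ≠ 1 := fun h => zC_ne hw (congrArg Subtype.val h)
  by_cases c1 : a * a = 1 <;> by_cases c2 : b * b = 1
  · rw [e, c1, c2, one_mul] at hab
    have := h1.mp c1; have := h2.mp c2; have := hab.mp rfl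
    omega
  · rw [e, c1, key c2, one_mul] at hab
    have := h1.mp c1; have n2 := mt h2.mpr c2; have := mt hab.mpr hz1
    omega
  · rw [e, key c1, c2, mul_one] at hab
    have n1 := mt h1.mpr c1; have := h2.mp c2; have := mt hab.mpr hz1
    omega
  · rw [e, key c1, key c2, hz2] at hab
    have n1 := mt h1.mpr c1; have n2 := mt h2.mpr c2; have := hab.mp rfl
    omega

/-- The fixed points on `Q`. -/
def fixQ (Q : Subgroup (Subgroup.centralizer ({z} : Set G))) (b : Subgroup.centralizer ({z} : Set G)) :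
    Subgroup (Subgroup.centralizer ({z} : Set G)) := Q ⊓ Subgroup.centralizer {b}

theorem mem_fixQ {b u : Subgroup.centralizer ({z} : Set G)} : u ∈ fixQ Q b ↔ u ∈ Q ∧ u * b = b * u := by
  simp [fixQ, Subgroup.mem_centralizer_singleton_iff]

variable (hw : IsExtraspecialCentralizerSetting z Q 12) (hψ : IsLeechModTwoIso Q e ψ) (hD : ClsOK D)
variable {b : Subgroup.centralizer ({z} : Set G)} {k : Co0} (hb : orderOf b = D.r) (hi : Img e k D.x b)

include hψ in
theorem exists_class (k : Co0) (q : Q) : ∃ v : leechLattice, ψ (k • v) = QuotientGroup.mk q := by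
  obtain ⟨y, hy⟩ := hψ.2.1 (QuotientGroup.mk q)
  exact ⟨k⁻¹ • y, by rw [smul_inv_smul]; exact hy⟩

include hψ hi in
theorem class_fixed {q : Q} (hq : (q : Subgroup.centralizer ({z} : Set G)) * b = b * q) {v : leechLattice}
    (hv : ψ (k • v) = QuotientGroup.mk q) : SameCls (D.x • v) v := by
  refine (psi_smul_eq_iff hψ k).mp ?_
  rw [img_class hψ hi hv, hv]
  congr 1
  exact Subtype.ext (mul_inv_eq_iff_eq_mul.mpr hq.symm)

include hw hψ hD hb hi in
/-- Every code is realised by a fixed point. -/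
theorem exists_fix (c : ℕ) : ∃ q : Q, (q : Subgroup.centralizer ({z} : Set G)) * b = b * q ∧
    ψ (k • D.vec c) = QuotientGroup.mk q := by
  obtain ⟨q, hq⟩ := QuotientGroup.mk_surjective (ψ (k • D.vec c))
  refine ⟨q, ?_, hq.symm⟩
  have h := img_class hψ hi hq.symm
  rw [vec_fixed hD, ← hq] at h
  rcases center_cases' hw (QuotientGroup.eq.mp h) with h1 | h1
  · simp only [Subgroup.coe_mul, Subgroup.coe_inv] at h1
    rw [inv_mul_eq_one, eq_mul_inv_iff_mul_eq] at h1
    exact h1
  · exfalso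
    simp only [Subgroup.coe_mul, Subgroup.coe_inv] at h1
    rw [inv_mul_eq_iff_eq_mul] at h1
    set u := (q : Subgroup.centralizer ({z} : Set G))
    have key : ∀ i : ℕ, b ^ i * u * (b ^ i)⁻¹ = u * zC z ^ i := by
      intro i
      induction i with
      | zero => simp
      | succ i ih =>
        calc b ^ (i + 1) * u * (b ^ (i + 1))⁻¹ = b * (b ^ i * u * (b ^ i)⁻¹) * b⁻¹ := by rw [pow_succ']; group
          _ = b * u * b⁻¹ * zC z ^ i := by
            rw [ih, mul_assoc (b * u) b⁻¹, ((Commute.pow_left (zC_comm b⁻¹).symm i).symm).eq]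
            group
          _ = _ := by rw [h1, mul_assoc, ← pow_succ']
    have h2 := key D.r
    rw [← hb, pow_orderOf_eq_one, one_mul, inv_one, mul_one, hb] at h2
    have h3 : zC z ^ D.r = (1 : Subgroup.centralizer ({z} : Set G)) := by
      calc zC z ^ D.r = u⁻¹ * (u * zC z ^ D.r) := by group
        _ = 1 := by rw [← h2, inv_mul_cancel]
    obtain ⟨j, hj⟩ := hD.ord.1
    rw [hj, pow_succ, pow_mul, pow_two, zC_sq hw, one_pow, one_mul] at h3
    exact zC_ne hw h3

include hψ hD hi in
theorem class_of_fix {q : Q} (hq : (q : Subgroup.centralizer ({z} : Set G)) * b = b * q) :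
    ∃ c < 2 ^ D.m, ψ (k • D.vec c) = QuotientGroup.mk q := by
  obtain ⟨v, hv⟩ := exists_class hψ k q
  refine ⟨D.codeV (v : GolayPt → ℤ), codeV_lt D _, ?_⟩
  rw [← hv]
  exact (psi_smul_eq_iff hψ k).mpr (class_code hD (class_fixed hψ hi hq hv)).symm

include hψ hD in
theorem code_unique {c c' : ℕ} (hc : c < 2 ^ D.m) (hc' : c' < 2 ^ D.m)
    (h : ψ (k • D.vec c) = ψ (k • D.vec c')) : c = c' := by
  rw [← code_vec hD hc, ← code_vec hD hc']
  exact codeV_congr hD ((psi_smul_eq_iff hψ k).mp h)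

include hw hψ hD in
theorem mem_center_of_zero {q : Q} (h : ψ (k • D.vec 0) = QuotientGroup.mk q) : q ∈ Subgroup.center Q := by
  rw [vec_zero, show k • (0 : leechLattice) = 0 from (toHom k).map_zero, psi_zero hψ] at h
  exact (QuotientGroup.eq_one_iff q).mp h.symm

include hw hψ hD hb hi in
/-- The centre of the fixed points. -/
theorem fix_center (hnd : NondegOK D) {q : Q} (hq : (q : Subgroup.centralizer ({z} : Set G)) * b = b * q)
    (hcen : ∀ p : Q, (p : Subgroup.centralizer ({z} : Set G)) * b = b * p → p * q = q * p) :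
    q ∈ Subgroup.center Q := by
  obtain ⟨c, hc, hcq⟩ := class_of_fix hψ hD hi hq
  rcases eq_or_ne c 0 with rfl | h0
  · exact mem_center_of_zero hw hψ hD hcq
  exfalso
  obtain ⟨j, -, hd⟩ := hnd c hc h0
  obtain ⟨p, hp, hpc⟩ := exists_fix hw hψ hD hb hi (2 ^ j)
  refine not_commute_of_dot hw hψ hcq hpc ?_ (hcen p hp).symm
  rw [dot_smul, show ((D.vec c : leechLattice) : GolayPt → ℤ) = D.vecZ c D.m from vecN_coe hD c D.m le_rfl,
    show ((D.vec (2 ^ j) : leechLattice) : GolayPt → ℤ) = D.vecZ (2 ^ j) D.m from vecN_coe hD _ D.m le_rfl]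
  exact hd

/-- A fixed point by code and sign. -/
noncomputable def fixPt (hw : IsExtraspecialCentralizerSetting z Q 12) (hψ : IsLeechModTwoIso Q e ψ) (hD : ClsOK D)
    (hb : orderOf b = D.r) (hi : Img e k D.x b) (p : Fin (2 ^ D.m) × Bool) : fixQ Q b :=
  ⟨((exists_fix hw hψ hD hb hi p.1).choose : Subgroup.centralizer ({z} : Set G)) * if p.2 then zC z else 1, by
    obtain ⟨hq, -⟩ := (exists_fix hw hψ hD hb hi p.1).choose_spec
    refine mem_fixQ.mpr ⟨mul_mem (SetLike.coe_mem _) (by split; exacts [zC_mem hw, one_mem _]), ?_⟩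
    cases p.2
    · simp only [Bool.false_eq_true, if_false, mul_one]; exact hq
    · simp only [if_true]
      rw [mul_assoc, ← zC_comm b, ← mul_assoc, hq, mul_assoc]⟩

theorem fixPt_class (p : Fin (2 ^ D.m) × Bool) :
    ψ (k • D.vec p.1) = QuotientGroup.mk ⟨_, (mem_fixQ.mp (fixPt hw hψ hD hb hi p).2).1⟩ := by
  obtain ⟨-, hq⟩ := (exists_fix hw hψ hD hb hi p.1).choose_spec
  rw [hq, QuotientGroup.eq]
  have : zC z ∈ Q := zC_mem hw
  rcases p with ⟨c, s⟩
  cases s
  · convert one_mem (Subgroup.center Q) using 1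
    exact Subtype.ext (by simp [fixPt])
  · refine Subgroup.mem_center_iff.mpr fun w => Subtype.ext ?_
    simp only [fixPt, Subgroup.coe_mul, Subgroup.coe_inv, if_true, inv_mul_cancel_left]
    exact zC_comm _

theorem fixPt_bijective : Function.Bijective (fixPt hw hψ hD hb hi) := by
  constructor
  · rintro ⟨c, s⟩ ⟨c', s'⟩ h
    have h1 := fixPt_class hw hψ hD hb hi (c, s)
    have h2 := fixPt_class hw hψ hD hb hi (c', s')
    have e0 : c = c' := Fin.ext (code_unique hψ hD c.2 c'.2 (h1.trans (by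
      rw [h2]; congr 1; exact Subtype.ext (by rw [h]))))
    subst e0
    have h3 := congrArg Subtype.val h
    simp only [fixPt, mul_right_inj] at h3
    cases s <;> cases s' <;> simp at h3 ⊢
    · exact zC_ne hw h3.symm
    · exact zC_ne hw (Subtype.ext h3)
  · rintro ⟨u, hu⟩
    obtain ⟨huQ, hub⟩ := mem_fixQ.mp hu
    obtain ⟨c, hc, hcq⟩ := class_of_fix hψ hD hi (q := ⟨u, huQ⟩) hub
    obtain ⟨-, hq⟩ := (exists_fix hw hψ hD hb hi c).choose_spec
    rcases center_cases' hw (QuotientGroup.eq.mp (hq.symm.trans hcq)) with h | h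
    · refine ⟨(⟨c, hc⟩, false), Subtype.ext ?_⟩
      simp only [Subgroup.coe_mul, Subgroup.coe_inv] at h
      simp only [fixPt, Bool.false_eq_true, if_false, mul_one]
      exact inv_mul_eq_one.mp h
    · refine ⟨(⟨c, hc⟩, true), Subtype.ext ?_⟩
      simp only [Subgroup.coe_mul, Subgroup.coe_inv] at h
      simp only [fixPt, if_true]
      rw [← h, mul_inv_cancel_left]

include hw hψ hD hb hi in
theorem card_fixQ : Nat.card (fixQ Q b) = 2 ^ (D.m + 1) := by
  rw [← Nat.card_eq_of_bijective _ (fixPt_bijective hw hψ hD hb hi), Nat.card_prod, Nat.card_eq_fintype_card,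
    Nat.card_eq_fintype_card, Fintype.card_fin, Fintype.card_bool, pow_succ]

theorem fused_code (p : Fin (2 ^ D.m) × Bool) :
    (IsConj z ((fixPt hw hψ hD hb hi p : Subgroup.centralizer ({z} : Set G)) : G) ∧
      ((fixPt hw hψ hD hb hi p : Subgroup.centralizer ({z} : Set G)) : G) ≠ z) ↔
      Cfsg.sqNorm (dec (D.reps.getD p.1 0)) = 64 := by
  have hcl := fixPt_class hw hψ hD hb hi p
  obtain ⟨h1, h2, h3⟩ := rep_spec hD p.1.2
  rw [fused_iff hw hψ ⟨_, (mem_fixQ.mp (fixPt hw hψ hD hb hi p).2).1⟩]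
  constructor
  · rintro ⟨v, hn, hv⟩
    have hk : SameCls (k⁻¹ • v) (D.vec p.1) := (psi_smul_eq_iff hψ k).mp (by rw [smul_inv_smul, hv, hcl])
    have hn' : Cfsg.sqNorm ((k⁻¹ • v : leechLattice) : GolayPt → ℤ) = 64 := (k⁻¹.2.2 v).trans hn
    rw [← h3, (s5551 _ _ (k⁻¹ • v).2 h2 hn'.le (h1.trans hk.symm).cong).1, hn']
  · intro h
    refine ⟨k • kv (D.reps.getD p.1 0), (k.2.2 _).trans (by rw [h3]; exact h), ?_⟩
    rw [← hcl]
    exact (psi_smul_eq_iff hψ k).mpr h1

include hw hψ hD hb hi in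
/-- The number of fixed conjugates of the central involution. -/
theorem count_fused : Set.ncard {u : Subgroup.centralizer ({z} : Set G) |
    u ∈ fixQ Q b ∧ IsConj z (u : G)} = 1 + 2 * D.n64 := by
  classical
  set f := fixPt hw hψ hD hb hi
  obtain ⟨⟨c0, s0⟩, hp0⟩ := (fixPt_bijective hw hψ hD hb hi).2 ⟨zC z, mem_fixQ.mpr ⟨zC_mem hw, (zC_comm b).symm⟩⟩
  set S : Finset (Fin (2 ^ D.m) × Bool) :=
    insert (c0, s0) ((Finset.univ.filter fun c : Fin (2 ^ D.m) =>
      Cfsg.sqNorm (dec (D.reps.getD c 0)) = 64) ×ˢ Finset.univ) with hS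
  have hset : {u : Subgroup.centralizer ({z} : Set G) | u ∈ fixQ Q b ∧ IsConj z (u : G)} =
      ↑(S.image fun p => (f p : Subgroup.centralizer ({z} : Set G))) := by
    ext u
    simp only [Set.mem_setOf_eq, Finset.coe_image, Set.mem_image, Finset.mem_coe]
    constructor
    · rintro ⟨hu, hc⟩
      obtain ⟨p, hp⟩ := (fixPt_bijective hw hψ hD hb hi).2 ⟨u, hu⟩
      refine ⟨p, ?_, congrArg Subtype.val hp⟩
      by_cases hz : (u : G) = z
      · have : p = (c0, s0) := (fixPt_bijective hw hψ hD hb hi).1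
          (hp.trans (Eq.trans (Subtype.ext (Subtype.ext hz)) hp0.symm))
        rw [this, hS]; exact Finset.mem_insert_self _ _
      · refine Finset.mem_insert_of_mem (Finset.mem_product.mpr ⟨Finset.mem_filter.mpr ⟨Finset.mem_univ _, ?_⟩,
          Finset.mem_univ _⟩)
        exact (fused_code hw hψ hD hb hi p).mp (by rw [hp]; exact ⟨hc, hz⟩)
    · rintro ⟨p, hp, rfl⟩
      refine ⟨(f p).2, ?_⟩
      rcases Finset.mem_insert.mp hp with rfl | hp
      · simp only [f, hp0]; exact IsConj.refl z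
      · exact ((fused_code hw hψ hD hb hi p).mpr (Finset.mem_filter.mp (Finset.mem_product.mp hp).1).2).1
  have hinj : Function.Injective fun p => (f p : Subgroup.centralizer ({z} : Set G)) :=
    Subtype.val_injective.comp (fixPt_bijective hw hψ hD hb hi).1
  rw [hset, Set.ncard_coe_finset, Finset.card_image_of_injective S hinj, hS, Finset.card_insert_of_notMem]
  · rw [Finset.card_product, Finset.card_univ, Fintype.card_bool]
    have : (Finset.univ.filter fun c : Fin (2 ^ D.m) => Cfsg.sqNorm (dec (D.reps.getD c 0)) = 64).card = D.n64 := by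
      rw [Data.n64]
      refine Finset.card_bij (fun c _ => (c : ℕ)) (fun c hc => ?_) (fun c _ c' _ h => Fin.ext h) fun c hc => ?_
      · simp only [Finset.mem_filter, Finset.mem_range] at hc ⊢
        exact ⟨c.2, hc.2⟩
      · simp only [Finset.mem_filter, Finset.mem_range] at hc
        exact ⟨⟨c, hc.1⟩, Finset.mem_filter.mpr ⟨Finset.mem_univ _, hc.2⟩, rfl⟩
    rw [this]; ring
  · intro h
    have := ((fused_code hw hψ hD hb hi (c0, s0)).mpr (Finset.mem_filter.mp (Finset.mem_product.mp h).1).2).2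
    rw [hp0] at this
    exact this rfl

end Cfsg.Lib.Leech.MonsterSection
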