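import Cfsg.Agent.Leech.MonsterSection.OkSeven
import Cfsg.Agent.Leech.MonsterSection.DataSevenInv
import Cfsg.Agent.Leech.MonsterSection.Fixed

/-!
# The checks for the elements inverting and squaring the element of order 7
-/

set_option autoImplicit false
set_option maxRecDepth 100000

namespace Cfsg.Lib.Leech.MonsterSection

open Cfsg Cfsg.Lib.Golay Cfsg.Lib.Leech Stab
open Cfsg.Lib.PermCert (ap)

/-- The word of the inverting element. -/
def invWord : List Atom := invFrame ++ [Atom.flip invFlip] ++ invFrameInv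

theorem invWord_ok : invWord.all (·.ok) = true ∧ invFrame.all (·.ok) = true ∧ invFrameInv.all (·.ok) = true ∧
    inCode invFlip = true ∧ preserves sevenSigInv = true ∧ preserves sevenSq = true ∧
    invFlip.testBit 0 = true ∧ invFlip.testBit 1 = false := by
  decide +kernel

theorem invFrame_check : Mult.eqW (invFrame ++ invFrameInv) [] = true ∧
    Mult.eqW (invWord ++ sevenD.xw) ([Atom.perm sevenSigInv] ++ invWord) = true ∧
    Mult.eqW ([Atom.perm sevenSigInv] ++ sevenD.xw) [] = true ∧
    Mult.eqW ([Atom.perm sevenSq] ++ sevenD.xw) (sevenD.xw ++ sevenD.xw ++ [Atom.perm sevenSq]) = true := by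
  decide +kernel

theorem seven_orb_closed : (sevenA.all fun a => sevenD.orb.all fun c => decide (c < 2 ^ sevenD.m) &&
    sevenD.orb.contains (linK a.2.1 c sevenD.m)) = true := by
  decide +kernel

theorem seven_moves : sevenD.orb.contains (sevenD.codeK (evalW invWord (sevenD.reps.getD 41 0))) = false ∧
    (inL (dec (sevenD.reps.getD 41 0)) && decide (Cfsg.sqNorm (dec (sevenD.reps.getD 41 0)) ≤ 64)) = true := by
  decide +kernel

theorem seven_norms : ∀ c ∈ [6, 17, 23, 41], Cfsg.sqNorm (dec (sevenD.reps.getD c 0)) = 64 := by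
  decide +kernel

theorem seven_partner : ∃ c < 64, Cfsg.sqNorm (dec (sevenD.reps.getD c 0)) = 64 ∧
    dotInt (sevenD.vecZ 41 sevenD.m) (sevenD.vecZ c sevenD.m) / 8 % 2 = 1 := by
  decide +kernel

theorem sevenNondeg : NondegOK sevenD := by
  show ∀ c < 2 ^ sevenD.m, c ≠ 0 → ∃ j < sevenD.m,
    Cfsg.dotInt (sevenD.vecZ c sevenD.m) (sevenD.vecZ (2 ^ j) sevenD.m) / 8 % 2 = 1
  decide +kernel

end Cfsg.Lib.Leech.MonsterSection
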