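import Cfsg.Agent.Leech.MonsterSection.Local
import Cfsg.Agent.Leech.MonsterSection.DataSeven
import Cfsg.Agent.Leech.MonsterSection.DataFive
import Cfsg.Agent.Leech.MonsterSection.DataThree
import Cfsg.Agent.LargeFischer.EightLocal
import Cfsg.Prelude.Def_MonsterType

/-!
# The three quotient groups: SL(3, 2), the wreath product of A₅ by a group of order two, and A₉
-/

set_option autoImplicit false
set_option maxRecDepth 100000
set_option linter.style.haveILetI false

namespace Cfsg.Lib.Leech.MonsterSection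

open Cfsg
open Cfsg.Lib.PermCert (PP ap valid Level check grp topGens size)
open scoped commutatorElement Matrix

/-- The group of the chain is contained in a subgroup holding its generators. -/
theorem grp_le {n : ℕ} {c : List Level} {S : Subgroup (Equiv.Perm (Fin n))}
    (h : ∀ s ∈ topGens c, PermCert.perm n s ∈ S) : grp n c ≤ S := by
  refine (Subgroup.closure_le _).mpr ?_
  rintro _ ⟨s, hs, rfl⟩
  exact h s hs

theorem eq_bot_of_equiv {X Y : Type*} [Group X] [Group Y] (f : X ≃* Y)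
    (h : ∀ N : Subgroup Y, N.Normal → Group.IsSolvable N → N = ⊥) (N : Subgroup X) (hN : N.Normal)
    (hs : Group.IsSolvable N) : N = ⊥ := by
  haveI := hs
  have := h (N.map f.toMonoidHom) (Subgroup.Normal.map hN _ f.surjective)
    (Group.isSolvable_of_surjective (f := f.toMonoidHom.subgroupMap N) (MonoidHom.subgroupMap_surjective _ _))
  exact (Subgroup.map_eq_bot_iff_of_injective _ f.injective).mp this

theorem no_solvable_normal {X : Type*} [Group X] [IsSimpleGroup X] (hX : ∃ a b : X, a * b ≠ b * a)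
    (N : Subgroup X) (hN : N.Normal) (hs : Group.IsSolvable N) : N = ⊥ := by
  rcases hN.eq_bot_or_eq_top with h | h
  · exact h
  · exfalso
    subst h
    haveI := hs
    haveI : Group.IsSolvable X :=
      Group.isSolvable_of_surjective (f := (⊤ : Subgroup X).subtype) fun x => ⟨⟨x, Subgroup.mem_top x⟩, rfl⟩
    obtain ⟨a, b, hab⟩ := hX
    exact hab (IsSimpleGroup.comm_iff_isSolvable.mpr inferInstance a b)

/-! ### SL(3, 2) -/


/-- The vector with the given binary digits plus one. -/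
def vecOf (i : Fin 7) : Fin 3 → ZMod 2 := fun j => if ((i : ℕ) + 1).testBit j then 1 else 0

/-- The position of a vector. -/
def idxOf (v : Fin 3 → ZMod 2) : Fin 7 := Fin.ofNat 7 ((v 0).val + 2 * (v 1).val + 4 * (v 2).val + 6)

theorem vec_facts : (∀ i, idxOf (vecOf i) = i ∧ vecOf i ≠ 0) ∧ ∀ v, v ≠ 0 → vecOf (idxOf v) = v := by
  decide +kernel

theorem mulVec_ne {M : Matrix.SpecialLinearGroup (Fin 3) (ZMod 2)} (i : Fin 7) :
    (M : Matrix (Fin 3) (Fin 3) (ZMod 2)) *ᵥ vecOf i ≠ 0 := fun h => by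
  refine (vec_facts.1 i).2 ?_
  have := congrArg (fun v => ((M⁻¹ : Matrix.SpecialLinearGroup (Fin 3) (ZMod 2)) :
    Matrix (Fin 3) (Fin 3) (ZMod 2)) *ᵥ v) h
  simp only [Matrix.mulVec_mulVec, ← Matrix.SpecialLinearGroup.coe_mul, inv_mul_cancel,
    Matrix.SpecialLinearGroup.coe_one, Matrix.one_mulVec, Matrix.mulVec_zero] at this
  exact this

/-- The action on the nonzero vectors. -/
def phiSeven : Matrix.SpecialLinearGroup (Fin 3) (ZMod 2) →* Equiv.Perm (Fin 7) :=
  MonoidHom.mk'
    (fun M =>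
      { toFun := fun i => idxOf ((M : Matrix (Fin 3) (Fin 3) (ZMod 2)) *ᵥ vecOf i)
        invFun := fun i => idxOf (((M⁻¹ : Matrix.SpecialLinearGroup (Fin 3) (ZMod 2)) :
          Matrix (Fin 3) (Fin 3) (ZMod 2)) *ᵥ vecOf i)
        left_inv := fun i => by
          show idxOf _ = i
          rw [vec_facts.2 _ (mulVec_ne i), Matrix.mulVec_mulVec, ← Matrix.SpecialLinearGroup.coe_mul,
            inv_mul_cancel, Matrix.SpecialLinearGroup.coe_one, Matrix.one_mulVec, (vec_facts.1 i).1]
        right_inv := fun i => by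
          show idxOf _ = i
          rw [vec_facts.2 _ (mulVec_ne i), Matrix.mulVec_mulVec, ← Matrix.SpecialLinearGroup.coe_mul,
            mul_inv_cancel, Matrix.SpecialLinearGroup.coe_one, Matrix.one_mulVec, (vec_facts.1 i).1] })
    fun M N => Equiv.ext fun i => by
      show idxOf _ = idxOf _
      simp only [Equiv.coe_fn_mk]
      rw [vec_facts.2 _ (mulVec_ne i), Matrix.mulVec_mulVec, ← Matrix.SpecialLinearGroup.coe_mul]

theorem phiSeven_injective : Function.Injective phiSeven := by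
  refine (injective_iff_map_eq_one _).mpr fun M hM => ?_
  refine Subtype.ext (Matrix.ext_of_mulVec_single fun j => ?_)
  have hj : (Pi.single j 1 : Fin 3 → ZMod 2) ≠ 0 := fun h => by simpa using congrFun h j
  have h := congrArg (fun π : Equiv.Perm (Fin 7) => vecOf (π (idxOf (Pi.single j 1)))) hM
  simp only [Equiv.Perm.one_apply, vec_facts.2 _ hj] at h
  rw [show phiSeven M (idxOf (Pi.single j 1)) = idxOf ((M : Matrix (Fin 3) (Fin 3) (ZMod 2)) *ᵥ
    vecOf (idxOf (Pi.single j 1))) from rfl, vec_facts.2 _ (mulVec_ne _), vec_facts.2 _ hj] at h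
  rw [h, Matrix.SpecialLinearGroup.coe_one, Matrix.one_mulVec]

theorem seven_checks : ((topGens sevenD.chain).all fun s => valid 7 s) = true ∧
    (∀ s ∈ topGens sevenD.chain, ∃ M : Matrix.SpecialLinearGroup (Fin 3) (ZMod 2),
      ∀ i : Fin 7, (idxOf ((M : Matrix (Fin 3) (Fin 3) (ZMod 2)) *ᵥ vecOf i) : ℕ) = ap s.1 i) ∧
    check 7 sevenD.chain = true ∧ size sevenD.chain = 168 := by
  decide +kernel

theorem seven_target : Nonempty (grp sevenD.n sevenD.chain ≃* Matrix.SpecialLinearGroup (Fin 3) (ZMod 2)) ∧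
    ∀ N : Subgroup (grp sevenD.n sevenD.chain), N.Normal → Group.IsSolvable N → N = ⊥ := by
  obtain ⟨hv, hM, hc, hs⟩ := seven_checks
  have hle : grp 7 sevenD.chain ≤ phiSeven.range := grp_le fun s hsm => by
    obtain ⟨M, hMi⟩ := hM s hsm
    refine ⟨M, Equiv.ext fun i => Fin.ext ?_⟩
    rw [PermCert.perm_apply (List.all_eq_true.mp hv s hsm)]
    exact hMi i
  have heq : grp 7 sevenD.chain = phiSeven.range := Subgroup.eq_of_le_of_card_ge hle (by
    rw [PermCert.card_grp hc, hs, Nat.card_congr (MonoidHom.ofInjective phiSeven_injective).symm.toEquiv,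
      Cfsg.Lib.LargeFischer.card_L32])
  let f : grp sevenD.n sevenD.chain ≃* Matrix.SpecialLinearGroup (Fin 3) (ZMod 2) :=
    (MulEquiv.subgroupCongr heq).trans (MonoidHom.ofInjective phiSeven_injective).symm
  haveI := Cfsg.Lib.LargeFischer.simple_L32
  refine ⟨⟨f⟩, eq_bot_of_equiv f (no_solvable_normal ?_)⟩
  decide +kernel

/-! ### Encoding -/

/-- The tables of a permutation. -/
def encPP {n : ℕ} (π : Equiv.Perm (Fin n)) : PP :=
  (Cfsg.Lib.Golay.pack (List.ofFn fun i => (π i : ℕ)), Cfsg.Lib.Golay.pack (List.ofFn fun i => (π.symm i : ℕ)))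

theorem encPP_spec {n : ℕ} (hn : n ≤ 65536) (π : Equiv.Perm (Fin n)) (h : valid n (encPP π) = true) :
    PermCert.perm n (encPP π) = π := by
  refine Equiv.ext fun i => Fin.ext ?_
  rw [PermCert.perm_apply h, encPP, Cfsg.Lib.Golay.ap_pack _ (fun v hv => ?_) i (by simp)]
  · simp
  · obtain ⟨j, rfl⟩ := List.mem_ofFn.mp hv
    exact lt_of_lt_of_le (π j).2 hn

/-! ### The wreath product -/

/-- The relabelling. -/
def tenEquiv : Fin 5 ⊕ Fin 5 ≃ Fin 10 := finSumFinEquiv

/-- The base group. -/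
def baseHom : alternatingGroup (Fin 5) × alternatingGroup (Fin 5) →* Equiv.Perm (Fin 5 ⊕ Fin 5) :=
  MonoidHom.mk' (fun p => Equiv.Perm.sumCongr (p.1 : Equiv.Perm (Fin 5)) (p.2 : Equiv.Perm (Fin 5)))
    fun p q => by rw [Equiv.Perm.sumCongr_mul]; rfl

theorem baseHom_injective : Function.Injective baseHom := by
  intro p q h
  refine Prod.ext (Subtype.ext (Equiv.ext fun i => ?_)) (Subtype.ext (Equiv.ext fun i => ?_))
  · simpa [baseHom] using Equiv.congr_fun h (Sum.inl i)
  · simpa [baseHom] using Equiv.congr_fun h (Sum.inr i)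

theorem base_le : baseHom.range ≤ alternatingFiveWreathTwo := by
  rintro _ ⟨p, rfl⟩
  exact Subgroup.subset_closure (Or.inl ⟨p.1, p.2, rfl⟩)

theorem wreath_normalises :
    alternatingFiveWreathTwo ≤ Subgroup.normalizer (baseHom.range : Set (Equiv.Perm (Fin 5 ⊕ Fin 5))) := by
  refine (Subgroup.closure_le _).mpr ?_
  rintro g (⟨σ, τ, rfl⟩ | hg)
  · exact Subgroup.le_normalizer ⟨(σ, τ), rfl⟩
  · rw [Set.mem_singleton_iff] at hg
    subst hg
    have key : ∀ p, (Equiv.sumComm (Fin 5) (Fin 5) : Equiv.Perm (Fin 5 ⊕ Fin 5)) * baseHom p *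
        (Equiv.sumComm (Fin 5) (Fin 5) : Equiv.Perm (Fin 5 ⊕ Fin 5))⁻¹ = baseHom (p.2, p.1) := fun p =>
      Equiv.ext fun x => by cases x <;> rfl
    refine Subgroup.mem_normalizer_iff.mpr fun x => ⟨?_, ?_⟩
    · rintro ⟨p, rfl⟩
      exact ⟨(p.2, p.1), (key p).symm⟩
    · rintro ⟨p, hp⟩
      refine ⟨(p.2, p.1), ?_⟩
      have h1 := key (p.2, p.1)
      rw [show ((p.2, p.1) : alternatingGroup (Fin 5) × alternatingGroup (Fin 5)).2 = p.1 from rfl,
        show ((p.2, p.1) : alternatingGroup (Fin 5) × alternatingGroup (Fin 5)).1 = p.2 from rfl, hp] at h1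
      exact mul_left_cancel (mul_right_cancel h1)

theorem base_separates : ∀ p q : Fin 5 ⊕ Fin 5, p ≠ q → ∃ σ : alternatingGroup (Fin 5),
    (Equiv.Perm.sumCongr (σ : Equiv.Perm (Fin 5)) 1 p = p ∧ Equiv.Perm.sumCongr (σ : Equiv.Perm (Fin 5)) 1 q ≠ q) ∨
    (Equiv.Perm.sumCongr 1 (σ : Equiv.Perm (Fin 5)) p = p ∧ Equiv.Perm.sumCongr 1 (σ : Equiv.Perm (Fin 5)) q ≠ q) := by
  decide +kernel

theorem base_centraliser {g : Equiv.Perm (Fin 5 ⊕ Fin 5)} (h : ∀ p, g * baseHom p = baseHom p * g) : g = 1 := by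
  refine Equiv.ext fun x => ?_
  by_contra hne
  obtain ⟨σ, ⟨h1, h2⟩ | ⟨h1, h2⟩⟩ := base_separates x (g x) (Ne.symm hne)
  · have := Equiv.congr_fun (h (σ, 1)) x
    exact h2 (this.symm.trans (congrArg g h1))
  · have := Equiv.congr_fun (h (1, σ)) x
    exact h2 (this.symm.trans (congrArg g h1))

theorem wreath_no_solvable (N : Subgroup alternatingFiveWreathTwo) (hN : N.Normal) (hs : Group.IsSolvable N) :
    N = ⊥ := by
  haveI := hs
  haveI : IsSimpleGroup (alternatingGroup (Fin 5)) := alternatingGroup.isSimpleGroup (by simp)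
  have hna : ∃ a b : alternatingGroup (Fin 5), a * b ≠ b * a := by decide +kernel
  set κ : alternatingGroup (Fin 5) × alternatingGroup (Fin 5) →* alternatingFiveWreathTwo :=
    baseHom.codRestrict _ fun p => base_le ⟨p, rfl⟩ with hκ
  have hκi : Function.Injective κ := fun p q h => baseHom_injective (congrArg Subtype.val h)
  set M := N.comap κ with hM
  haveI : M.Normal := Subgroup.Normal.comap hN κ
  have hMs : Group.IsSolvable M := by
    let f : M →* N := (κ.comp M.subtype).codRestrict N fun m => m.2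
    exact Group.isSolvable_of_isSolvable_injective (f := f) fun a b h =>
      Subtype.ext (hκi (congrArg (fun n : N => (n : alternatingFiveWreathTwo)) h))
  have hbot : M = ⊥ := by
    haveI := hMs
    have h1 := no_solvable_normal hna (M.map (MonoidHom.fst _ _))
      (Subgroup.Normal.map inferInstance _ fun a => ⟨(a, 1), rfl⟩)
      (Group.isSolvable_of_surjective (f := (MonoidHom.fst _ _).subgroupMap M) (MonoidHom.subgroupMap_surjective _ _))
    have h2 := no_solvable_normal hna (M.map (MonoidHom.snd _ _))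
      (Subgroup.Normal.map inferInstance _ fun a => ⟨(1, a), rfl⟩)
      (Group.isSolvable_of_surjective (f := (MonoidHom.snd _ _).subgroupMap M) (MonoidHom.subgroupMap_surjective _ _))
    refine (Subgroup.eq_bot_iff_forall _).mpr fun p hp => Prod.ext ?_ ?_
    · exact Subgroup.mem_bot.mp (h1 ▸ Subgroup.mem_map_of_mem _ hp)
    · exact Subgroup.mem_bot.mp (h2 ▸ Subgroup.mem_map_of_mem _ hp)
  refine (Subgroup.eq_bot_iff_forall _).mpr fun g hg => Subtype.ext (base_centraliser fun p => ?_)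
  have hc : (g : Equiv.Perm (Fin 5 ⊕ Fin 5)) * baseHom p * (g : Equiv.Perm (Fin 5 ⊕ Fin 5))⁻¹ *
      (baseHom p)⁻¹ ∈ baseHom.range :=
    mul_mem ((Subgroup.mem_normalizer_iff.mp (wreath_normalises g.2) _).mp ⟨p, rfl⟩) (inv_mem ⟨p, rfl⟩)
  obtain ⟨r, hr⟩ := hc
  have hrM : r ∈ M := by
    show κ r ∈ N
    have h1 : g * (κ p * g⁻¹ * (κ p)⁻¹) ∈ N := mul_mem hg (hN.conj_mem _ (inv_mem hg) (κ p))
    convert h1 using 1
    refine Subtype.ext ?_
    show baseHom r = _
    rw [hr]
    simp only [hκ, MonoidHom.codRestrict_apply, Subgroup.coe_mul, Subgroup.coe_inv]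
    group
  rw [hbot, Subgroup.mem_bot] at hrM
  rw [hrM, map_one] at hr
  exact mul_inv_eq_iff_eq_mul.mp (mul_inv_eq_one.mp hr.symm)

theorem five_checks : check 10 fiveD.chain = true ∧ ((topGens fiveD.chain).all fun s => valid 10 s) = true ∧
    (∀ σ : alternatingGroup (Fin 5), ∀ w ∈
      [encPP (tenEquiv.permCongrHom (Equiv.Perm.sumCongr (σ : Equiv.Perm (Fin 5)) 1)),
       encPP (tenEquiv.permCongrHom (Equiv.Perm.sumCongr 1 (σ : Equiv.Perm (Fin 5))))],
      valid 10 w = true ∧ PermCert.sift 10 fiveD.chain [w] = true) ∧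
    (valid 10 (encPP (tenEquiv.permCongrHom (Equiv.sumComm (Fin 5) (Fin 5)))) = true ∧
      PermCert.sift 10 fiveD.chain [encPP (tenEquiv.permCongrHom (Equiv.sumComm (Fin 5) (Fin 5)))] = true) ∧
    (∀ s ∈ topGens fiveD.chain, ∃ σ : alternatingGroup (Fin 5),
      (∀ i : Fin 5, ap s.1 i % 5 = ((σ : Equiv.Perm (Fin 5)) i : ℕ)) ∧
      ∃ τ : alternatingGroup (Fin 5), (∀ i : Fin 5, ap s.1 (5 + i) % 5 = ((τ : Equiv.Perm (Fin 5)) i : ℕ)) ∧
        ((∀ i : Fin 5, ap s.1 i < 5 ∧ 5 ≤ ap s.1 (5 + i) ∧ ap s.1 (5 + i) < 10) ∨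
          ∀ i : Fin 5, 5 ≤ ap s.1 i ∧ ap s.1 i < 10 ∧ ap s.1 (5 + i) < 5)) := by
  decide +kernel

theorem tenEquiv_val : ∀ y, (tenEquiv y : ℕ) = Sum.elim (fun i : Fin 5 => (i : ℕ)) (fun i : Fin 5 => 5 + (i : ℕ)) y := by
  decide +kernel

theorem five_eq : grp 10 fiveD.chain = alternatingFiveWreathTwo.map tenEquiv.permCongrHom.toMonoidHom := by
  obtain ⟨hc, hv, hbase, hsw, hgen⟩ := five_checks
  have mem_of : ∀ π : Equiv.Perm (Fin 10), valid 10 (encPP π) = true →
      PermCert.sift 10 fiveD.chain [encPP π] = true → π ∈ grp 10 fiveD.chain := fun π h1 h2 => by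
    have := PermCert.mem_grp_of_sift hc (w := [encPP π]) (by simpa using h1) h2
    simpa [PermCert.wperm, encPP_spec (by norm_num) π h1] using this
  refine le_antisymm (grp_le fun s hs => ?_) ?_
  · obtain ⟨σ, hσ, τ, hτ, hblk⟩ := hgen s hs
    have hsv := List.all_eq_true.mp hv s hs
    rcases hblk with h | h
    · refine ⟨Equiv.Perm.sumCongr (σ : Equiv.Perm (Fin 5)) (τ : Equiv.Perm (Fin 5)),
        Subgroup.subset_closure (Or.inl ⟨σ, τ, rfl⟩), Equiv.ext fun x => Fin.ext ?_⟩
      obtain ⟨y, rfl⟩ := tenEquiv.surjective x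
      rw [PermCert.perm_apply hsv]
      cases y with
      | inl i =>
        have := hσ i; have := (h i).1
        simp [Equiv.permCongrHom, tenEquiv_val]
        omega
      | inr i =>
        have := hτ i; have := (h i).2
        simp [Equiv.permCongrHom, tenEquiv_val]
        omega
    · refine ⟨(Equiv.sumComm (Fin 5) (Fin 5) : Equiv.Perm (Fin 5 ⊕ Fin 5)) *
          Equiv.Perm.sumCongr (σ : Equiv.Perm (Fin 5)) (τ : Equiv.Perm (Fin 5)),
        mul_mem (Subgroup.subset_closure (Or.inr rfl)) (Subgroup.subset_closure (Or.inl ⟨σ, τ, rfl⟩)),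
        Equiv.ext fun x => Fin.ext ?_⟩
      obtain ⟨y, rfl⟩ := tenEquiv.surjective x
      rw [PermCert.perm_apply hsv]
      cases y with
      | inl i =>
        have := hσ i; have := h i
        simp [Equiv.permCongrHom, tenEquiv_val]
        omega
      | inr i =>
        have := hτ i; have := h i
        simp [Equiv.permCongrHom, tenEquiv_val]
        omega
  · rw [Subgroup.map_le_iff_le_comap]
    refine (Subgroup.closure_le _).mpr ?_
    rintro g (⟨σ, τ, rfl⟩ | hg)
    · have e : Equiv.Perm.sumCongr (σ : Equiv.Perm (Fin 5)) (τ : Equiv.Perm (Fin 5)) =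
          Equiv.Perm.sumCongr (σ : Equiv.Perm (Fin 5)) 1 * Equiv.Perm.sumCongr 1 (τ : Equiv.Perm (Fin 5)) := by
        rw [Equiv.Perm.sumCongr_mul, mul_one, one_mul]
      show tenEquiv.permCongrHom _ ∈ grp 10 fiveD.chain
      rw [e, map_mul]
      have h1 := hbase σ _ List.mem_cons_self
      have h2 := hbase τ _ (List.mem_cons_of_mem _ List.mem_cons_self)
      exact mul_mem (mem_of _ h1.1 h1.2) (mem_of _ h2.1 h2.2)
    · rw [Set.mem_singleton_iff] at hg
      subst hg
      exact mem_of _ hsw.1 hsw.2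

theorem five_target : Nonempty (grp fiveD.n fiveD.chain ≃* alternatingFiveWreathTwo) ∧
    ∀ N : Subgroup (grp fiveD.n fiveD.chain), N.Normal → Group.IsSolvable N → N = ⊥ := by
  let f : grp 10 fiveD.chain ≃* alternatingFiveWreathTwo :=
    (MulEquiv.subgroupCongr five_eq).trans
      (alternatingFiveWreathTwo.equivMapOfInjective _ tenEquiv.permCongrHom.injective).symm
  exact ⟨⟨f⟩, eq_bot_of_equiv f wreath_no_solvable⟩

/-! ### A₉ -/

theorem nine_checks : check 9 threeD.chain = true ∧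
    (∀ s ∈ topGens threeD.chain, Equiv.Perm.sign (PermCert.perm 9 s) = 1) ∧ size threeD.chain = 181440 := by
  decide +kernel

theorem three_target : Nonempty (grp threeD.n threeD.chain ≃* alternatingGroup (Fin 9)) ∧
    ∀ N : Subgroup (grp threeD.n threeD.chain), N.Normal → Group.IsSolvable N → N = ⊥ := by
  obtain ⟨hc, hsg, hsz⟩ := nine_checks
  have heq : grp 9 threeD.chain = alternatingGroup (Fin 9) :=
    Subgroup.eq_of_le_of_card_ge (grp_le fun s hs => Equiv.Perm.mem_alternatingGroup.mpr (hsg s hs)) (by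
      rw [PermCert.card_grp hc, hsz, nat_card_alternatingGroup, Nat.card_fin]
      decide)
  let f : grp threeD.n threeD.chain ≃* alternatingGroup (Fin 9) := MulEquiv.subgroupCongr heq
  haveI : IsSimpleGroup (alternatingGroup (Fin 9)) := alternatingGroup.isSimpleGroup (by simp)
  refine ⟨⟨f⟩, eq_bot_of_equiv f (no_solvable_normal ⟨⟨Equiv.swap 0 1 * Equiv.swap 1 2,
      Equiv.Perm.mem_alternatingGroup.mpr (by decide +kernel)⟩,
    ⟨Equiv.swap 1 2 * Equiv.swap 2 3, Equiv.Perm.mem_alternatingGroup.mpr (by decide +kernel)⟩, fun h => ?_⟩)⟩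
  have h1 := Equiv.congr_fun (congrArg Subtype.val h) 0
  revert h1
  decide +kernel

end Cfsg.Lib.Leech.MonsterSection
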