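import Cfsg.Agent.Leech.MonsterSection.Cls

/-!
# The centraliser of the permutation in the automorphism group of the lattice

Every element is a transversal word followed by a monomial element commuting with the permutation, and the action on
chosen sets of fixed classes has a certified image and the smallest possible kernel.
-/

set_option autoImplicit false
set_option linter.style.haveILetI false

namespace Cfsg.Lib.Leech.MonsterSection

open Cfsg Cfsg.Lib.Golay Cfsg.Lib.Leech Stab
open Cfsg.Lib.PermCert (PP ap valid Level pinv check sift size grp topGens perm)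
open Finset

deriving instance DecidableEq for Atom

/-- A word, the images of the basis and the permutation of the sets. -/
abbrev Act : Type := List Atom × List ℕ × PP

variable (D : Data) (A : List Act)

/-- All listed words. -/
def Data.words : List (List Atom) :=
  D.trans ++ (D.fc.map fun m => [Atom.flip m]) ++ (D.ca.map fun g => [Atom.perm g]) ++
    (D.cp.map fun g => [Atom.perm g])

/-- The mask is invariant under the permutation. -/
def Data.inv24 (m : ℕ) : Bool := (List.range 24).all fun i => m.testBit (ap D.sig.1 i) == m.testBit i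

/-- The key of the base vector of the frame. -/
def keyN : ℕ := Mult.ks.getD (pidx pN) 0

/-- The check of one act. -/
def Data.actOK (a : Act) : Bool :=
  a.1.all (·.ok) && Mult.eqW (a.1 ++ D.xw) (D.xw ++ a.1) &&
    ((List.range D.m).all fun j => D.codeK (evalW a.1 (D.bs.getD j 0)) == a.2.1.getD j 0) &&
    valid D.n a.2.2 &&
    ((List.range D.n).all fun i => (List.range (2 ^ D.m)).all fun c =>
      (D.objs.getD i 0).testBit c == (D.objs.getD (ap a.2.2.1 i) 0).testBit (linK a.2.1 c D.m)) &&
    sift D.n D.chain [a.2.2]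

/-- The check of an excluded class. -/
noncomputable def Data.badOK (b : ℕ × List Atom × PP × ℕ × List Lev) : Bool :=
  b.2.1.all (·.ok) && preserves b.2.2.1 && inCode b.2.2.2.1 &&
    halfOK (fun p => dec (evalW b.2.1 keyN) p - D.vecZ b.1 D.m p) &&
    Mult.eqW (D.xw ++ b.2.1) (b.2.1 ++ [Atom.flip b.2.2.2.1, Atom.perm b.2.2.1]) &&
    levsOK D.sig.1 b.2.2.2.2 && (dfsFrom b.2.2.1.1 b.2.2.2.2 (List.range 24)).isEmpty

/-- The checks on the centraliser data. -/
structure ActOK : Prop where
  words : D.words <+: A.map Prod.fst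
  acts : A.all D.actOK = true
  base : halfOK (fun p => (e8 pN : GolayPt → ℤ) p - D.vecZ D.c0 D.m p) = true ∧ D.c0 < 2 ^ D.m
  cover : ∀ c < 2 ^ D.m, Cfsg.sqNorm (dec (D.reps.getD c 0)) = 64 →
    D.orb.contains c = true ∨ (D.bad.any fun b => b.1 == c) = true
  trans : D.trans.length = D.orb.length ∧ ∀ j < D.orb.length, D.orb.getD j 0 < 2 ^ D.m ∧
    linK (A.getD j ([], [], 0, 0)).2.1 D.c0 D.m = D.orb.getD j 0
  bads : D.bad.all D.badOK = true
  levs : levsOK D.sig.1 D.levs = true
  head_ca : ∀ a < 24, (D.ca.any fun g => ap g.1 ((D.levs.head?.elim [] Lev.cyc).getD 0 0) == a) = true ∨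
    (dfsFrom D.sig.1 D.levs [a]).isEmpty = true
  head_cp : ((dfsFrom D.sig.1 D.levs [(D.levs.head?.elim [] Lev.cyc).getD 0 0]).all fun l =>
    D.cp.any fun q => (List.range 24).map (ap q.1) == l) = true
  fc_ok : (codeMasks.all fun m => !D.inv24 m || D.fc.contains m) = true
  chain : check D.n D.chain = true ∧ ((topGens D.chain).all fun s => A.any fun a => a.2.2 == s) = true
  objs : (D.objs.length = D.n ∧ D.objs.Nodup) ∧ ∀ o ∈ D.objs, o < 2 ^ 2 ^ D.m
  count : D.trans.length * D.fc.length * D.ca.length * D.cp.length = 2 * D.r * size D.chain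
  prime : D.r.Prime
  moved : ∃ i < 24, ap D.sig.1 i ≠ i

/-- The centraliser of the permutation. -/
noncomputable def Data.C0 : Subgroup Co0 := Subgroup.centralizer {D.x}

/-- The action on codes. -/
noncomputable def Data.actC (g : Co0) (c : ℕ) : ℕ := D.codeV ((g • D.vec c : leechLattice) : GolayPt → ℤ)

variable {D A}

theorem mem_C0 {g : Co0} : g ∈ D.C0 ↔ g * D.x = D.x * g := Subgroup.mem_centralizer_singleton_iff

theorem valid_sig (hD : ClsOK D) : valid 24 D.sig = true := by
  have := hD.perm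
  simp only [preserves, Bool.and_eq_true] at this
  exact this.1

theorem smul_vec_fixed (hD : ClsOK D) {g : Co0} (hg : g ∈ D.C0) (c : ℕ) :
    D.x • g • D.vec c = g • D.vec c := by
  rw [← mul_smul, ← mem_C0.mp hg, mul_smul, vec_fixed hD]

theorem same_code (hD : ClsOK D) {g : Co0} (hg : g ∈ D.C0) (c : ℕ) :
    SameCls (g • D.vec c) (D.vec (D.actC g c)) := fixed_same hD (smul_vec_fixed hD hg c)

theorem actC_one (hD : ClsOK D) {c : ℕ} (hc : c < 2 ^ D.m) : D.actC 1 c = c := by
  rw [Data.actC, one_smul, code_vec hD hc]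

theorem actC_mul (hD : ClsOK D) (g : Co0) {h : Co0} (hh : h ∈ D.C0) (c : ℕ) :
    D.actC (g * h) c = D.actC g (D.actC h c) := by
  rw [Data.actC, mul_smul]
  exact codeV_congr hD ((same_code hD hh c).smul g)

theorem actC_lt (g : Co0) (c : ℕ) : D.actC g c < 2 ^ D.m := codeV_lt D _

theorem vecs_short (hD : ClsOK D) {j : ℕ} (hj : j < D.m) : Short (D.bs.getD j 0) :=
  Mult.short_of_check (hD.bs_ok j hj)

/-- The data of one listed act. -/
theorem act_spec' (hD : ClsOK D) {a : Act} (ha : D.actOK a = true) :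
    a.1.all (·.ok) = true ∧ Mult.el a.1 ∈ D.C0 ∧ valid D.n a.2.2 = true ∧
      (∀ c, D.actC (Mult.el a.1) c = linK a.2.1 c D.m) ∧
      (∀ i < D.n, ∀ c < 2 ^ D.m, (D.objs.getD i 0).testBit c =
        (D.objs.getD (ap a.2.2.1 i) 0).testBit (linK a.2.1 c D.m)) ∧ sift D.n D.chain [a.2.2] = true := by
  simp only [Data.actOK, Bool.and_eq_true, List.all_eq_true, List.mem_range, beq_iff_eq] at ha
  obtain ⟨⟨⟨⟨⟨h1, h2⟩, h3⟩, h4⟩, h5⟩, h6⟩ := ha
  have hok : a.1.all (·.ok) = true := List.all_eq_true.mpr h1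
  have hx : D.xw.all (·.ok) = true := by simp [Data.xw, Atom.ok, hD.perm]
  refine ⟨hok, ?_, h4, fun c => ?_, h5, h6⟩
  · have e := Mult.el_eq (by rw [List.all_append, hok, hx]; rfl) (by rw [List.all_append, hok, hx]; rfl) h2
    rw [Mult.el_append, Mult.el_append] at e
    exact mem_C0.mpr e
  · refine code_smul_vecN hD _ (fun j hj => ?_) c D.m le_rfl
    obtain ⟨hs, e⟩ := Mult.el_smul hok (vecs_short hD hj)
    have hb := hD.bs_ok j hj
    simp only [Bool.and_eq_true] at hb
    rw [show kv (D.bs.getD j 0) = ⟨dec (D.bs.getD j 0), (vecs_short hD hj).1⟩ from Subtype.ext (kv_coe hb.1), e,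
      ← h3 j hj, codeK_eq]

theorem act_of_word (hA : ActOK D A) {w : List Atom} (hw : w ∈ D.words) : ∃ a ∈ A, a.1 = w ∧ D.actOK a = true := by
  obtain ⟨a, ha, rfl⟩ := List.mem_map.mp (hA.words.subset hw)
  exact ⟨a, ha, rfl, List.all_eq_true.mp hA.acts a ha⟩

theorem word_mem (hD : ClsOK D) (hA : ActOK D A) {w : List Atom} (hw : w ∈ D.words) :
    w.all (·.ok) = true ∧ Mult.el w ∈ D.C0 := by
  obtain ⟨a, -, rfl, ha⟩ := act_of_word hA hw
  exact ⟨(act_spec' hD ha).1, (act_spec' hD ha).2.1⟩

theorem base_same (hD : ClsOK D) (hA : ActOK D A) : SameCls (e8 pN) (D.vec D.c0) := by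
  obtain ⟨w, hw⟩ := half_of hA.base.1
  refine ⟨w, Subtype.ext (funext fun p => ?_)⟩
  have := congrFun hw p
  simp only [Pi.smul_apply, smul_eq_mul] at this
  simp only [AddSubgroup.coe_add, AddSubgroup.coe_zsmul, Pi.add_apply, Pi.smul_apply, smul_eq_mul,
    Data.vec, vecN_coe hD _ D.m le_rfl]
  omega

theorem e8_keyN : ∃ h : Short keyN, (e8 pN : leechLattice) = ⟨dec keyN, h.1⟩ := by
  have hp : (pidx pN) < 24 := pidx_lt pN
  refine ⟨Mult.ks_short _ ?_, Subtype.ext ?_⟩
  · rw [keyN, List.getD_eq_getElem _ _ (by simpa [Mult.ks] using hp)]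
    exact List.getElem_mem _
  · have h := Mult.ks_ok.2 ⟨pidx pN, hp⟩
    rw [show ptAt ((⟨pidx pN, hp⟩ : Fin 24) : ℕ) = pN from ptEquiv.symm_apply_apply pN] at h
    exact h.symm

/-- A signed basis vector determines its position. -/
theorem e8_pos {s t : Bool} {a b : GolayPt} (h : (if s then -e8 a else e8 a) = if t then -e8 b else e8 b) :
    a = b := by
  by_contra hne
  have := congrFun (congrArg Subtype.val h) a
  cases s <;> cases t <;> simp [e8, hne] at this

theorem mono_e8 {σ : Equiv.Perm GolayPt} {c : Finset GolayPt} (hσ : σ ∈ M24) (hc : c ∈ code) (i : GolayPt) :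
    mono hσ hc • e8 i = if decide (σ i ∈ c) then -e8 (σ i) else e8 (σ i) := by
  rw [monoFun_e8]; by_cases h : σ i ∈ c <;> simp [h]

theorem mono_signed {σ : Equiv.Perm GolayPt} {c : Finset GolayPt} (hσ : σ ∈ M24) (hc : c ∈ code) (s : Bool)
    (i : GolayPt) : mono hσ hc • (if s then -e8 i else e8 i) =
      if (s != decide (σ i ∈ c)) then -e8 (σ i) else e8 (σ i) := by
  cases s <;> by_cases h : σ i ∈ c <;> simp [mono_e8, smul_neg', h]

theorem el_perm {g : PP} (h : preserves g = true) :
    Mult.el [Atom.perm g] = mono (toP_mem_M24 h) empty_mem_code := by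
  simp [Mult.el, atomHom, h]

theorem x_e8 (hD : ClsOK D) (i : GolayPt) : D.x • e8 i = e8 (toP D.sig i) := by
  rw [Data.x, Data.xw, el_perm hD.perm, mono_e8]; simp

/-- What is used on the monomial part. -/
structure MonoOK (D : Data) : Prop where
  fc_ok : (codeMasks.all fun m => !D.inv24 m || D.fc.contains m) = true
  levs : levsOK D.sig.1 D.levs = true
  head_ca : ∀ a < 24, (D.ca.any fun g => ap g.1 ((D.levs.head?.elim [] Lev.cyc).getD 0 0) == a) = true ∨
    (dfsFrom D.sig.1 D.levs [a]).isEmpty = true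
  head_cp : ((dfsFrom D.sig.1 D.levs [(D.levs.head?.elim [] Lev.cyc).getD 0 0]).all fun l =>
    D.cp.any fun q => (List.range 24).map (ap q.1) == l) = true
  word : ∀ w ∈ D.words, w.all (·.ok) = true ∧ Mult.el w ∈ D.C0

theorem monoOK (hD : ClsOK D) (hA : ActOK D A) : MonoOK D :=
  ⟨hA.fc_ok, hA.levs, hA.head_ca, hA.head_cp, fun _ hw => word_mem hD hA hw⟩

theorem mono_factor (hD : ClsOK D) (hA : MonoOK D) {σ : Equiv.Perm GolayPt} {c : Finset GolayPt} (hσ : σ ∈ M24)
    (hc : c ∈ code) (hg : mono hσ hc ∈ D.C0) :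
    ∃ f ∈ D.fc, ∃ a ∈ D.ca, ∃ q ∈ D.cp,
      mono hσ hc = Mult.el [Atom.flip f] * Mult.el [Atom.perm a] * Mult.el [Atom.perm q] := by
  have hv := valid_sig hD
  have key : ∀ i, σ (toP D.sig i) = toP D.sig (σ i) ∧ (σ (toP D.sig i) ∈ c ↔ σ i ∈ c) := by
    intro i
    have e := congrArg (fun g : Co0 => g • e8 i) (mem_C0.mp hg)
    simp only [mul_smul, x_e8 hD, mono_e8] at e
    have hp : D.x • (if decide (σ i ∈ c) then -e8 (σ i) else e8 (σ i)) =
        if decide (σ i ∈ c) then -e8 (toP D.sig (σ i)) else e8 (toP D.sig (σ i)) := by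
      split <;> simp [smul_neg', x_e8 hD]
    rw [hp] at e
    have h1 := e8_pos e
    refine ⟨h1, ?_⟩
    rw [← h1] at e
    by_contra hh
    have := congrFun (congrArg Subtype.val e) (σ (toP D.sig i))
    by_cases ha : σ (toP D.sig i) ∈ c <;> by_cases hb : σ i ∈ c <;>
      first
        | exact hh (iff_of_true ha hb)
        | exact hh (iff_of_false ha hb)
        | simp [e8, ha, hb] at this
  have hcomm : σ * toP D.sig = toP D.sig * σ := Equiv.ext fun i => (key i).1
  -- the word
  have hinv : D.inv24 (mk c) = true := by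
    simp only [Data.inv24, List.all_eq_true, List.mem_range, beq_iff_eq]
    intro i hi
    rw [Bool.eq_iff_iff, testBit_mk_pt _ (PermCert.valid_lt hv hi), testBit_mk_pt _ hi, ← toP_ptAt hv hi]
    obtain ⟨j, hj⟩ : ∃ j, σ j = ptAt i := ⟨σ⁻¹ (ptAt i), by simp⟩
    rw [← hj, ← (key j).1]
    exact (key j).2
  have hmk : mk c ∈ codeMasks := mem_codeMasks.mpr ((mem_supports_iff c).mp hc)
  have hf : mk c ∈ D.fc := by
    have := List.all_eq_true.mp hA.fc_ok _ hmk
    simpa [hinv] using this
  -- the permutation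
  set hh := (D.levs.head?.elim [] Lev.cyc).getD 0 0 with hhh
  obtain ⟨L, r, hlev⟩ : ∃ L r, D.levs = L :: r := by
    have := hA.levs
    rcases hl : D.levs with - | ⟨L, r⟩
    · simp only [levsOK, hl, Bool.and_eq_true, List.all_eq_true] at this
      have := this.1.2 0 (by simp)
      simp at this
    · exact ⟨L, r, rfl⟩
  have hL : L.cyc.getD 0 0 = hh := by simp [hhh, hlev]
  have hh24 : hh < 24 := by
    have := hA.levs
    simp only [levsOK, Bool.and_eq_true, List.all_eq_true, decide_eq_true_eq, hlev] at this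
    obtain ⟨⟨⟨h1, -⟩, -⟩, h4⟩ := this
    have hp := (h1 L List.mem_cons_self).1.1
    refine h4 hh (List.mem_flatMap.mpr ⟨L, List.mem_cons_self, ?_⟩)
    rw [← hL, List.getD_eq_getElem _ _ hp]
    exact List.getElem_mem _
  obtain ⟨a, ha, hah⟩ : ∃ a ∈ D.ca, ap a.1 hh = pidx (σ (ptAt hh)) := by
    rcases hA.head_ca _ (pidx_lt (σ (ptAt hh))) with h | h
    · obtain ⟨a, ha, e⟩ := List.any_eq_true.mp h
      exact ⟨a, ha, beq_iff_eq.mp e⟩
    · exfalso
      have hm := dfsFrom_mem (g := σ) (S := [pidx (σ (ptAt hh))]) hv hv hA.levs hσ hcomm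
        (fun M r' e => by
          rw [hlev] at e
          obtain ⟨rfl, -⟩ := List.cons.inj e
          rw [hL]; exact List.mem_singleton_self _)
      rw [List.isEmpty_iff.mp h] at hm
      exact List.not_mem_nil hm
  have haw : [Atom.perm a] ∈ D.words := by simp [Data.words, ha]
  obtain ⟨haok, haC⟩ := hA.word _ haw
  have hap : preserves a = true := by simpa [Atom.ok] using haok
  have hav : valid 24 a = true := by
    simp only [preserves, Bool.and_eq_true] at hap
    exact hap.1
  rw [el_perm hap, mem_C0, Data.x, Data.xw, el_perm hD.perm, mono_one_mul, mono_one_mul] at haC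
  have hac : toP a * toP D.sig = toP D.sig * toP a := by
    refine Equiv.ext fun i => ?_
    have := congrArg (fun g : Co0 => g • e8 i) haC
    simp only [mono_e8] at this
    exact e8_pos this
  set τ := (toP a)⁻¹ * σ with hτ
  have hτm : τ ∈ M24 := mul_mem (inv_mem (toP_mem_M24 hap)) hσ
  have hτc : τ * toP D.sig = toP D.sig * τ := by
    rw [hτ, mul_assoc, hcomm, ← mul_assoc, ← mul_assoc]
    congr 1
    rw [inv_mul_eq_iff_eq_mul, ← mul_assoc, hac, mul_inv_cancel_right]
  have hτh : τ (ptAt hh) = ptAt hh := by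
    rw [hτ, Equiv.Perm.mul_apply, Equiv.Perm.inv_eq_iff_eq, toP_ptAt hav hh24, hah]
    exact (ptEquiv.symm_apply_apply _).symm
  obtain ⟨q, hq, hql⟩ : ∃ q ∈ D.cp, (List.range 24).map (ap q.1) =
      (List.range 24).map fun i => pidx (τ (ptAt i)) := by
    have hm := dfsFrom_mem (g := τ) (S := [hh]) hv hv hA.levs hτm hτc
      (fun M r' e => by
        rw [hlev] at e
        obtain ⟨rfl, -⟩ := List.cons.inj e
        rw [hL, hτh, show pidx (ptAt hh) = hh from pidx_ptAt ⟨hh, hh24⟩]; exact List.mem_singleton_self _)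
    simpa using List.all_eq_true.mp hA.head_cp _ hm
  have hqw : [Atom.perm q] ∈ D.words := by simp [Data.words, hq]
  have hqp : preserves q = true := by simpa [Atom.ok] using (hA.word _ hqw).1
  have hqτ : toP q = τ := by
    refine Equiv.ext fun p => pidx_injective ?_
    have hv' : valid 24 q = true := by
      simp only [preserves, Bool.and_eq_true] at hqp
      exact hqp.1
    rw [pidx_toP hv']
    have := List.map_inj_left.mp hql _ (List.mem_range.mpr (pidx_lt p))
    rwa [show ptAt (pidx p) = p from ptEquiv.symm_apply_apply p] at this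
  refine ⟨mk c, hf, a, ha, q, hq, ?_⟩
  have hcm : inCode (mk c) = true := mem_codeMasks.mp hmk
  rw [el_perm hap, el_perm hqp, mul_assoc, mono_one_mul, mono_split hσ hc]
  simp only [Mult.el, List.map_cons, List.map_nil, List.prod_cons, List.prod_nil, mul_one, atomHom, dif_pos hcm,
    pts_mk, hqτ, hτ, mul_inv_cancel_left]

/-- Every element is a product of four listed words. -/
theorem decompose (hD : ClsOK D) (hA : ActOK D A) {g : Co0} (hg : g ∈ D.C0) :
    ∃ t ∈ D.trans, ∃ f ∈ D.fc, ∃ a ∈ D.ca, ∃ q ∈ D.cp,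
      g = Mult.el t * (Mult.el [Atom.flip f] * Mult.el [Atom.perm a] * Mult.el [Atom.perm q]) := by
  have hb := base_same hD hA
  have hxe : SameCls (D.x • e8 pN) (e8 pN) := by
    have := hb.smul D.x
    rw [vec_fixed hD] at this
    exact this.trans hb.symm
  set v := g • e8 pN with hv
  have hvx : SameCls (D.x • v) v := by
    rw [hv, ← mul_smul, ← mem_C0.mp hg, mul_smul]
    exact hxe.smul g
  have hn : Cfsg.sqNorm (v : GolayPt → ℤ) = 64 := (g.2.2 _).trans (sqNorm_e8 _)
  have hc := class_code hD hvx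
  set c := D.codeV (v : GolayPt → ℤ) with hcdef
  have hrep : Cfsg.sqNorm (dec (D.reps.getD c 0)) = 64 := by rw [hcdef, norm_code hD hvx hn.le, hn]
  rcases hA.cover c (codeV_lt D _) hrep with h | h
  · obtain ⟨j, hj, hjc⟩ := List.getElem_of_mem (List.contains_iff_mem.mp h)
    obtain ⟨hlen, htr⟩ := hA.trans
    have hjt : j < D.trans.length := hlen ▸ hj
    have hjA : j < A.length := by
      have := hA.words.length_le
      simp only [List.length_map, Data.words, List.length_append] at this
      omega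
    set w := (A[j]).1 with hw
    have hwt : w = D.trans[j] := by
      have h0 : (A.map Prod.fst)[j]'(by simpa using hjA) = D.words[j]'(by
          simp only [Data.words, List.length_append]; omega) :=
        (hA.words.getElem _).symm
      simpa [Data.words, List.getElem_append_left, hjt, hw] using h0
    obtain ⟨-, hwC, -, hlin, -⟩ := act_spec' hD (List.all_eq_true.mp hA.acts _ (List.getElem_mem hjA))
    have hact : D.actC (Mult.el w) D.c0 = c := by
      rw [hw, hlin]
      have := (htr j hj).2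
      rwa [List.getD_eq_getElem _ _ hjA, List.getD_eq_getElem _ _ hj, hjc] at this
    set n := (Mult.el w)⁻¹ * g with hnd
    have hnC : n ∈ D.C0 := mul_mem (inv_mem hwC) hg
    have hmono : n ∈ monoGroup := by
      refine monoGroup_iff.mpr ?_
      have h1 : SameCls (Mult.el w • D.vec D.c0) (D.vec c) := hact ▸ same_code hD hwC D.c0
      have h2 := ((hc.trans h1.symm).smul (Mult.el w)⁻¹)
      rw [inv_smul_smul] at h2
      rw [hnd, mul_smul, ← hv]
      exact h2.trans hb.symm
    have hf : FixesFrame n := by rw [← SetLike.mem_coe, coe_monoGroup] at hmono; exact hmono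
    obtain ⟨σ, d, hσ, hd, hne⟩ := frame_is_monomial hf
    obtain ⟨f, hf', a, ha, q, hq, e⟩ := mono_factor hD (monoOK hD hA) hσ hd (hne ▸ hnC)
    exact ⟨D.trans[j], List.getElem_mem _, f, hf', a, ha, q, hq, by rw [← hwt, ← e, ← hne, hnd, mul_inv_cancel_left]⟩
  · exfalso
    obtain ⟨b, hbm, hbc⟩ := List.any_eq_true.mp h
    rw [beq_iff_eq] at hbc
    have hok := List.all_eq_true.mp hA.bads b hbm
    simp only [Data.badOK, Bool.and_eq_true, hbc] at hok
    obtain ⟨⟨⟨⟨⟨⟨h1, h2⟩, h3⟩, h4⟩, h5⟩, h6⟩, h7⟩ := hok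
    obtain ⟨hk, hkey⟩ := e8_keyN
    obtain ⟨hs, e⟩ := Mult.el_smul h1 hk
    have hbase : SameCls (Mult.el b.2.1 • e8 pN) (D.vec c) := by
      obtain ⟨u, hu⟩ := half_of h4
      refine ⟨u, Subtype.ext (funext fun p => ?_)⟩
      have := congrFun hu p
      simp only [Pi.smul_apply, smul_eq_mul] at this
      simp only [hkey, e, AddSubgroup.coe_add, AddSubgroup.coe_zsmul, Pi.add_apply, Pi.smul_apply, smul_eq_mul,
        Data.vec, vecN_coe hD _ D.m le_rfl]
      omega
    set n := (Mult.el b.2.1)⁻¹ * g with hnd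
    have hmono : n ∈ monoGroup := by
      refine monoGroup_iff.mpr ?_
      have h2 := ((hc.trans hbase.symm).smul (Mult.el b.2.1)⁻¹)
      rw [inv_smul_smul] at h2
      rw [hnd, mul_smul, ← hv]
      exact h2
    have hf : FixesFrame n := by rw [← SetLike.mem_coe, coe_monoGroup] at hmono; exact hmono
    obtain ⟨σ, d, hσ, hd, hne⟩ := frame_is_monomial hf
    have hxok : D.xw.all (·.ok) = true := by simp [Data.xw, Atom.ok, hD.perm]
    have hrok : [Atom.flip b.2.2.2.1, Atom.perm b.2.2.1].all (·.ok) = true := by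
      simp [Atom.ok, h2, h3]
    have he := Mult.el_eq (by rw [List.all_append, hxok, h1]; rfl) (by rw [List.all_append, h1, hrok]; rfl) h5
    rw [Mult.el_append, Mult.el_append, ← Data.x] at he
    have hnx : n * D.x = Mult.el [Atom.flip b.2.2.2.1, Atom.perm b.2.2.1] * n := by
      calc n * D.x = (Mult.el b.2.1)⁻¹ * (g * D.x) := by rw [hnd]; group
        _ = (Mult.el b.2.1)⁻¹ * (D.x * Mult.el b.2.1) * n := by rw [mem_C0.mp hg, hnd]; group
        _ = _ := by rw [he]; group
    have hperm : σ * toP D.sig = toP b.2.2.1 * σ := by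
      refine Equiv.ext fun i => ?_
      have e2 := congrArg (fun u : Co0 => u • e8 i) hnx
      simp only [Mult.el, List.map_cons, List.map_nil, List.prod_cons, List.prod_nil, mul_one, atomHom, dif_pos h2,
        dif_pos h3] at e2
      rw [← mono_split] at e2
      simp only [hne, mul_smul, x_e8 hD] at e2
      rw [mono_e8, mono_e8, mono_signed] at e2
      exact e8_pos e2
    have hv2 : valid 24 b.2.2.1 = true := by
      simp only [preserves, Bool.and_eq_true] at h2
      exact h2.1
    have hm := dfsFrom_mem (g := σ) (S := List.range 24) (valid_sig hD) hv2 h6 hσ hperm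
      (fun M r' _ => List.mem_range.mpr (pidx_lt _))
    rw [List.isEmpty_iff.mp h7] at hm
    exact List.not_mem_nil hm

end Cfsg.Lib.Leech.MonsterSection
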