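import Cfsg.Agent.PermCert.Basic

/-!
# Transversal chains without the closure test

Such a chain still certifies membership and bounds the order of its group from below.
-/

set_option autoImplicit false

namespace Cfsg.Lib.Leech.MonsterSection

open Cfsg.Lib.PermCert (PP Level ap valid pinv checkTree topGens perm grp size sift wperm isId)

/-- One level, without the closure test. -/
def wLevel (n : ℕ) (L : Level) (r : List Level) : Bool :=
  decide (L.b < n) && L.gens.all (valid n) && checkTree n L && decide (L.tr.map (·.1)).Nodup &&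
    (topGens r).all fun g => decide (g ∈ L.gens) && (ap g.1 L.b == L.b)

/-- A chain, without the closure test. -/
def wCheck (n : ℕ) : List Level → Bool
  | [] => true
  | L :: r => wLevel n L r && wCheck n r

theorem wLevel_spec {n : ℕ} {L : Level} {r : List Level} (h : wLevel n L r = true) :
    L.b < n ∧ (∀ s ∈ L.gens, valid n s = true) ∧ checkTree n L = true ∧ (L.tr.map (·.1)).Nodup ∧
      ∀ g ∈ topGens r, g ∈ L.gens ∧ ap g.1 L.b = L.b := by
  simp only [wLevel, Bool.and_eq_true, decide_eq_true_eq, List.all_eq_true, beq_iff_eq] at h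
  obtain ⟨⟨⟨⟨h1, h2⟩, h3⟩, h4⟩, h5⟩ := h
  exact ⟨h1, h2, h3, h4, h5⟩

theorem wLe {n : ℕ} {L : Level} {r : List Level} (h : wLevel n L r = true) : grp n r ≤ grp n (L :: r) := by
  refine (Subgroup.closure_le _).mpr ?_
  rintro _ ⟨s, hs, rfl⟩
  exact PermCert.perm_mem_grp (c := L :: r) ((wLevel_spec h).2.2.2.2 s hs).1

theorem wTree {n : ℕ} {L : Level} {r : List Level} (h : wLevel n L r = true) {e : ℕ × PP × ℕ × ℕ} (he : e ∈ L.tr) :
    perm n e.2.1 ∈ grp n (L :: r) :=
  PermCert.tree_mem (wLevel_spec h).2.2.1 (wLevel_spec h).2.1 _ (fun _ hs => PermCert.perm_mem_grp (c := L :: r) hs) e he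

theorem mem_of_wsift {n : ℕ} : ∀ {c : List Level}, wCheck n c = true → ∀ {w : List PP},
    (∀ g ∈ w, valid n g = true) → sift n c w = true → wperm n w ∈ grp n c := by
  intro c
  induction c with
  | nil =>
    intro _ w hw h
    rw [PermCert.isId_sound hw h]
    exact one_mem _
  | cons L r ih =>
    intro hc w hw h
    simp only [wCheck, Bool.and_eq_true] at hc
    simp only [sift] at h
    split at h
    · next e he =>
      have hm := List.mem_of_find?_eq_some he
      have hv := (PermCert.tree_entry (wLevel_spec hc.1).2.2.1 hm).1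
      have h1 := wLe hc.1 (ih hc.2 (w := pinv e.2.1 :: w) (fun g hg => by
        rcases List.mem_cons.mp hg with rfl | hg
        · exact PermCert.valid_pinv hv
        · exact hw g hg) h)
      rw [PermCert.wperm_cons, PermCert.perm_pinv hv] at h1
      have h2 := mul_mem (wTree hc.1 hm) h1
      rwa [mul_inv_cancel_left] at h2
    · cases h

theorem size_le_card {n : ℕ} : ∀ {c : List Level}, wCheck n c = true → size c ≤ Nat.card (grp n c) := by
  intro c
  induction c with
  | nil => intro _; exact Nat.card_pos
  | cons L r ih =>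
    intro hc
    simp only [wCheck, Bool.and_eq_true] at hc
    obtain ⟨hb, hgv, htree, hnd, hdown⟩ := wLevel_spec hc.1
    have hfix : ∀ v ∈ grp n r, v ⟨L.b, hb⟩ = ⟨L.b, hb⟩ := by
      have : grp n r ≤ MulAction.stabilizer (Equiv.Perm (Fin n)) (⟨L.b, hb⟩ : Fin n) := by
        refine (Subgroup.closure_le _).mpr ?_
        rintro _ ⟨s, hs, rfl⟩
        simp only [SetLike.mem_coe, MulAction.mem_stabilizer_iff, Equiv.Perm.smul_def]
        apply Fin.ext
        rw [PermCert.perm_apply (hgv s (hdown s hs).1)]
        exact (hdown s hs).2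
      exact fun v hv => MulAction.mem_stabilizer_iff.mp (this hv)
    let f : {e // e ∈ L.tr} × ↥(grp n r) → ↥(grp n (L :: r)) := fun p =>
      ⟨perm n p.1.1.2.1 * p.2, mul_mem (wTree hc.1 p.1.2) (wLe hc.1 p.2.2)⟩
    have hf : Function.Injective f := by
      rintro ⟨⟨e, he⟩, v⟩ ⟨⟨e', he'⟩, v'⟩ h
      have h' : perm n e.2.1 * (v : Equiv.Perm (Fin n)) = perm n e'.2.1 * v' := Subtype.ext_iff.mp h
      have hb' := congrArg (fun g : Equiv.Perm (Fin n) => (g ⟨L.b, hb⟩ : ℕ)) h'
      simp only [Equiv.Perm.mul_apply, hfix _ v.2, hfix _ v'.2,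
        PermCert.perm_apply (PermCert.tree_entry htree he).1, PermCert.perm_apply (PermCert.tree_entry htree he').1,
        (PermCert.tree_entry htree he).2, (PermCert.tree_entry htree he').2] at hb'
      obtain rfl : e = e' := List.inj_on_of_nodup_map hnd he he' hb'
      simp only [mul_right_inj] at h'
      simp [Subtype.ext_iff, h']
    have h1 := Nat.card_le_card_of_injective f hf
    rw [Nat.card_prod, Nat.card_eq_fintype_card (α := {e // e ∈ L.tr}),
      Fintype.card_of_subtype L.tr.toFinset (by simp), List.toFinset_card_of_nodup (List.Nodup.of_map _ hnd)] at h1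
    exact le_trans (Nat.mul_le_mul_left _ (ih hc.2)) h1

end Cfsg.Lib.Leech.MonsterSection
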