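import Cfsg.Agent.Leech.MonsterSection.Hom
import Cfsg.Agent.Leech.MonsterSection.WeakChain

/-!
# The centraliser of a permutation whose orbit of frames is too long to be listed by words

The centraliser is generated by few listed words; it acts on all fixed classes and on a set of triples of them.
-/

set_option autoImplicit false
set_option linter.style.haveILetI false

namespace Cfsg.Lib.Leech.MonsterSection

open Cfsg Cfsg.Lib.Golay Cfsg.Lib.Leech Stab
open Cfsg.Lib.PermCert (PP ap valid Level pinv check sift size grp topGens isId wperm)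

/-- The data for a large centraliser. -/
structure Big where
  acts : List Act
  layers : List ℕ
  sel : List ℕ
  tri : List (List ℕ)
  lab : ℕ
  slp : List (List (Bool × ℕ × Bool))
  om : List ℕ
  moved : ℕ

variable (D : Data) (B : Big)

/-- The listed act of a position. -/
def Big.act (i : ℕ) : Act := B.acts.getD i ([], [], (0, 0))

/-- The check of one act. -/
noncomputable def Big.actOK (a : Act) : Bool :=
  a.1.all (·.ok) && Mult.eqW (a.1 ++ D.xw) (D.xw ++ a.1) &&
    ((List.range D.m).all fun j => D.codeK (evalW a.1 (D.bs.getD j 0)) == a.2.1.getD j 0) &&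
    valid D.n a.2.2 &&
    ((List.range D.n).all fun i => (B.tri.getD i []).all fun c =>
      (B.tri.getD (ap a.2.2.1 i) []).contains (linK a.2.1 c D.m)) &&
    sift D.n D.chain [a.2.2]

/-- The permutation of a symbol of a straight-line product. -/
def Big.sym (x : Bool × ℕ × Bool) : PP :=
  let p := if x.1 then (topGens D.chain).getD x.2.1 (0, 0) else (B.act x.2.1).2.2
  if x.2.2 then pinv p else p

/-- The image of a class under a product of acts. -/
def Big.move (c : ℕ) : List ℕ → ℕ
  | [] => c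
  | i :: r => linK (B.act i).2.1 (Big.move c r) D.m

/-- The checks for a large centraliser. -/
structure BigOK : Prop where
  words : D.words <:+ B.acts.map Prod.fst
  acts : B.acts.all (B.actOK D) = true
  base : halfOK (fun p => (e8 pN : GolayPt → ℤ) p - D.vecZ D.c0 D.m p) = true ∧ D.c0 < 2 ^ D.m
  sel : ∀ g ∈ B.sel, g < B.acts.length
  layers : ∀ j < B.layers.length, ∀ c < 2 ^ D.m, (B.layers.getD j 0).testBit c = true →
    if j = 0 then c = D.c0 else
      (B.sel.any fun g => (B.layers.getD (j - 1) 0).testBit (linK (B.act g).2.1 c D.m)) = true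
  cover : ∀ c < 2 ^ D.m, Cfsg.sqNorm (dec (D.reps.getD c 0)) = 64 →
    ∃ j < B.layers.length, (B.layers.getD j 0).testBit c = true
  levs : levsOK D.sig.1 D.levs = true
  head_ca : ∀ a < 24, (D.ca.any fun g => ap g.1 ((D.levs.head?.elim [] Lev.cyc).getD 0 0) == a) = true ∨
    (dfsFrom D.sig.1 D.levs [a]).isEmpty = true
  head_cp : ((dfsFrom D.sig.1 D.levs [(D.levs.head?.elim [] Lev.cyc).getD 0 0]).all fun l =>
    D.cp.any fun q => (List.range 24).map (ap q.1) == l) = true
  fc_ok : (codeMasks.all fun m => !D.inv24 m || D.fc.contains m) = true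
  chain : wCheck D.n D.chain = true
  tri_ok : ∀ i < D.n, (B.tri.getD i []) ≠ [] ∧
    ((B.tri.getD i []).all fun c => decide (c < 2 ^ D.m) && ap B.lab c == i) = true
  slp : B.slp.length = (topGens D.chain).length ∧ ∀ k < B.slp.length,
    ((B.slp.getD k []).all fun x => if x.1 then decide (x.2.1 < k) else decide (x.2.1 < B.acts.length)) = true ∧
    isId D.n (pinv ((topGens D.chain).getD k (0, 0)) :: (B.slp.getD k []).map (B.sym D)) = true
  omega : (B.om.all fun i => decide (i < B.acts.length)) = true ∧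
    isId D.n (B.om.map fun i => (B.act i).2.2) = true ∧ B.moved < 2 ^ D.m ∧
    B.move D B.moved B.om ≠ B.moved ∧ B.move D B.moved (B.om ++ B.om) ≠ B.moved
  count : ((Finset.range (2 ^ D.m)).filter fun c => Cfsg.sqNorm (dec (D.reps.getD c 0)) = 64).card *
    (D.fc.length * D.ca.length * D.cp.length) = 2 * D.r * 3 * size D.chain
  prime : D.r.Prime
  moved : ∃ i < 24, ap D.sig.1 i ≠ i

variable {D B}

theorem bact_spec (hD : ClsOK D) {a : Act} (ha : B.actOK D a = true) :
    a.1.all (·.ok) = true ∧ Mult.el a.1 ∈ D.C0 ∧ valid D.n a.2.2 = true ∧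
      (∀ c, D.actC (Mult.el a.1) c = linK a.2.1 c D.m) ∧
      (∀ i < D.n, ∀ c ∈ B.tri.getD i [], linK a.2.1 c D.m ∈ B.tri.getD (ap a.2.2.1 i) []) ∧
      sift D.n D.chain [a.2.2] = true := by
  simp only [Big.actOK, Bool.and_eq_true, List.all_eq_true, List.mem_range, beq_iff_eq, List.contains_eq_mem,
    decide_eq_true_eq] at ha
  obtain ⟨⟨⟨⟨⟨h1, h2⟩, h3⟩, h4⟩, h5⟩, h6⟩ := ha
  have hok : a.1.all (·.ok) = true := List.all_eq_true.mpr h1
  have hx : D.xw.all (·.ok) = true := by simp [Data.xw, Atom.ok, hD.perm]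
  refine ⟨hok, ?_, h4, fun c => ?_, h5, h6⟩
  · have e := Mult.el_eq (by rw [List.all_append, hok, hx]; rfl) (by rw [List.all_append, hok, hx]; rfl) h2
    rw [Mult.el_append, Mult.el_append] at e
    exact mem_C0.mpr e
  · refine code_smul_vecN hD _ (fun j hj => ?_) c D.m le_rfl
    obtain ⟨hs, e⟩ := Mult.el_smul hok (vecs_short hD hj)
    have hb := hD.bs_ok j hj
    simp only [Bool.and_eq_true] at hb
    rw [show kv (D.bs.getD j 0) = ⟨dec (D.bs.getD j 0), (vecs_short hD hj).1⟩ from Subtype.ext (kv_coe hb.1), e,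
      ← h3 j hj, codeK_eq]

theorem bact_at (hB : BigOK D B) {i : ℕ} (hi : i < B.acts.length) :
    B.act i ∈ B.acts ∧ B.actOK D (B.act i) = true := by
  have h : B.act i ∈ B.acts := by rw [Big.act, List.getD_eq_getElem _ _ hi]; exact List.getElem_mem hi
  exact ⟨h, List.all_eq_true.mp hB.acts _ h⟩

/-- The group of the acts. -/
noncomputable def Big.gens (B : Big) : Subgroup Co0 := Subgroup.closure {g | ∃ a ∈ B.acts, Mult.el a.1 = g}

theorem el_mem_gens {a : Act} (ha : a ∈ B.acts) : Mult.el a.1 ∈ B.gens := Subgroup.subset_closure ⟨a, ha, rfl⟩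

theorem word_gens (hB : BigOK D B) {w : List Atom} (hw : w ∈ D.words) : ∃ a ∈ B.acts, a.1 = w := by
  obtain ⟨a, ha, rfl⟩ := List.mem_map.mp (hB.words.subset hw)
  exact ⟨a, ha, rfl⟩

theorem bigMono (hD : ClsOK D) (hB : BigOK D B) : MonoOK D := by
  refine ⟨hB.fc_ok, hB.levs, hB.head_ca, hB.head_cp, fun w hw => ?_⟩
  obtain ⟨a, ha, rfl⟩ := word_gens hB hw
  have := bact_spec hD (List.all_eq_true.mp hB.acts a ha)
  exact ⟨this.1, this.2.1⟩

theorem gens_le (hD : ClsOK D) (hB : BigOK D B) : B.gens ≤ D.C0 := by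
  refine (Subgroup.closure_le _).mpr ?_
  rintro _ ⟨a, ha, rfl⟩
  exact (bact_spec hD (List.all_eq_true.mp hB.acts a ha)).2.1

theorem layer_reach (hD : ClsOK D) (hB : BigOK D B) : ∀ j < B.layers.length, ∀ c < 2 ^ D.m,
    (B.layers.getD j 0).testBit c = true → ∃ t ∈ B.gens, D.actC t D.c0 = c := by
  intro j
  induction j with
  | zero =>
    intro hj c hc h
    have := hB.layers 0 hj c hc h
    rw [if_pos rfl] at this
    exact ⟨1, one_mem _, by rw [this, actC_one hD hB.base.2]⟩
  | succ j ih =>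
    intro hj c hc h
    have := hB.layers (j + 1) hj c hc h
    rw [if_neg (Nat.succ_ne_zero j), Nat.add_sub_cancel, List.any_eq_true] at this
    obtain ⟨g, hg, hp⟩ := this
    obtain ⟨ha, hok⟩ := bact_at hB (hB.sel g hg)
    obtain ⟨-, hC, -, hlin, -⟩ := bact_spec hD hok
    rw [← hlin] at hp
    obtain ⟨t, ht, htc⟩ := ih (Nat.lt_of_succ_lt hj) _ (actC_lt _ _) hp
    refine ⟨(Mult.el (B.act g).1)⁻¹ * t, mul_mem (inv_mem (el_mem_gens ha)) ht, ?_⟩
    rw [actC_mul hD _ (gens_le hD hB ht), htc, ← actC_mul hD _ hC, inv_mul_cancel, actC_one hD hc]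

open Classical in
/-- A chosen element carrying the class of the frame to a class. -/
noncomputable def Big.carry (D : Data) (B : Big) (c : ℕ) : Co0 :=
  if h : ∃ t ∈ B.gens, D.actC t D.c0 = c then h.choose else 1

theorem big_decompose (hD : ClsOK D) (hB : BigOK D B) {g : Co0} (hg : g ∈ D.C0) :
    ∃ c < 2 ^ D.m, Cfsg.sqNorm (dec (D.reps.getD c 0)) = 64 ∧ B.carry D c ∈ B.gens ∧
      ∃ f ∈ D.fc, ∃ a ∈ D.ca, ∃ q ∈ D.cp,
        g = B.carry D c * (Mult.el [Atom.flip f] * Mult.el [Atom.perm a] * Mult.el [Atom.perm q]) := by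
  have hb : SameCls (e8 pN) (D.vec D.c0) := by
    obtain ⟨w, hw⟩ := half_of hB.base.1
    refine ⟨w, Subtype.ext (funext fun p => ?_)⟩
    have := congrFun hw p
    simp only [Pi.smul_apply, smul_eq_mul] at this
    simp only [AddSubgroup.coe_add, AddSubgroup.coe_zsmul, Pi.add_apply, Pi.smul_apply, smul_eq_mul,
      Data.vec, vecN_coe hD _ D.m le_rfl]
    omega
  have hxe : SameCls (D.x • e8 pN) (e8 pN) := by
    have := hb.smul D.x
    rw [vec_fixed hD] at this
    exact this.trans hb.symm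
  set v := g • e8 pN with hv
  have hvx : SameCls (D.x • v) v := by
    rw [hv, ← mul_smul, ← mem_C0.mp hg, mul_smul]
    exact hxe.smul g
  have hn : Cfsg.sqNorm (v : GolayPt → ℤ) = 64 := (g.2.2 _).trans (sqNorm_e8 _)
  have hc := class_code hD hvx
  set c := D.codeV (v : GolayPt → ℤ) with hcdef
  have hrep : Cfsg.sqNorm (dec (D.reps.getD c 0)) = 64 := by rw [hcdef, norm_code hD hvx hn.le, hn]
  obtain ⟨j, hj, hjc⟩ := hB.cover c (codeV_lt D _) hrep
  have hex := layer_reach hD hB j hj c (codeV_lt D _) hjc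
  set t := B.carry D c with ht
  have ht' : t ∈ B.gens ∧ D.actC t D.c0 = c := by rw [ht, Big.carry, dif_pos hex]; exact hex.choose_spec
  have htC := gens_le hD hB ht'.1
  set n := t⁻¹ * g with hnd
  have hnC : n ∈ D.C0 := mul_mem (inv_mem htC) hg
  have hmono : n ∈ monoGroup := by
    refine monoGroup_iff.mpr ?_
    have h1 : SameCls (t • D.vec D.c0) (D.vec c) := ht'.2 ▸ same_code hD htC D.c0
    have h2 := ((hc.trans h1.symm).smul t⁻¹)
    rw [inv_smul_smul] at h2
    rw [hnd, mul_smul, ← hv]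
    exact h2.trans hb.symm
  have hf : FixesFrame n := by rw [← SetLike.mem_coe, coe_monoGroup] at hmono; exact hmono
  obtain ⟨σ, d, hσ, hd, hne⟩ := frame_is_monomial hf
  obtain ⟨f, hf', a, ha, q, hq, e⟩ := mono_factor hD (bigMono hD hB) hσ hd (hne ▸ hnC)
  exact ⟨c, codeV_lt D _, hrep, ht'.1, f, hf', a, ha, q, hq, by rw [← e, ← hne, hnd, mul_inv_cancel_left]⟩

theorem gens_eq (hD : ClsOK D) (hB : BigOK D B) : B.gens = D.C0 := by
  refine le_antisymm (gens_le hD hB) fun g hg => ?_
  obtain ⟨c, -, -, ht, f, hf, a, ha, q, hq, rfl⟩ := big_decompose hD hB hg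
  have key : ∀ w ∈ D.words, Mult.el w ∈ B.gens := fun w hw => by
    obtain ⟨x, hx, rfl⟩ := word_gens hB hw
    exact el_mem_gens hx
  exact mul_mem ht (mul_mem (mul_mem (key _ (by simp [Data.words, hf])) (key _ (by simp [Data.words, ha])))
    (key _ (by simp [Data.words, hq])))

theorem card_C0_big (hD : ClsOK D) (hB : BigOK D B) : Nat.card D.C0 ≤ 2 * D.r * 3 * size D.chain := by
  classical
  haveI : Finite Co0 := Nat.finite_of_card_ne_zero (by rw [card_co0]; norm_num)
  set S := (Finset.range (2 ^ D.m)).filter fun c => Cfsg.sqNorm (dec (D.reps.getD c 0)) = 64 with hS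
  let F : S × Fin D.fc.length × Fin D.ca.length × Fin D.cp.length → Co0 := fun p =>
    B.carry D p.1 * (Mult.el [Atom.flip D.fc[p.2.1]] * Mult.el [Atom.perm D.ca[p.2.2.1]] *
      Mult.el [Atom.perm D.cp[p.2.2.2]])
  have hsub : (D.C0 : Set Co0) ⊆ Set.range F := by
    intro g hg
    obtain ⟨c, hc, hn, -, f, hf, a, ha, q, hq, e⟩ := big_decompose hD hB hg
    obtain ⟨i2, e2, rfl⟩ := List.getElem_of_mem hf
    obtain ⟨i3, e3, rfl⟩ := List.getElem_of_mem ha
    obtain ⟨i4, e4, rfl⟩ := List.getElem_of_mem hq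
    exact ⟨(⟨c, Finset.mem_filter.mpr ⟨Finset.mem_range.mpr hc, hn⟩⟩, ⟨i2, e2⟩, ⟨i3, e3⟩, ⟨i4, e4⟩), e.symm⟩
  calc Nat.card D.C0 ≤ Nat.card (Set.range F) := Nat.card_mono (Set.finite_range F) hsub
    _ ≤ Nat.card (S × Fin D.fc.length × Fin D.ca.length × Fin D.cp.length) := Finite.card_range_le F
    _ = S.card * (D.fc.length * D.ca.length * D.cp.length) := by
      simp [Nat.card_eq_fintype_card, mul_assoc]
    _ = _ := hB.count

/-! ### The two actions -/

/-- The action on all classes. -/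
noncomputable def actT (hD : ClsOK D) : D.C0 →* Equiv.Perm (Fin (2 ^ D.m)) :=
  MonoidHom.mk' (fun g =>
      { toFun := fun c => ⟨D.actC g c, actC_lt _ _⟩
        invFun := fun c => ⟨D.actC (g⁻¹ : D.C0) c, actC_lt _ _⟩
        left_inv := fun c => Fin.ext (by
          show D.actC (g⁻¹ : D.C0) (D.actC g c) = c
          rw [← actC_mul hD _ g.2, ← Subgroup.coe_mul, inv_mul_cancel, Subgroup.coe_one, actC_one hD c.2])
        right_inv := fun c => Fin.ext (by
          show D.actC g (D.actC (g⁻¹ : D.C0) c) = c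
          rw [← actC_mul hD _ (g⁻¹ : D.C0).2, ← Subgroup.coe_mul, mul_inv_cancel, Subgroup.coe_one,
            actC_one hD c.2]) })
    fun g h => Equiv.ext fun c => Fin.ext (actC_mul hD g h.2 c)

theorem actT_eq_one (hD : ClsOK D) {g : D.C0} : actT hD g = 1 ↔ ∀ c < 2 ^ D.m, D.actC g c = c :=
  ⟨fun h c hc => congrArg Fin.val (Equiv.congr_fun h ⟨c, hc⟩), fun h => Equiv.ext fun c => Fin.ext (h c c.2)⟩

/-- A permutation carries the triples as the element does. -/
def TriAt (D : Data) (B : Big) (g : Co0) (π : Equiv.Perm (Fin D.n)) : Prop :=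
  ∀ i : Fin D.n, ∀ c ∈ B.tri.getD i [], D.actC g c ∈ B.tri.getD (π i) []

theorem tri_lt (hB : BigOK D B) (i : Fin D.n) {c : ℕ} (hc : c ∈ B.tri.getD i []) : c < 2 ^ D.m := by
  have := List.all_eq_true.mp (hB.tri_ok i i.2).2 c hc
  simp only [Bool.and_eq_true, decide_eq_true_eq] at this
  exact this.1

theorem tri_eq (hB : BigOK D B) {i j : Fin D.n} {c : ℕ} (hi : c ∈ B.tri.getD i []) (hj : c ∈ B.tri.getD j []) :
    i = j := by
  have h1 := List.all_eq_true.mp (hB.tri_ok i i.2).2 c hi
  have h2 := List.all_eq_true.mp (hB.tri_ok j j.2).2 c hj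
  simp only [Bool.and_eq_true, beq_iff_eq] at h1 h2
  exact Fin.ext (h1.2.symm.trans h2.2)

theorem triAt_unique (hB : BigOK D B) {g : Co0} {π ρ : Equiv.Perm (Fin D.n)} (h1 : TriAt D B g π)
    (h2 : TriAt D B g ρ) : π = ρ := by
  refine Equiv.ext fun i => ?_
  obtain ⟨c, hc⟩ := List.exists_mem_of_ne_nil _ (hB.tri_ok i i.2).1
  exact tri_eq hB (h1 i c hc) (h2 i c hc)

theorem triAt_one (hD : ClsOK D) (hB : BigOK D B) : TriAt D B 1 1 := fun i c hc => by
  rw [actC_one hD (tri_lt hB i hc)]; exact hc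

theorem triAt_mul (hD : ClsOK D) {g h : Co0} (hh : h ∈ D.C0) {π ρ : Equiv.Perm (Fin D.n)}
    (hg : TriAt D B g π) (hk : TriAt D B h ρ) : TriAt D B (g * h) (π * ρ) := fun i c hc => by
  rw [actC_mul hD g hh]
  exact hg _ _ (hk i c hc)

theorem triAt_act (hD : ClsOK D) {a : Act} (ha : B.actOK D a = true) :
    TriAt D B (Mult.el a.1) (PermCert.perm D.n a.2.2) := by
  obtain ⟨-, -, hv, hlin, htri, -⟩ := bact_spec hD ha
  intro i c hc
  rw [hlin, PermCert.perm_apply hv]
  exact htri i i.2 c hc

theorem tri_all (hD : ClsOK D) (hB : BigOK D B) {g : Co0} (hg : g ∈ D.C0) :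
    ∃ π ∈ grp D.n D.chain, TriAt D B g π := by
  haveI : Finite Co0 := Nat.finite_of_card_ne_zero (by rw [card_co0]; norm_num)
  rw [← gens_eq hD hB] at hg
  induction hg using Subgroup.closure_induction with
  | mem x hx =>
    obtain ⟨a, ha, rfl⟩ := hx
    have hok := List.all_eq_true.mp hB.acts a ha
    obtain ⟨-, -, hv, -, -, hs⟩ := bact_spec hD hok
    refine ⟨_, ?_, triAt_act hD hok⟩
    have := mem_of_wsift hB.chain (w := [a.2.2]) (by simpa using hv) hs
    simpa [PermCert.wperm] using this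
  | one => exact ⟨1, one_mem _, triAt_one hD hB⟩
  | mul x y _ hy ihx ihy =>
    obtain ⟨π, hπ, h1⟩ := ihx
    obtain ⟨ρ, hρ, h2⟩ := ihy
    exact ⟨π * ρ, mul_mem hπ hρ, triAt_mul hD (gens_le hD hB hy) h1 h2⟩
  | inv x hx ih =>
    obtain ⟨π, hπ, h1⟩ := ih
    have hxC := gens_le hD hB hx
    have key : ∀ k : ℕ, TriAt D B (x ^ k) (π ^ k) := by
      intro k
      induction k with
      | zero => simpa using triAt_one hD hB
      | succ k ihk => rw [pow_succ, pow_succ]; exact triAt_mul hD hxC ihk h1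
    have e : x⁻¹ = x ^ (orderOf x - 1) := by
      refine inv_eq_of_mul_eq_one_right ?_
      rw [← pow_succ', Nat.sub_add_cancel (orderOf_pos x), pow_orderOf_eq_one]
    exact ⟨π ^ (orderOf x - 1), pow_mem hπ _, e ▸ key _⟩

/-- The homomorphism to the permutations of the triples. -/
noncomputable def triPerm (hD : ClsOK D) (hB : BigOK D B) : D.C0 →* grp D.n D.chain :=
  MonoidHom.mk' (fun g => ⟨_, (tri_all hD hB g.2).choose_spec.1⟩) fun g h => Subtype.ext
    (triAt_unique hB (tri_all hD hB (mul_mem g.2 h.2)).choose_spec.2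
      (triAt_mul hD h.2 (tri_all hD hB g.2).choose_spec.2 (tri_all hD hB h.2).choose_spec.2))

theorem triPerm_good (hD : ClsOK D) (hB : BigOK D B) (g : D.C0) :
    TriAt D B g (triPerm hD hB g : Equiv.Perm (Fin D.n)) := (tri_all hD hB g.2).choose_spec.2

theorem triPerm_act (hD : ClsOK D) (hB : BigOK D B) {i : ℕ} (hi : i < B.acts.length) :
    ∃ g : D.C0, (g : Co0) = Mult.el (B.act i).1 ∧
      (triPerm hD hB g : Equiv.Perm (Fin D.n)) = PermCert.perm D.n (B.act i).2.2 ∧
      valid D.n (B.act i).2.2 = true := by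
  obtain ⟨-, hok⟩ := bact_at hB hi
  obtain ⟨-, hC, hv, -, -, -⟩ := bact_spec hD hok
  exact ⟨⟨_, hC⟩, rfl, triAt_unique hB (triPerm_good hD hB _) (triAt_act hD hok), hv⟩

theorem top_valid (hB : BigOK D B) {s : PP} (hs : s ∈ topGens D.chain) : valid D.n s = true := by
  have h := hB.chain
  rcases hc : D.chain with - | ⟨L, r⟩
  · rw [hc] at hs; simp [topGens] at hs
  · rw [hc] at hs h
    simp only [wCheck, Bool.and_eq_true] at h
    exact (wLevel_spec h.1).2.1 s hs

theorem triPerm_surjective (hD : ClsOK D) (hB : BigOK D B) : Function.Surjective (triPerm hD hB) := by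
  set S := (triPerm hD hB).range.map (grp D.n D.chain).subtype with hSd
  obtain ⟨hlen, hslp⟩ := hB.slp
  have key : ∀ k < B.slp.length, PermCert.perm D.n ((topGens D.chain).getD k (0, 0)) ∈ S := by
    intro k
    induction k using Nat.strong_induction_on with
    | _ k ih =>
      intro hk
      obtain ⟨hsym, hid⟩ := hslp k hk
      have htop : (topGens D.chain).getD k (0, 0) ∈ topGens D.chain := by
        rw [List.getD_eq_getElem _ _ (hlen ▸ hk)]; exact List.getElem_mem _
      have hsymOK : ∀ x ∈ B.slp.getD k [], valid D.n (B.sym D x) = true ∧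
          PermCert.perm D.n (B.sym D x) ∈ S := by
        intro x hx
        have h1 := List.all_eq_true.mp hsym x hx
        set p := if x.1 then (topGens D.chain).getD x.2.1 (0, 0) else (B.act x.2.1).2.2 with hp
        have hpp : valid D.n p = true ∧ PermCert.perm D.n p ∈ S := by
          rcases hb : x.1
          · rw [hb] at h1
            simp only [Bool.false_eq_true, if_false, decide_eq_true_eq] at h1
            obtain ⟨g, -, hg, hv⟩ := triPerm_act hD hB h1
            rw [hp, hb, if_neg (by simp)]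
            exact ⟨hv, _, ⟨g, rfl⟩, hg⟩
          · rw [hb] at h1
            simp only [if_true, decide_eq_true_eq] at h1
            rw [hp, hb, if_pos rfl]
            refine ⟨top_valid hB ?_, ih _ h1 (h1.trans hk)⟩
            rw [List.getD_eq_getElem _ _ (hlen ▸ h1.trans hk)]; exact List.getElem_mem _
        show valid D.n (if x.2.2 then pinv p else p) = true ∧ PermCert.perm D.n (if x.2.2 then pinv p else p) ∈ S
        split
        · exact ⟨PermCert.valid_pinv hpp.1, by rw [PermCert.perm_pinv hpp.1]; exact inv_mem hpp.2⟩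
        · exact hpp
      have hval : ∀ g ∈ pinv ((topGens D.chain).getD k (0, 0)) :: (B.slp.getD k []).map (B.sym D),
          valid D.n g = true := by
        intro g hg
        rcases List.mem_cons.mp hg with rfl | hg
        · exact PermCert.valid_pinv (top_valid hB htop)
        · obtain ⟨x, hx, rfl⟩ := List.mem_map.mp hg
          exact (hsymOK x hx).1
      have h1 := PermCert.isId_sound hval hid
      rw [PermCert.wperm_cons, PermCert.perm_pinv (top_valid hB htop), inv_mul_eq_one] at h1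
      rw [h1, PermCert.wperm, List.map_map]
      exact list_prod_mem fun g hg => by
        obtain ⟨x, hx, rfl⟩ := List.mem_map.mp hg
        exact (hsymOK x hx).2
  intro π
  have : (π : Equiv.Perm (Fin D.n)) ∈ S := by
    refine (Subgroup.closure_le (K := S)).mpr ?_ π.2
    rintro _ ⟨s, hs, rfl⟩
    obtain ⟨k, hk, rfl⟩ := List.getElem_of_mem hs
    rw [← List.getD_eq_getElem _ (0, 0) hk]
    exact key k (hlen ▸ hk)
  obtain ⟨_, ⟨g, rfl⟩, e⟩ := this
  exact ⟨g, Subtype.ext e⟩

theorem move_spec (hD : ClsOK D) (hB : BigOK D B) (l : List ℕ) (hl : ∀ i ∈ l, i < B.acts.length) :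
    ∃ g : D.C0, (triPerm hD hB g : Equiv.Perm (Fin D.n)) = wperm D.n (l.map fun i => (B.act i).2.2) ∧
      ∀ c < 2 ^ D.m, D.actC g c = B.move D c l := by
  induction l with
  | nil => exact ⟨1, by simp, fun c hc => actC_one hD hc⟩
  | cons i l ih =>
    obtain ⟨g, hg1, hg2⟩ := ih fun j hj => hl j (List.mem_cons_of_mem _ hj)
    obtain ⟨a, ha, hap, hv⟩ := triPerm_act hD hB (hl i List.mem_cons_self)
    refine ⟨a * g, by rw [map_mul, Subgroup.coe_mul, hap, hg1, List.map_cons, PermCert.wperm_cons], fun c hc => ?_⟩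
    rw [Subgroup.coe_mul, actC_mul hD _ g.2, hg2 c hc, ha,
      (bact_spec hD (bact_at hB (hl i List.mem_cons_self)).2).2.2.2.1]
    rfl

theorem actT_le_triPerm (hD : ClsOK D) (hB : BigOK D B) : (actT hD).ker ≤ (triPerm hD hB).ker := fun g hg =>
  Subtype.ext (triAt_unique hB (triPerm_good hD hB g) fun i c hc => by
    rw [(actT_eq_one hD).mp hg c (tri_lt hB i hc)]; exact hc)

/-- The kernels of the two actions. -/
theorem big_kernels (hD : ClsOK D) (hB : BigOK D B) (hr : D.r = 3) :
    (actT hD).ker = Subgroup.zpowers (negX hD) ∧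
      Nat.card (triPerm hD hB).ker = 3 * Nat.card (actT hD).ker ∧ Nat.card (grp D.n D.chain) = size D.chain := by
  haveI : Finite Co0 := Nat.finite_of_card_ne_zero (by rw [card_co0]; norm_num)
  obtain ⟨hom, hid, hmv, hm1, hm2⟩ := hB.omega
  have hl : ∀ i ∈ B.om, i < B.acts.length := fun i hi => by simpa using List.all_eq_true.mp hom i hi
  obtain ⟨w, hw1, hw2⟩ := move_spec hD hB B.om hl
  have hwK : w ∈ (triPerm hD hB).ker := Subtype.ext (by
    rw [hw1]
    exact PermCert.isId_sound (fun g hg => by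
      obtain ⟨i, hi, rfl⟩ := List.mem_map.mp hg
      obtain ⟨-, -, -, hv⟩ := triPerm_act hD hB (hl i hi)
      exact hv) hid)
  have hw3 : w ∉ (actT hD).ker := fun h => hm1 (by rw [← hw2 _ hmv]; exact (actT_eq_one hD).mp h _ hmv)
  have hw4 : w * w ∉ (actT hD).ker := fun h => hm2 (by
    have happ : ∀ (l : List ℕ) c, B.move D c (l ++ B.om) = B.move D (B.move D c B.om) l := by
      intro l c
      induction l with
      | nil => rfl
      | cons i l ih => simp only [List.cons_append, Big.move]; rw [ih]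
    have h1 := (actT_eq_one hD).mp h _ hmv
    rw [Subgroup.coe_mul, actC_mul hD _ w.2, hw2 _ hmv, hw2 _ (by rw [← hw2 _ hmv]; exact actC_lt _ _)] at h1
    rw [happ]; exact h1)
  have hN : Subgroup.zpowers (negX hD) ≤ (actT hD).ker :=
    Subgroup.zpowers_le.mpr ((actT_eq_one hD).mpr fun c hc => negX_trivial hD hc)
  have hNc : Nat.card (Subgroup.zpowers (negX hD)) = 6 := by
    rw [Nat.card_zpowers, ← Subgroup.orderOf_coe]
    show orderOf (negOne * D.x) = 6
    have h2 : orderOf negOne = 2 := orderOf_eq_prime (by rw [pow_two, negOne_sq]) negOne_ne_one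
    haveI := Fact.mk hB.prime
    have hx : orderOf D.x = D.r := orderOf_eq_prime (x_pow_r hD) fun h => by
      obtain ⟨i, hi, hne⟩ := hB.moved
      have e := x_e8 hD (ptAt i)
      rw [h, one_smul] at e
      have := e8_pos (s := false) (t := false) e
      rw [toP_ptAt (valid_sig hD) hi] at this
      have h1 := congrArg pidx this
      rw [show pidx (ptAt i) = i from pidx_ptAt ⟨i, hi⟩, show pidx (ptAt (ap D.sig.1 i)) = _ from
        pidx_ptAt ⟨_, PermCert.valid_lt (valid_sig hD) hi⟩] at h1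
      exact hne h1.symm
    rw [Commute.orderOf_mul_eq_mul_orderOf_of_coprime (negOne_comm D.x) (by
      rw [h2, hx, hr]; norm_num), h2, hx, hr]
  -- the size of the kernel on triples
  have hK := (triPerm hD hB).ker.card_mul_index
  rw [Subgroup.index_ker, MonoidHom.range_eq_top.mpr (triPerm_surjective hD hB), Subgroup.card_top] at hK
  have hb := card_C0_big hD hB
  rw [← hK, hr] at hb
  have hlow := size_le_card hB.chain
  have hpos : 0 < size D.chain := by
    rcases Nat.eq_zero_or_pos (size D.chain) with h | h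
    · rw [h, Nat.mul_zero] at hb
      exact absurd hb (Nat.not_le.mpr (Nat.mul_pos Nat.card_pos Nat.card_pos))
    · exact h
  have hK18 : Nat.card (triPerm hD hB).ker ≤ 18 :=
    Nat.le_of_mul_le_mul_right ((Nat.mul_le_mul_left _ hlow).trans hb) hpos
  set K := (triPerm hD hB).ker with hKd
  set T := (actT hD).ker with hTd
  have hTK : T ≤ K := actT_le_triPerm hD hB
  set T' := T.subgroupOf K with hT'
  haveI : T'.Normal := (inferInstance : (actT hD).ker.Normal).subgroupOf K
  have hcT : Nat.card T' = Nat.card T := Nat.card_congr (Subgroup.subgroupOfEquivOfLe hTK).toEquiv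
  have h1 := T'.card_mul_index
  rw [hcT] at h1
  obtain ⟨j, hj⟩ : 6 ∣ Nat.card T := hNc ▸ Subgroup.card_dvd_of_le hN
  have hTpos : 0 < Nat.card T := Nat.card_pos
  have hidx1 : T'.index ≠ 1 := fun h => hw3 (by
    have : (⟨w, hwK⟩ : K) ∈ T' := by rw [Subgroup.index_eq_one.mp h]; exact Subgroup.mem_top _
    exact this)
  have hidx2 : T'.index ≠ 2 := fun h => hw4 (by
    exact (Subgroup.mul_self_mem_of_index_two h ⟨w, hwK⟩ : (⟨w, hwK⟩ : K) * ⟨w, hwK⟩ ∈ T'))
  have hidx0 : T'.index ≠ 0 := Subgroup.index_ne_zero_of_finite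
  have hj1 : j = 1 ∧ T'.index = 3 := by
    rw [hj] at h1
    rw [← h1] at hK18
    have : j ≠ 0 := by rintro rfl; omega
    have h3 : 3 ≤ T'.index := by omega
    have : j * T'.index ≤ 3 := by nlinarith
    have hj' : j = 1 := by
      by_contra hne
      have : 2 * T'.index ≤ j * T'.index := Nat.mul_le_mul_right _ (by omega)
      omega
    subst hj'
    omega
  have hK : Nat.card K = 18 := by rw [← h1, hj, hj1.1, hj1.2]
  refine ⟨(Subgroup.eq_of_le_of_card_ge hN (by rw [hNc, hj, hj1.1])).symm, ?_, le_antisymm ?_ hlow⟩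
  · rw [← h1, hj1.2, hj, mul_comm]
  · rw [hK] at hb
    omega

end Cfsg.Lib.Leech.MonsterSection
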