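import Cfsg.Agent.Leech.MonsterSection.Fixed

/-!
# Checks on long lists of classes
-/

set_option autoImplicit false
set_option linter.style.haveILetI false

namespace Cfsg.Lib.Leech.MonsterSection

open Cfsg Cfsg.Lib.Golay Cfsg.Lib.Leech Stab

/-- A check on a list with positions holds at every position. -/
theorem of_zipIdx {α : Type*} {l : List α} {p : α → ℕ → Bool} (d : α)
    (h : (l.zipIdx.all fun e => p e.1 e.2) = true) (c : ℕ) (hc : c < l.length) : p (l.getD c d) c = true := by
  rw [List.getD_eq_getElem _ _ hc]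
  exact List.all_eq_true.mp h (l[c], c) (List.mk_mem_zipIdx_iff_getElem?.2 (List.getElem?_eq_getElem hc))

theorem getD_zip_fst {α β : Type*} (l : List α) (l' : List β) (a : α) (b : β) {c : ℕ} (hc : c < (l.zip l').length) :
    ((l.zip l').getD c (a, b)).1 = l.getD c a := by
  rw [List.getD_eq_getElem _ _ hc, List.getElem_zip, List.getD_eq_getElem]

/-- A check on the blocks of a list with positions holds at every position. -/
theorem of_chunks {α : Type*} {l : List α} {p : α → ℕ → Bool} (d : α) {k w : ℕ} (hl : l.length = k * w)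
    (h : ∀ i < k, (((l.drop (w * i)).take w).zipIdx.all fun e => p e.1 (w * i + e.2)) = true) (c : ℕ)
    (hc : c < k * w) : p (l.getD c d) c = true := by
  have hw : 0 < w := Nat.pos_of_ne_zero fun e => by simp [e] at hc
  have hi : c / w < k := Nat.div_lt_iff_lt_mul hw |>.mpr hc
  have hr := Nat.mod_lt c hw
  have hcd := Nat.div_add_mod c w
  have hlen : c % w < ((l.drop (w * (c / w))).take w).length := by
    rw [List.length_take, List.length_drop]; omega
  have h1 := of_zipIdx d (p := fun x r => p x (w * (c / w) + r)) (h _ hi) (c % w) hlen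
  rw [List.getD_eq_getElem _ _ hlen, List.getElem_take, List.getElem_drop] at h1
  simp only [hcd] at h1
  rwa [List.getD_eq_getElem _ _ (hl ▸ hc)]

/-- Checks in blocks. -/
theorem of_blocks {p : ℕ → Prop} {k w : ℕ} (h : ∀ i < k, ∀ r < w, p (w * i + r)) (c : ℕ) (hc : c < k * w) : p c := by
  have hw : 0 < w := Nat.pos_of_ne_zero fun e => by simp [e] at hc
  have := h (c / w) (Nat.div_lt_iff_lt_mul hw |>.mpr hc) (c % w) (Nat.mod_lt _ hw)
  rwa [Nat.div_add_mod] at this

/-- The number of positions with a property. -/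
theorem card_filter_getD {α : Type*} (l : List α) (d : α) (p : α → Prop) [DecidablePred p] :
    ((Finset.range l.length).filter fun c => p (l.getD c d)).card = l.countP fun x => decide (p x) := by
  induction l using List.reverseRecOn with
  | nil => simp
  | append_singleton l a ih =>
    rw [List.length_append, List.length_singleton, Finset.range_add_one, Finset.filter_insert, List.countP_append,
      List.countP_singleton, ← ih]
    have e : (Finset.range l.length).filter (fun c => p ((l ++ [a]).getD c d)) =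
        (Finset.range l.length).filter fun c => p (l.getD c d) :=
      Finset.filter_congr fun c hc => by
        rw [List.getD_append _ _ _ _ (Finset.mem_range.mp hc)]
    have e2 : (l ++ [a]).getD l.length d = a := by
      rw [List.getD_append_right _ _ _ _ le_rfl, Nat.sub_self]; rfl
    rw [e, e2]
    by_cases hp : p a
    · rw [if_pos hp, Finset.card_insert_of_notMem (by simp), if_pos (by simpa using hp)]
    · rw [if_neg hp, if_neg (by simpa using hp), Nat.add_zero]

variable {D : Data}

/-- Nondegeneracy from the products of the basis modulo two. -/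
theorem nondeg_of_gram (hD : ClsOK D) (gram : List ℕ)
    (hg : ∀ i < D.m, gram.getD i 0 < 2 ^ D.m ∧ ∀ j < D.m,
      decide (dotInt (dec (D.bs.getD i 0)) (dec (D.bs.getD j 0)) / 8 % 2 = 1) = (gram.getD i 0).testBit j)
    (hu : ∀ j < D.m, ∀ p, D.vecZ (2 ^ j) D.m p = dec (D.bs.getD j 0) p)
    (hinj : ∀ c < 2 ^ D.m, c ≠ 0 → linK gram c D.m ≠ 0) : NondegOK D := by
  have hbL : ∀ j < D.m, dec (D.bs.getD j 0) ∈ leechLattice := fun j hj => by
    have h := hD.bs_ok j hj
    simp only [Bool.and_eq_true] at h
    exact mem_of_inL h.1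
  have key : ∀ c, ∀ n ≤ D.m, linK gram c n < 2 ^ D.m ∧ ∀ j < D.m,
      decide (dotInt (D.vecZ c n) (dec (D.bs.getD j 0)) / 8 % 2 = 1) = (linK gram c n).testBit j := by
    intro c n
    induction n with
    | zero =>
      intro _
      refine ⟨by rw [linK]; exact Nat.two_pow_pos _, fun j _ => ?_⟩
      rw [linK, Nat.zero_testBit, decide_eq_false_iff_not]
      simp [Data.vecZ, dotInt]
    | succ n ih =>
      intro hn
      obtain ⟨hlt, hbit⟩ := ih (by omega)
      have hz : D.vecZ c (n + 1) = (if c.testBit n then dec (D.bs.getD n 0) else 0) + D.vecZ c n := by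
        funext p
        simp only [Data.vecZ, Pi.add_apply]
        split <;> simp
      cases hc : c.testBit n
      · rw [linK, hz, hc]
        simp only [Bool.false_eq_true, if_false, zero_add]
        exact ⟨hlt, hbit⟩
      · rw [linK, hz, hc]
        simp only [if_true]
        obtain ⟨hgl, hgb⟩ := hg n (by omega)
        refine ⟨Nat.xor_lt_two_pow hgl hlt, fun j hj => ?_⟩
        have hv : D.vecZ c n ∈ leechLattice := by rw [← vecN_coe hD c n (by omega)]; exact (D.vecN c n).2
        obtain ⟨a, ha⟩ := eight_dvd_dot (hbL n (by omega)) (hbL j hj)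
        obtain ⟨b, hb⟩ := eight_dvd_dot hv (hbL j hj)
        rw [dot_add_left, Nat.testBit_xor, ← hgb j hj, ← hbit j hj, ha, hb, ← mul_add,
          Int.mul_ediv_cancel_left _ (by norm_num), Int.mul_ediv_cancel_left _ (by norm_num),
          Int.mul_ediv_cancel_left _ (by norm_num)]
        rcases Int.emod_two_eq_zero_or_one a with h1 | h1 <;> rcases Int.emod_two_eq_zero_or_one b with h2 | h2 <;>
          simp [Int.add_emod, h1, h2]
  intro c hc h0
  obtain ⟨hlt, hbit⟩ := key c D.m le_rfl
  obtain ⟨j, hj⟩ := Nat.exists_testBit_of_ne_zero (hinj c hc h0)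
  have hjm : j < D.m := by
    by_contra hh
    rw [Nat.testBit_lt_two_pow (hlt.trans_le (Nat.pow_le_pow_right (by norm_num) (not_lt.mp hh)))] at hj
    exact absurd hj (by simp)
  refine ⟨j, hjm, ?_⟩
  rw [← hbit j hjm, decide_eq_true_eq] at hj
  rw [show D.vecZ (2 ^ j) D.m = dec (D.bs.getD j 0) from funext (hu j hjm)]
  exact hj

/-- The packed origin. -/
def origin : ℤ := ∑ i ∈ Finset.range 24, 16 * 32 ^ i

/-- A linear combination of packed basis vectors. -/
def linP (bs : List ℕ) (o : ℤ) (A : ℕ) : ℕ → ℤ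
  | 0 => 0
  | n + 1 => co A n * ((bs.getD n 0 : ℤ) - o) + linP bs o A n

/-- A row of the form. -/
def rowP (G : List (List ℤ)) (A l : ℕ) : ℕ → ℤ
  | 0 => 0
  | n + 1 => co A n * (G.getD n []).getD l 0 + rowP G A l n

/-- The form at a combination. -/
def qfP (G : List (List ℤ)) (A m : ℕ) : ℕ → ℤ
  | 0 => 0
  | n + 1 => co A n * rowP G A n m + qfP G A m n

/-- The bits of a combination. -/
def parP (A c : ℕ) : ℕ → Bool
  | 0 => true
  | n + 1 => (decide (cv A n % 2 = 1) == c.testBit n) && parP A c n

/-- A representative is the packed combination with the given coefficients. -/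
def repK (D : Data) (G : List (List ℤ)) (o : ℤ) (A K c : ℕ) : Bool :=
  decide (qfP G A D.m D.m ≤ 64) && decide ((K : ℤ) - o = linP D.bs o A D.m) && parP A c D.m

theorem dot_smul_left (a : ℤ) (x y : GolayPt → ℤ) : dotInt (fun p => a * x p) y = a * dotInt x y := by
  simp only [dotInt, Finset.mul_sum, mul_assoc]

theorem packK_cast (f : ℕ → ℕ) : ∀ n, (packK f n : ℤ) = ∑ i ∈ Finset.range n, (f i : ℤ) * 32 ^ i
  | 0 => by simp [packK]
  | n + 1 => by
    rw [packK, Finset.sum_range_succ, Nat.cast_add, packK_cast f n, Nat.shiftLeft_eq, Nat.cast_mul, pow_mul]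
    norm_num

theorem packed_eq {K : ℕ} (h : packK (cv K) 24 = K) :
    (K : ℤ) - origin = ∑ i ∈ Finset.range 24, co K i * 32 ^ i := by
  conv_lhs => rw [← h]
  rw [packK_cast, origin, ← Finset.sum_sub_distrib]
  exact Finset.sum_congr rfl fun i _ => by rw [co]; ring

theorem rep_of_repK {G : List (List ℤ)} {o : ℤ} (ho : o = origin)
    (hbs : ∀ j < D.m, dec (D.bs.getD j 0) ∈ leechLattice ∧ packK (cv (D.bs.getD j 0)) 24 = D.bs.getD j 0)
    (hG : ∀ j < D.m, ∀ l < D.m, (G.getD j []).getD l 0 = dotK (D.bs.getD j 0) (D.bs.getD l 0))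
    {A K c : ℕ} (h : repK D G o A K c = true) : dec K ∈ leechLattice ∧ Cfsg.sqNorm (dec K) ≤ 64 ∧
      ∃ w : leechLattice, (fun p => dec K p - D.vecZ c D.m p) = (2 : ℤ) • (w : GolayPt → ℤ) := by
  simp only [repK, Bool.and_eq_true, decide_eq_true_eq] at h
  obtain ⟨⟨hq, hl⟩, hp⟩ := h
  subst ho
  -- the combination
  have main : ∀ n ≤ D.m, parP A c n = true → ∃ v : leechLattice, ∃ w : leechLattice,
      (∀ p, (v : GolayPt → ℤ) p - D.vecZ c n p = 2 * (w : GolayPt → ℤ) p) ∧
      linP D.bs origin A n = ∑ i ∈ Finset.range 24, (v : GolayPt → ℤ) (ptAt i) * 32 ^ i ∧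
      (∀ l < D.m, dotInt (v : GolayPt → ℤ) (dec (D.bs.getD l 0)) = rowP G A l n) ∧
      ∀ u : GolayPt → ℤ, (∀ l < D.m, dotInt u (dec (D.bs.getD l 0)) = rowP G A l D.m) →
        dotInt (v : GolayPt → ℤ) u = qfP G A D.m n := by
    intro n
    induction n with
    | zero =>
      intro _ _
      exact ⟨0, 0, fun p => by simp [Data.vecZ], by simp [linP], fun l _ => by simp [rowP, dotInt],
        fun u _ => by simp [qfP, dotInt]⟩
    | succ n ih =>
      intro hn hp
      simp only [parP, Bool.and_eq_true, beq_iff_eq] at hp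
      obtain ⟨v, w, hv, hlin, hrow, hqf⟩ := ih (by omega) hp.2
      obtain ⟨hb1, hb2⟩ := hbs n (by omega)
      set b : leechLattice := ⟨_, hb1⟩ with hb
      have hbc : (b : GolayPt → ℤ) = dec (D.bs.getD n 0) := rfl
      have hvc : ((co A n • b + v : leechLattice) : GolayPt → ℤ) =
          (fun p => co A n * dec (D.bs.getD n 0) p) + (v : GolayPt → ℤ) := by
        funext p; simp [hbc]
      refine ⟨co A n • b + v, (co A n / 2) • b + w, fun p => ?_, ?_, fun l hl' => ?_, fun u hu => ?_⟩
      · have e := hv p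
        have h2 := hp.1
        simp only [AddSubgroup.coe_add, AddSubgroup.coe_zsmul, Pi.add_apply, Pi.smul_apply, smul_eq_mul, Data.vecZ,
          hbc]
        rcases hc : c.testBit n
        · rw [hc, decide_eq_false_iff_not] at h2
          have h3 : co A n = 2 * (co A n / 2) := by simp only [co]; omega
          simp only [Bool.false_eq_true, if_false]
          linear_combination e + dec (D.bs.getD n 0) p * h3
        · rw [hc, decide_eq_true_eq] at h2
          have h3 : co A n = 2 * (co A n / 2) + 1 := by simp only [co]; omega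
          simp only [if_true]
          linear_combination e + dec (D.bs.getD n 0) p * h3
      · rw [linP, hlin, packed_eq hb2, Finset.mul_sum, ← Finset.sum_add_distrib, hvc]
        refine Finset.sum_congr rfl fun i hi => ?_
        simp only [Pi.add_apply, dec, show pidx (ptAt i) = i from pidx_ptAt ⟨i, Finset.mem_range.mp hi⟩]
        ring
      · rw [hvc, dot_add_left, dot_smul_left, hrow l hl', rowP, hG n (by omega) l hl', dotK_eq]
      · rw [hvc, dot_add_left, dot_smul_left, hqf u hu, qfP,
          show dotInt (dec (D.bs.getD n 0)) u = dotInt u (dec (D.bs.getD n 0)) by simp [dotInt, mul_comm],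
          hu n (by omega)]
  obtain ⟨v, w, hv, hlin, hrow, hqf⟩ := main D.m le_rfl hp
  have hn : Cfsg.sqNorm (v : GolayPt → ℤ) ≤ 64 := by
    have e := hqf _ hrow
    rw [show Cfsg.sqNorm (v : GolayPt → ℤ) = dotInt (v : GolayPt → ℤ) v by simp [Cfsg.sqNorm, dotInt, pow_two], e]
    exact hq
  have hb : ∀ p, -8 ≤ (v : GolayPt → ℤ) p ∧ (v : GolayPt → ℤ) p ≤ 8 := fun p => by
    have h1 : (v : GolayPt → ℤ) p ^ 2 ≤ 64 := le_trans
      (Finset.single_le_sum (f := fun q => (v : GolayPt → ℤ) q ^ 2) (fun q _ => sq_nonneg _) (Finset.mem_univ p)) hn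
    constructor <;> nlinarith
  have hK : dec K = (v : GolayPt → ℤ) := by
    set f : ℕ → ℕ := fun i => ((v : GolayPt → ℤ) (ptAt i) + 16).toNat with hf
    have hf32 : ∀ i, f i < 32 ∧ (f i : ℤ) = (v : GolayPt → ℤ) (ptAt i) + 16 := fun i => by
      have := hb (ptAt i)
      simp only [hf]
      constructor <;> omega
    have e : packK f 24 = K := by
      have e1 : (packK f 24 : ℤ) = K := by
        rw [packK_cast, show (K : ℤ) = origin + linP D.bs origin A D.m by linarith, hlin, origin,
          ← Finset.sum_add_distrib]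
        exact Finset.sum_congr rfl fun i _ => by rw [(hf32 i).2]; ring
      exact_mod_cast e1
    funext p
    have h1 := cv_packK f 24 (fun i _ => (hf32 i).1) (pidx p) (pidx_lt p)
    rw [e] at h1
    simp only [dec, co, h1, (hf32 _).2, show ptAt (pidx p) = p from ptEquiv.symm_apply_apply p]
    ring
  exact ⟨hK ▸ v.2, hK ▸ hn, w, funext fun p => by rw [hK, Pi.smul_apply, smul_eq_mul]; exact hv p⟩

/-- The representatives, from checks on blocks. -/
theorem reps_of_chunks {G : List (List ℤ)} {o : ℤ} (ho : o = origin)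
    (hbs : ∀ j < D.m, inL (dec (D.bs.getD j 0)) = true ∧ packK (cv (D.bs.getD j 0)) 24 = D.bs.getD j 0)
    (hG : ∀ j < D.m, ∀ l < D.m, (G.getD j []).getD l 0 = dotK (D.bs.getD j 0) (D.bs.getD l 0))
    {L L' : List ℕ} (hL : D.reps = L) (hlen : (L.zip L').length = 16 * 256) (hm : 2 ^ D.m = 16 * 256)
    (h : ∀ i < 16, ((((L.zip L').drop (256 * i)).take 256).zipIdx.all fun e =>
      repK D G o e.1.2 e.1.1 (256 * i + e.2)) = true) :
    ∀ c < 2 ^ D.m, dec (D.reps.getD c 0) ∈ leechLattice ∧ Cfsg.sqNorm (dec (D.reps.getD c 0)) ≤ 64 ∧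
      ∃ w : leechLattice, (fun p => dec (D.reps.getD c 0) p - D.vecZ c D.m p) = (2 : ℤ) • (w : GolayPt → ℤ) := by
  intro c hc
  rw [hm] at hc
  have h1 := of_chunks (p := fun (e : ℕ × ℕ) i => repK D G o e.2 e.1 i) (0, 0) hlen h c hc
  rw [hL, ← getD_zip_fst L L' 0 0 (lt_of_lt_of_eq hc hlen.symm)]
  exact rep_of_repK ho (fun j hj => ⟨mem_of_inL (hbs j hj).1, (hbs j hj).2⟩) hG h1

end Cfsg.Lib.Leech.MonsterSection
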