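import Cfsg.Agent.Leech.MonsterSection.Six

/-!
# Central elements of a Sylow 3-subgroup have six fixed points
-/

set_option autoImplicit false
set_option maxRecDepth 100000

namespace Cfsg.Lib.Leech.MonsterSection

open Cfsg Cfsg.Lib.Golay Cfsg.Lib.PermCert

theorem centerCheck : ((FusionCert.elems cgSyl3.chain).all fun w =>
    !(cgSyl3.gens.all fun g => (List.range 24).all fun i =>
      evalWord w (ap g.1.1 i) == ap g.1.1 (evalWord w i)) ||
    (List.range 24).countP (fun i => evalWord w i == i) == 6 || isId 24 w) = true ∧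
    (cgSyl3.gens.all fun g => preserves g.1) = true ∧ size cgSyl3.chain = 27 := by
  decide +kernel

theorem fixCard_word {w : List PP} {x : Equiv.Perm GolayPt} (h : ∀ p, pidx (x p) = evalWord w (pidx p)) :
    fixCard x = (List.range 24).countP fun i => evalWord w i == i := by
  rw [fixCard, List.countP_eq_length_filter, ← List.toFinset_card_of_nodup (List.nodup_range.filter _)]
  refine Finset.card_bij (fun p _ => pidx p) (fun p hp => ?_) (fun p _ q _ e => pidx_injective e) fun i hi => ?_
  · simp only [Finset.mem_filter, Finset.mem_univ, true_and] at hp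
    simp only [List.mem_toFinset, List.mem_filter, List.mem_range, beq_iff_eq]
    exact ⟨pidx_lt p, by rw [← h, hp]⟩
  · simp only [List.mem_toFinset, List.mem_filter, List.mem_range, beq_iff_eq] at hi
    refine ⟨ptAt i, ?_, pidx_ptAt ⟨i, hi.1⟩⟩
    simp only [Finset.mem_filter, Finset.mem_univ, true_and]
    refine pidx_injective ?_
    rw [h, show pidx (ptAt i) = i from pidx_ptAt ⟨i, hi.1⟩, hi.2]

/-- An element of order 3 central in a subgroup of order 27 has six fixed points. -/
theorem six_of_central {P : Subgroup M24} (hP : Nat.card P = 27) {x : M24} (hx : x ∈ P)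
    (hc : ∀ p ∈ P, p * x = x * p) (h3 : orderOf x = 3) : fixCard (x : Equiv.Perm GolayPt) = 6 := by
  haveI : Fact (Nat.Prime 3) := ⟨Nat.prime_three⟩
  obtain ⟨hall, hgen, hsz⟩ := centerCheck
  have hcl := (CG.ok_spec cgSyl3_ok).2.2
  have hle : cgSyl3.grp ≤ M24 := by
    rw [← hcl, Subgroup.closure_le]
    rintro _ ⟨g, hg, rfl⟩
    exact toP_mem_M24 (List.all_eq_true.mp hgen g hg)
  have hfac : (Nat.card M24).factorization 3 = 3 := by
    rw [card_M24, show (244823040 : ℕ) = 3 ^ 3 * 9067520 by norm_num, Nat.factorization_mul (by norm_num) (by norm_num),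
      Finsupp.add_apply, Nat.factorization_pow, Finsupp.smul_apply, Nat.prime_three.factorization_self,
      Nat.factorization_eq_zero_of_not_dvd (by norm_num : ¬ 3 ∣ 9067520)]
    rfl
  have h0 : Nat.card (cgSyl3.grp.subgroupOf M24) = 3 ^ (Nat.card M24).factorization 3 := by
    rw [Nat.card_congr (Subgroup.subgroupOfEquivOfLe hle).toEquiv, CG.card_grp cgSyl3_ok, hsz, hfac]; norm_num
  have h1 : Nat.card P = 3 ^ (Nat.card M24).factorization 3 := by rw [hP, hfac]; norm_num
  obtain ⟨τ, hτ⟩ := MulAction.exists_smul_eq M24 (Sylow.ofCard P h1) (Sylow.ofCard _ h0)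
  have hmap : ∀ p ∈ P, ((τ * p * τ⁻¹ : M24) : Equiv.Perm GolayPt) ∈ cgSyl3.grp := by
    intro p hp
    have : τ * p * τ⁻¹ ∈ (Sylow.ofCard _ h0 : Subgroup M24) := by
      rw [← hτ, Sylow.coe_subgroup_smul]; exact ⟨p, hp, rfl⟩
    exact this
  set y : M24 := τ * x * τ⁻¹ with hy
  obtain ⟨w, hw, hwv, hwy⟩ := elems_spec (x := (y : Equiv.Perm GolayPt)) (CG.ok_spec cgSyl3_ok).1 (hmap x hx)
  have hyc : ∀ g ∈ cgSyl3.gens, (y : Equiv.Perm GolayPt) * toP g.1 = toP g.1 * y := by
    intro g hg
    have hgm : toP g.1 ∈ cgSyl3.grp := hcl ▸ Subgroup.subset_closure ⟨g, hg, rfl⟩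
    have hgP : τ⁻¹ * ⟨toP g.1, hle hgm⟩ * τ ∈ P := by
      have h2 : (⟨toP g.1, hle hgm⟩ : M24) ∈ (Sylow.ofCard _ h0 : Subgroup M24) := hgm
      rw [← hτ, Sylow.coe_subgroup_smul] at h2
      obtain ⟨p, hp, e⟩ := h2
      rw [show (⟨toP g.1, hle hgm⟩ : M24) = τ * p * τ⁻¹ from e.symm,
        show τ⁻¹ * (τ * p * τ⁻¹) * τ = p by group]
      exact hp
    have e := congrArg (fun q => τ * q * τ⁻¹) (hc _ hgP)
    have e' : (⟨toP g.1, hle hgm⟩ : M24) * y = y * ⟨toP g.1, hle hgm⟩ := by
      rw [hy]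
      calc _ = τ * (τ⁻¹ * ⟨toP g.1, hle hgm⟩ * τ * x) * τ⁻¹ := by group
        _ = τ * (x * (τ⁻¹ * ⟨toP g.1, hle hgm⟩ * τ)) * τ⁻¹ := e
        _ = _ := by group
    exact (congrArg Subtype.val e').symm
  have hcomm : (cgSyl3.gens.all fun g => (List.range 24).all fun i =>
      evalWord w (ap g.1.1 i) == ap g.1.1 (evalWord w i)) = true := by
    simp only [List.all_eq_true, List.mem_range, beq_iff_eq]
    intro g hg i hi
    have hgv : valid 24 g.1 = true := by
      have := List.all_eq_true.mp hgen g hg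
      simp only [preserves, Bool.and_eq_true] at this
      exact this.1
    have e := congrArg (fun f : Equiv.Perm GolayPt => pidx (f (ptAt i))) (hyc g hg)
    simp only [Equiv.Perm.mul_apply, hwy, pidx_toP hgv, show pidx (ptAt i) = i from pidx_ptAt ⟨i, hi⟩] at e
    exact e
  have h2 := List.all_eq_true.mp hall w hw
  rw [hcomm, Bool.not_true, Bool.false_or, Bool.or_eq_true, beq_iff_eq] at h2
  rw [show fixCard (x : Equiv.Perm GolayPt) = fixCard (y : Equiv.Perm GolayPt) by
    rw [hy, Subgroup.coe_mul, Subgroup.coe_mul, Subgroup.coe_inv, fixCard_conj]]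
  rcases h2 with h2 | h2
  · rw [fixCard_word hwy, h2]
  · exfalso
    have hy1 : y = 1 := Subtype.ext (Equiv.ext fun p => pidx_injective (by
      rw [hwy]
      have := List.all_eq_true.mp h2 _ (List.mem_range.mpr (pidx_lt p))
      rw [beq_iff_eq] at this
      exact this))
    have hx1 : x = 1 := by
      have : x = τ⁻¹ * y * τ := by rw [hy]; group
      rw [this, hy1]; group
    rw [hx1, orderOf_one] at h3
    omega

end Cfsg.Lib.Leech.MonsterSection
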