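import Cfsg.Agent.Leech.MonsterSection.Top
import Cfsg.Agent.Components.Misc.InvertedCores

/-!
# Normal subgroups of the centraliser of a standard element

A normal subgroup contains the central involution or lies in the group of the element, as soon as two fused fixed
points have a fused product; so the layer is non-trivial and contains the conjugates of the central involution.
-/

set_option autoImplicit false
set_option linter.style.haveILetI false
set_option linter.unusedSectionVars false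

namespace Cfsg.Lib.Leech.MonsterSection

open Cfsg Cfsg.Lib.Golay Cfsg.Lib.Leech Stab
open scoped commutatorElement

variable {G : Type*} [Group G] [Finite G] {z : G} {Q : Subgroup (Subgroup.centralizer ({z} : Set G))} [Q.Normal]
  {e : (Subgroup.centralizer ({z} : Set G)) ⧸ Q ≃* Spor.Co1} {ψ : leechLattice → Q ⧸ Subgroup.center Q} {D : Data}
  {P : Type*} [Group P]

/-- The conjugates of the central involution by the centraliser of the element. -/
def ConjB (z : G) (B : Subgroup G) (x : G) : Prop := ∃ c ∈ Subgroup.centralizer (B : Set G), c * x * c⁻¹ = z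

variable (hw : IsExtraspecialCentralizerSetting z Q 12) (hψ : IsLeechModTwoIso Q e ψ) (hD : ClsOK D) (ρ : Rep hD P)
variable (hnd : NondegOK D)
variable {b : Subgroup.centralizer ({z} : Set G)} {k : Co0} (hb : orderOf b = D.r) (hi : Img e k D.x b)
variable {B : Subgroup G} (hB : B = Subgroup.zpowers (b : G))

theorem mem_centB (hB : B = Subgroup.zpowers (b : G)) {g : G} :
    g ∈ Subgroup.centralizer (B : Set G) ↔ g * (b : G) = (b : G) * g := by
  rw [hB, Subgroup.mem_centralizer_iff]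
  constructor
  · exact fun h => (h _ (Subgroup.mem_zpowers _)).symm
  · intro h y hy
    obtain ⟨i, rfl⟩ := Subgroup.mem_zpowers_iff.mp hy
    exact ((Commute.zpow_right h i).symm).eq

theorem zpow_B (hb : orderOf b = D.r) (hB : B = Subgroup.zpowers (b : G)) {g : G} (hg : g ∈ B) : g ^ D.r = 1 := by
  rw [hB] at hg
  obtain ⟨i, rfl⟩ := Subgroup.mem_zpowers_iff.mp hg
  rw [← zpow_natCast, ← zpow_mul, mul_comm, zpow_mul, zpow_natCast,
    show (b : G) ^ D.r = 1 by rw [← hb, ← Subgroup.orderOf_coe, pow_orderOf_eq_one], one_zpow]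

theorem two_B (hD : ClsOK D) (hb : orderOf b = D.r) (hB : B = Subgroup.zpowers (b : G)) {g : G} (hg : g ∈ B)
    (h2 : g * g = 1) : g = 1 := by
  obtain ⟨j, hj⟩ := hD.ord.1
  have h := zpow_B hb hB hg
  rwa [hj, pow_succ, pow_mul, pow_two, h2, one_pow, one_mul] at h

variable {N : Subgroup ↥(Subgroup.centralizer (B : Set G))}

include hw hψ hD hnd hb hi hB in
/-- A normal subgroup avoiding the central involution meets the fixed points trivially. -/
theorem fix_trivial (hN : N.Normal) (hz : ∀ h, (⟨z, h⟩ : ↥(Subgroup.centralizer (B : Set G))) ∉ N)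
    {w : Subgroup.centralizer ({z} : Set G)} (hwF : w ∈ fixQ Q b) (hwC : (w : G) ∈ Subgroup.centralizer (B : Set G))
    (hwN : (⟨(w : G), hwC⟩ : ↥(Subgroup.centralizer (B : Set G))) ∈ N) : w = 1 := by
  obtain ⟨hwQ, hwb⟩ := mem_fixQ.mp hwF
  set q : Q := ⟨w, hwQ⟩ with hq
  by_cases hc : ∀ p : Q, (p : Subgroup.centralizer ({z} : Set G)) * b = b * p → p * q = q * p
  · rcases center_cases' hw (fix_center hw hψ hD hb hi hnd (q := q) hwb hc) with h | h
    · exact h
    · exact absurd hwN (by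
        have e1 : (w : G) = z := congrArg Subtype.val h
        intro hmem
        refine hz (e1 ▸ hwC) ?_
        convert hmem using 2
        exact e1.symm)
  · exfalso
    push_neg at hc
    obtain ⟨p, hpb, hpq⟩ := hc
    have hpC : ((p : Subgroup.centralizer ({z} : Set G)) : G) ∈ Subgroup.centralizer (B : Set G) :=
      (mem_centB hB).mpr (congrArg Subtype.val hpb)
    have hcc : p * q * p⁻¹ * q⁻¹ ∈ Subgroup.center Q := by
      rw [← QuotientGroup.eq_one_iff]
      simp only [QuotientGroup.mk_mul, QuotientGroup.mk_inv]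
      rw [mul_inv_eq_one, mul_inv_eq_iff_eq_mul, (psi_mul_comm hψ _ _).1]
    rcases center_cases' hw hcc with h | h
    · exact hpq (mul_inv_eq_iff_eq_mul.mp (mul_inv_eq_one.mp (Subtype.ext h)))
    · have h1 : ((p : Subgroup.centralizer ({z} : Set G)) : G) * (w : G) *
          ((p : Subgroup.centralizer ({z} : Set G)) : G)⁻¹ * (w : G)⁻¹ = z := congrArg Subtype.val h
      have hm : (⟨_, hpC⟩ : ↥(Subgroup.centralizer (B : Set G))) * ⟨(w : G), hwC⟩ *
          (⟨_, hpC⟩ : ↥(Subgroup.centralizer (B : Set G)))⁻¹ * (⟨(w : G), hwC⟩)⁻¹ ∈ N :=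
        mul_mem (hN.conj_mem _ hwN _) (inv_mem hwN)
      refine hz (h1 ▸ mul_mem (mul_mem (mul_mem hpC hwC) (inv_mem hpC)) (inv_mem hwC)) ?_
      convert hm using 1
      exact Subtype.ext h1.symm

include hw hψ hD ρ hnd hb hi hB in
/-- A normal subgroup avoiding the central involution meets its centraliser in the group of the element. -/
theorem cent_le (hN : N.Normal) (hz : ∀ h, (⟨z, h⟩ : ↥(Subgroup.centralizer (B : Set G))) ∉ N)
    {x : ↥(Subgroup.centralizer (B : Set G))} (hx : x ∈ N) (hxz : (x : G) * z = z * (x : G)) : (x : G) ∈ B := by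
  set u : Subgroup.centralizer ({z} : Set G) := ⟨(x : G), Subgroup.mem_centralizer_singleton_iff.mpr hxz⟩
  have hub : u * b = b * u := Subtype.ext ((mem_centB hB).mp x.2)
  have hall : ∀ q ∈ fixQ Q b, u * q = q * u := fun q hq => by
    obtain ⟨hqQ, hqb⟩ := mem_fixQ.mp hq
    have hqC : (q : G) ∈ Subgroup.centralizer (B : Set G) := (mem_centB hB).mpr (congrArg Subtype.val hqb)
    set w := u * q * u⁻¹ * q⁻¹ with hw'
    have hwF : w ∈ fixQ Q b := by
      refine mul_mem (mem_fixQ.mpr ⟨(inferInstance : Q.Normal).conj_mem _ hqQ _, ?_⟩) (inv_mem hq)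
      exact ((show Commute u b from hub).mul_left (show Commute q b from hqb)).mul_left
        (show Commute u b from hub).inv_left |>.eq
    have hwC : (w : G) ∈ Subgroup.centralizer (B : Set G) := (mem_centB hB).mpr (congrArg Subtype.val (mem_fixQ.mp hwF).2)
    have hwN : (⟨(w : G), hwC⟩ : ↥(Subgroup.centralizer (B : Set G))) ∈ N := by
      have hm : x * (⟨(q : G), hqC⟩ * x⁻¹ * (⟨(q : G), hqC⟩)⁻¹) ∈ N := mul_mem hx (hN.conj_mem _ (inv_mem hx) _)
      convert hm using 1
      refine Subtype.ext ?_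
      simp [hw', u, mul_assoc]
    have := fix_trivial hw hψ hD hnd hb hi hB hN hz hwF hwC hwN
    rw [hw', mul_inv_eq_one, mul_inv_eq_iff_eq_mul] at this
    exact this
  set uu : Subgroup.centralizer ({b} : Set (Subgroup.centralizer ({z} : Set G))) :=
    ⟨u, Subgroup.mem_centralizer_singleton_iff.mpr hub⟩
  obtain ⟨i, q, hq, huq⟩ := phi_ker hw hψ hD ρ hb hi (u := uu) (phi_of_centralises hw hψ hD ρ hb hi hall)
  replace huq : u = q * b ^ i := huq
  obtain ⟨hqQ, hqb⟩ := mem_fixQ.mp hq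
  have hqc : ∀ p : Q, (p : Subgroup.centralizer ({z} : Set G)) * b = b * p → p * ⟨q, hqQ⟩ = ⟨q, hqQ⟩ * p := by
    intro p hp
    refine Subtype.ext ?_
    show (p : Subgroup.centralizer ({z} : Set G)) * q = q * p
    have h1 : Commute (p : Subgroup.centralizer ({z} : Set G)) u := (hall _ (mem_fixQ.mpr ⟨p.2, hp⟩)).symm
    have h2 : Commute (p : Subgroup.centralizer ({z} : Set G)) (b ^ i)⁻¹ :=
      ((show Commute (p : Subgroup.centralizer ({z} : Set G)) b from hp).zpow_right i).inv_right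
    rw [show q = u * (b ^ i)⁻¹ by rw [huq, mul_inv_cancel_right]]
    exact (h1.mul_right h2).eq
  have hbi : ((b ^ i : Subgroup.centralizer ({z} : Set G)) : G) ∈ B := by
    rw [hB]; exact ⟨i, by simp⟩
  rcases center_cases' hw (fix_center hw hψ hD hb hi hnd (q := ⟨q, hqQ⟩) hqb hqc) with h | h
  · rw [show q = 1 from h, one_mul] at huq
    exact (congrArg Subtype.val huq).symm ▸ hbi
  · exfalso
    have h1 : (x : G) = z * ((b ^ i : Subgroup.centralizer ({z} : Set G)) : G) := by
      rw [show q = zC z from h] at huq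
      exact congrArg Subtype.val huq
    obtain ⟨j, hj⟩ := hD.ord.1
    have hcz : Commute z ((b ^ i : Subgroup.centralizer ({z} : Set G)) : G) :=
      (Subgroup.mem_centralizer_singleton_iff.mp (b ^ i).2).symm
    have h2 : (x : G) ^ D.r = z := by
      rw [h1, hcz.mul_pow, zpow_B hb hB hbi, mul_one, hj, pow_succ, pow_mul,
        show z ^ 2 = 1 by rw [← hw.1, pow_orderOf_eq_one], one_pow, one_mul]
    refine hz (h2 ▸ Subgroup.pow_mem _ x.2 _) ?_
    convert pow_mem hx D.r using 1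
    exact Subtype.ext (by simp [h2])

include hw hψ hD ρ hnd hb hi hB in
/-- The dichotomy for normal subgroups. -/
theorem normal_dichotomy {x1 x2 : G} (h1 : ConjB z B x1) (h2 : ConjB z B x2) (h3 : ConjB z B (x1 * x2)) :
    ∀ M : Subgroup ↥(Subgroup.centralizer (B : Set G)), M.Normal →
      (∀ h, (⟨z, h⟩ : ↥(Subgroup.centralizer (B : Set G))) ∉ M) → ∀ x ∈ M, (x : G) ∈ B := by
  classical
  set C := Subgroup.centralizer (B : Set G)
  intro M hN hz
  haveI hBn : (B.subgroupOf C).Normal := ⟨fun y hy c => by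
    have e1 : (y : G) * c = c * y := Subgroup.mem_centralizer_iff.mp c.2 _ hy
    show ((c : G) * y * (c : G)⁻¹) ∈ B
    rw [← e1, mul_inv_cancel_right]
    exact hy⟩
  set η := QuotientGroup.mk' (B.subgroupOf C) with hη
  have hker : ∀ g : C, η g = 1 ↔ (g : G) ∈ B := fun g => by
    rw [hη, QuotientGroup.mk'_apply, QuotientGroup.eq_one_iff]; rfl
  set R := M.map η
  haveI hRn : R.Normal := Subgroup.Normal.map hN η (QuotientGroup.mk'_surjective _)
  have hzC : z ∈ C := (mem_centB hB).mpr (Subgroup.mem_centralizer_singleton_iff.mp b.2).symm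
  set zc : C := ⟨z, hzC⟩
  have hzz : z * z = 1 := by rw [← pow_two, ← hw.1, pow_orderOf_eq_one]
  have hfix : ∀ r ∈ R, r * η zc = η zc * r → r = 1 := by
    rintro _ ⟨x, hx, rfl⟩ hcomm
    rw [← map_mul, ← map_mul] at hcomm
    have hβ : ((zc * x)⁻¹ * (x * zc) : C) ∈ B.subgroupOf C := QuotientGroup.eq.mp hcomm.symm
    set β := ((z * (x : G))⁻¹ * ((x : G) * z)) with hβdef
    have hβB : β ∈ B := hβ
    have hβz : β * z = z * β :=
      (Subgroup.mem_centralizer_iff.mp hzC _ hβB)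
    have h4 : (x : G)⁻¹ * z * (x : G) * z = β := by
      rw [hβdef, mul_inv_rev, inv_eq_of_mul_eq_one_left hzz]; group
    have h5 : β * β = 1 := by
      have e1 : (x : G)⁻¹ * z * (x : G) = β * z := by
        rw [← h4, mul_assoc ((x : G)⁻¹ * z * x), hzz, mul_one]
      have e2 : ((x : G)⁻¹ * z * (x : G)) * ((x : G)⁻¹ * z * (x : G)) = 1 := by
        calc _ = (x : G)⁻¹ * (z * z) * (x : G) := by group
          _ = 1 := by rw [hzz]; group
      rw [e1] at e2
      calc β * β = β * β * (z * z) := by rw [hzz, mul_one]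
        _ = β * (β * z) * z := by group
        _ = β * (z * β) * z := by rw [hβz]
        _ = (β * z) * (β * z) := by group
        _ = 1 := e2
    have h6 := two_B hD hb hB hβB h5
    rw [hβdef, inv_mul_eq_one] at h6
    exact (hker x).mpr (cent_le hw hψ hD ρ hnd hb hi hB hN hz hx h6.symm)
  have hinv : ∀ y : G, ConjB z B y → ∀ hy : y ∈ C, ∀ r ∈ R, η ⟨y, hy⟩ * r * η ⟨y, hy⟩ = r⁻¹ := by
    rintro y ⟨c, hc, hcy⟩ hy r hr
    have he : η ⟨c, hc⟩ * η ⟨y, hy⟩ * (η ⟨c, hc⟩)⁻¹ = η zc := by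
      rw [← map_inv, ← map_mul, ← map_mul]; exact congrArg η (Subtype.ext hcy)
    have hsq : η ⟨y, hy⟩ * η ⟨y, hy⟩ = 1 := by
      rw [← map_mul, ← map_one η]
      refine congrArg η (Subtype.ext ?_)
      show y * y = 1
      rw [show y = c⁻¹ * z * c by rw [← hcy]; group]
      calc c⁻¹ * z * c * (c⁻¹ * z * c) = c⁻¹ * (z * z) * c := by group
        _ = 1 := by rw [hzz]; group
    refine Cfsg.Lib.Components.InvertedCores.inverted hsq ?_ ?_ hr
    · rw [Subgroup.normalizer_eq_top]; exact Subgroup.mem_top _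
    · refine (Subgroup.eq_bot_iff_forall _).mpr fun v hv => ?_
      obtain ⟨hvR, hvc⟩ := Subgroup.mem_inf.mp hv
      have h := hfix _ (hRn.conj_mem v hvR (η ⟨c, hc⟩)) (by
        have hvc' := Subgroup.mem_centralizer_singleton_iff.mp hvc
        rw [← he]
        calc η ⟨c, hc⟩ * v * (η ⟨c, hc⟩)⁻¹ * (η ⟨c, hc⟩ * η ⟨y, hy⟩ * (η ⟨c, hc⟩)⁻¹)
            = η ⟨c, hc⟩ * (v * η ⟨y, hy⟩) * (η ⟨c, hc⟩)⁻¹ := by group
          _ = η ⟨c, hc⟩ * (η ⟨y, hy⟩ * v) * (η ⟨c, hc⟩)⁻¹ := by rw [hvc']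
          _ = _ := by group)
      calc v = (η ⟨c, hc⟩)⁻¹ * (η ⟨c, hc⟩ * v * (η ⟨c, hc⟩)⁻¹) * η ⟨c, hc⟩ := by group
        _ = 1 := by rw [h]; group
  have hmem : ∀ y : G, ConjB z B y → y ∈ C := fun y ⟨c, hc, hcy⟩ => by
    rw [show y = c⁻¹ * z * c by rw [← hcy]; group]
    exact mul_mem (mul_mem (inv_mem hc) hzC) hc
  have hzcj : ConjB z B z := ⟨1, one_mem _, by group⟩
  intro x hx
  refine (hker x).mp (hfix _ ⟨x, hx, rfl⟩ ?_)
  set r := η x with hrdef
  have hr : r ∈ R := ⟨x, hx, rfl⟩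
  set t1 := η ⟨x1, hmem _ h1⟩ with ht1
  set t2 := η ⟨x2, hmem _ h2⟩ with ht2
  have e12 : η ⟨x1 * x2, hmem _ h3⟩ = t1 * t2 := by
    rw [ht1, ht2, ← map_mul]; rfl
  have i1 := hinv _ h1 (hmem _ h1)
  have i2 := hinv _ h2 (hmem _ h2) r hr
  have i3 := hinv _ h3 (hmem _ h3) r hr
  rw [e12] at i3
  have i1' := i1 _ (inv_mem hr)
  -- the product of two inverting elements centralises
  have hsq : r * r = 1 := by
    have hsq1 : ∀ y : G, ConjB z B y → ∀ hy : y ∈ C, η ⟨y, hy⟩ * η ⟨y, hy⟩ = 1 := fun y ⟨c, hc, hcy⟩ hy => by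
      rw [← map_mul, ← map_one η]
      refine congrArg η (Subtype.ext ?_)
      show y * y = 1
      rw [show y = c⁻¹ * z * c by rw [← hcy]; group]
      calc c⁻¹ * z * c * (c⁻¹ * z * c) = c⁻¹ * (z * z) * c := by group
        _ = 1 := by rw [hzz]; group
    have s1 : t1 * t1 = 1 := hsq1 _ h1 _
    have s2 : t2 * t2 = 1 := hsq1 _ h2 _
    have s3 : (t1 * t2) * (t1 * t2) = 1 := e12 ▸ hsq1 _ h3 _
    have hc12 : t1 * t2 = t2 * t1 := by
      calc t1 * t2 = (t1 * t2)⁻¹ := (inv_eq_of_mul_eq_one_left s3).symm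
        _ = t2⁻¹ * t1⁻¹ := mul_inv_rev _ _
        _ = t2 * t1 := by rw [inv_eq_of_mul_eq_one_left s1, inv_eq_of_mul_eq_one_left s2]
    rw [inv_inv] at i1'
    have h7 : t1 * t2 * r * (t1 * t2) = r := by
      calc t1 * t2 * r * (t1 * t2) = t1 * t2 * r * (t2 * t1) := by rw [← hc12]
        _ = t1 * (t2 * r * t2) * t1 := by group
        _ = r := by rw [i2, i1']
    rw [i3] at h7
    rw [← inv_eq_iff_mul_eq_one]
    exact h7
  have i0 := hinv _ hzcj hzC r hr
  rw [inv_eq_of_mul_eq_one_left hsq] at i0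
  calc r * η zc = (η zc * r * η zc) * η zc := by rw [i0]
    _ = η zc * r * (η zc * η zc) := by group
    _ = η zc * r := by
      rw [show η zc * η zc = 1 by rw [← map_mul, show zc * zc = 1 from Subtype.ext hzz, map_one], mul_one]

include hw hψ hD ρ hnd hb hi hB in
/-- The layer contains the central involution. -/
theorem z_mem_layer {x1 x2 y1 y2 : G} (h1 : ConjB z B x1) (h2 : ConjB z B x2) (h3 : ConjB z B (x1 * x2))
    (g1 : ConjB z B y1) (g2 : ConjB z B y2) (hne : y1 * y2 ≠ y2 * y1) :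
    z ∈ (Cfsg.layer ↥(Subgroup.centralizer (B : Set G))).map (Subgroup.centralizer (B : Set G)).subtype := by
  classical
  haveI : Fact (Nat.Prime 2) := ⟨Nat.prime_two⟩
  set C := Subgroup.centralizer (B : Set G) with hC
  have hzC : z ∈ C := (mem_centB hB).mpr (Subgroup.mem_centralizer_singleton_iff.mp b.2).symm
  set zc : C := ⟨z, hzC⟩
  have dich : ∀ (N : Subgroup C), N.Normal → zc ∉ N → ∀ x ∈ N, (x : G) ∈ B := fun N hN hz =>
    normal_dichotomy hw hψ hD ρ hnd hb hi hB h1 h2 h3 N hN fun _ => hz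
  have hconj : ∀ (N : Subgroup C), N.Normal → zc ∈ N → ∀ y, ConjB z B y → ∃ hy : y ∈ C, (⟨y, hy⟩ : C) ∈ N := by
    rintro N hN hz y ⟨c, hc, hcy⟩
    have hm := hN.conj_mem _ hz (⟨c, hc⟩⁻¹ : C)
    have he : y = c⁻¹ * z * c⁻¹⁻¹ := by rw [← hcy]; group
    exact ⟨he ▸ ((⟨c, hc⟩⁻¹ : C) * zc * (⟨c, hc⟩⁻¹ : C)⁻¹).2, by convert hm using 1; exact Subtype.ext he⟩
  have hz1 : zc ≠ 1 := fun h => by
    have h1 : z = 1 := congrArg Subtype.val h
    have := hw.1
    rw [h1, orderOf_one] at this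
    omega
  have hzz : zc * zc = 1 := Subtype.ext (by
    show z * z = 1
    rw [← pow_two, ← hw.1, pow_orderOf_eq_one])
  have hO : zc ∉ Cfsg.pCore 2 C := by
    intro hz
    set O := Cfsg.pCore 2 C
    have hOp : IsPGroup 2 O := Cfsg.Lib.Components.isPGroup_pCore 2
    haveI : Nontrivial O := ⟨⟨⟨zc, hz⟩, 1, fun h => hz1 (congrArg Subtype.val h)⟩⟩
    set Z := (Subgroup.center O).map O.subtype with hZ
    haveI hZn : Z.Normal := ConjAct.normal_of_characteristic_of_normal
    by_cases hzZ : zc ∈ Z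
    · obtain ⟨hy1, m1⟩ := hconj Z hZn hzZ y1 g1
      obtain ⟨hy2, m2⟩ := hconj Z hZn hzZ y2 g2
      obtain ⟨p1, hp1, e1⟩ := m1
      obtain ⟨p2, hp2, e2⟩ := m2
      have h := Subgroup.mem_center_iff.mp hp2 p1
      have := congrArg (fun t : O => ((t : C) : G)) h
      simp only [Subgroup.coe_mul] at this
      rw [show ((p1 : C) : G) = y1 from congrArg Subtype.val e1,
        show ((p2 : C) : G) = y2 from congrArg Subtype.val e2] at this
      exact hne this
    · haveI := hOp.center_nontrivial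
      obtain ⟨⟨p, hp⟩, hp1⟩ := exists_ne (1 : Subgroup.center O)
      obtain ⟨n, hn⟩ := hOp p
      have hpB : ((p : C) : G) ∈ B := dich Z hZn hzZ _ ⟨p, hp, rfl⟩
      have hn' : ((p : C) : G) ^ 2 ^ n = 1 := congrArg (fun t : O => ((t : C) : G)) hn
      have := Nat.eq_one_of_dvd_coprimes ((Nat.coprime_two_left.mpr hD.ord.1).pow_left n)
        (orderOf_dvd_of_pow_eq_one hn') (orderOf_dvd_of_pow_eq_one (zpow_B hb hB hpB))
      exact hp1 (Subtype.ext (Subtype.ext (Subtype.ext (orderOf_eq_one_iff.mp this))))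
  have hF : zc ∉ Cfsg.fittingSubgroup C := by
    intro hz
    set F := Cfsg.fittingSubgroup C
    haveI hFn : Group.IsNilpotent F := Cfsg.Lib.Components.isNilpotent_fitting
    have hp : IsPGroup 2 (Subgroup.zpowers (⟨zc, hz⟩ : F)) := IsPGroup.of_card (n := 1) (by
      rw [Nat.card_zpowers, Subgroup.orderOf_mk, pow_one]
      exact orderOf_eq_prime (by rw [pow_two]; exact hzz) hz1)
    obtain ⟨S, hS⟩ := hp.exists_le_sylow
    haveI : (S : Subgroup F).Normal := by
      have h := ((Group.isNilpotent_of_finite_tfae (G := F)).out 0 3).mp hFn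
      exact h 2 inferInstance S
    haveI : (S : Subgroup F).Characteristic := Sylow.characteristic_of_normal S inferInstance
    haveI : ((S : Subgroup F).map F.subtype).Normal := ConjAct.normal_of_characteristic_of_normal
    exact hO (Cfsg.Lib.Components.le_pCore (S.isPGroup'.map F.subtype)
      ⟨⟨zc, hz⟩, hS (Subgroup.mem_zpowers _), rfl⟩)
  by_cases hE : zc ∈ Cfsg.layer C
  · exact ⟨zc, hE, rfl⟩
  exfalso
  have hbot : Cfsg.layer C = ⊥ := by
    rw [← le_bot_iff]
    refine sSup_le fun L hL => absurd ?_ (Cfsg.Lib.Components.comp_not_isMulCommutative hL)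
    refine ⟨⟨fun p q => Subtype.ext (Subtype.ext ?_)⟩⟩
    have hq : ((q : C) : G) ∈ B := dich _ inferInstance hE _ (Cfsg.Lib.Components.comp_le_layer hL q.2)
    exact (Subgroup.mem_centralizer_iff.mp (p : C).2 _ hq).symm
  refine hF (Cfsg.Lib.Components.centralizer_fitting_le_iff.mpr hbot ?_)
  refine Subgroup.mem_centralizer_iff.mpr fun f hf => Subtype.ext ?_
  exact Subgroup.mem_centralizer_iff.mp hzC _ (dich _ inferInstance hF f hf)

include hw hψ hD ρ hnd hb hi hB in
/-- The layer contains all the conjugates. -/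
theorem conj_mem_layer {x1 x2 y1 y2 y : G} (h1 : ConjB z B x1) (h2 : ConjB z B x2) (h3 : ConjB z B (x1 * x2))
    (g1 : ConjB z B y1) (g2 : ConjB z B y2) (hne : y1 * y2 ≠ y2 * y1) (hy : ConjB z B y) :
    y ∈ (Cfsg.layer ↥(Subgroup.centralizer (B : Set G))).map (Subgroup.centralizer (B : Set G)).subtype := by
  obtain ⟨⟨w, hwC⟩, hm, hw'⟩ := z_mem_layer hw hψ hD ρ hnd hb hi hB h1 h2 h3 g1 g2 hne
  obtain ⟨c, hc, hcy⟩ := hy
  obtain rfl : w = z := hw'
  refine ⟨_, (inferInstance : (Cfsg.layer ↥(Subgroup.centralizer (B : Set G))).Normal).conj_mem _ hm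
    ((⟨c, hc⟩ : ↥(Subgroup.centralizer (B : Set G)))⁻¹), ?_⟩
  show c⁻¹ * w * c⁻¹⁻¹ = y
  nth_rewrite 1 [← hcy]
  group

end Cfsg.Lib.Leech.MonsterSection
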