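import Cfsg.Agent.Leech.MonsterSection.Conj
import Cfsg.Agent.Leech.Mult.Elem
import Cfsg.Agent.Leech.Frames
import Cfsg.Agent.Leech.MonsterFrame

/-!
# The classes modulo two fixed by a permutation of odd order

The fixed sublattice has a basis of short vectors and dual lattice vectors; a fixed class is read as a binary code.
-/

set_option autoImplicit false
set_option linter.style.haveILetI false

namespace Cfsg.Lib.Leech.MonsterSection

open Cfsg Cfsg.Lib.Golay Cfsg.Lib.Leech Stab
open Cfsg.Lib.PermCert (PP ap valid Level)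
open Finset

/-- The data of a section: the permutation, the basis and duals, and the certificates for the centraliser. -/
structure Data where
  r : ℕ
  m : ℕ
  n : ℕ
  sig : PP
  hd : List ℕ
  bs : List ℕ
  ws : List ℕ
  reps : List ℕ
  c0 : ℕ
  orb : List ℕ
  trans : List (List Atom)
  bad : List (ℕ × List Atom × PP × ℕ × List Lev)
  levs : List Lev
  ca : List PP
  cp : List PP
  fc : List ℕ
  objs : List ℕ
  chain : List Level

variable (D : Data)

/-- The word of the permutation. -/
def Data.xw : List Atom := [.perm D.sig]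

/-- The automorphism of the permutation. -/
noncomputable def Data.x : Co0 := Mult.el D.xw

/-- The vector of a key. -/
noncomputable def kv (K : ℕ) : leechLattice :=
  haveI := Classical.dec (dec K ∈ leechLattice)
  if h : dec K ∈ leechLattice then ⟨dec K, h⟩ else 0

theorem kv_coe' {K : ℕ} (h : dec K ∈ leechLattice) : ((kv K : leechLattice) : GolayPt → ℤ) = dec K := by
  simp [kv, h]

theorem kv_coe {K : ℕ} (h : inL (dec K) = true) : ((kv K : leechLattice) : GolayPt → ℤ) = dec K :=
  kv_coe' (mem_of_inL h)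

/-- The binary code of a vector. -/
def Data.codeV (v : GolayPt → ℤ) : ℕ :=
  Nat.ofBits fun j : Fin D.m => decide (dotInt v (dec (D.ws.getD j 0)) / 8 % 2 = 1)

/-- The binary code of a key. -/
def Data.codeK (K : ℕ) : ℕ :=
  Nat.ofBits fun j : Fin D.m => decide (dotK K (D.ws.getD j 0) / 8 % 2 = 1)

theorem codeK_eq (K : ℕ) : D.codeK K = D.codeV (dec K) := by
  simp only [Data.codeK, Data.codeV, dotK_eq]

theorem codeV_lt (v : GolayPt → ℤ) : D.codeV v < 2 ^ D.m := Nat.ofBits_lt_two_pow _

/-- The sum of the basis vectors at the bits of a code. -/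
noncomputable def Data.vecN (c : ℕ) : ℕ → leechLattice
  | 0 => 0
  | j + 1 => (if c.testBit j then kv (D.bs.getD j 0) else 0) + Data.vecN c j

/-- The vector of a code. -/
noncomputable def Data.vec (c : ℕ) : leechLattice := D.vecN c D.m

/-- The coordinates of the vector of a code. -/
def Data.vecZ (c : ℕ) : ℕ → GolayPt → ℤ
  | 0 => fun _ => 0
  | j + 1 => fun p => (if c.testBit j then dec (D.bs.getD j 0) p else 0) + Data.vecZ c j p

/-- The linear extension of images of the basis. -/
def linK (imgs : List ℕ) (c : ℕ) : ℕ → ℕ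
  | 0 => 0
  | j + 1 => if c.testBit j then imgs.getD j 0 ^^^ linK imgs c j else linK imgs c j

/-- Half of a vector lies in the lattice. -/
def halfOK (u : GolayPt → ℤ) : Bool := decide (∀ p, u p % 2 = 0) && inL fun p => u p / 2

theorem half_of {u : GolayPt → ℤ} (h : halfOK u = true) : ∃ w : leechLattice, u = (2 : ℤ) • (w : GolayPt → ℤ) := by
  simp only [halfOK, Bool.and_eq_true, decide_eq_true_eq] at h
  refine ⟨⟨fun p => u p / 2, mem_of_inL h.2⟩, funext fun p => ?_⟩
  have := h.1 p
  simp only [Pi.smul_apply, smul_eq_mul]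
  omega

/-- The number contributed to a coordinate by a position. -/
def Data.term (q p : ℕ) : ℤ :=
  ∑ j ∈ Finset.range D.m, co (D.ws.getD j 0) q * co (D.bs.getD j 0) p

/-- The checks on the lattice data. -/
structure ClsOK : Prop where
  perm : preserves D.sig = true
  bs_ok : ∀ j < D.m, (inL (dec (D.bs.getD j 0)) && decide (Cfsg.sqNorm (dec (D.bs.getD j 0)) ≤ 64)) = true
  bs_fix : ∀ j < D.m, ∀ i < 24, cv (D.bs.getD j 0) (ap D.sig.1 i) = cv (D.bs.getD j 0) i
  ws_ok : ∀ j < D.m, inL (dec (D.ws.getD j 0)) = true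
  unit : ∀ j < D.m, D.codeK (D.bs.getD j 0) = 2 ^ j
  lin_unit : ∀ c < 2 ^ D.m, linK ((List.range D.m).map (2 ^ ·)) c D.m = c
  head : ∀ q < 24, D.hd.getD q 24 ∈ iter D.sig.1 q D.r ∧ D.hd.getD q 24 < 24
  ident : ∀ p < 24, ∀ h < 24, ∑ q ∈ (Finset.range 24).filter (fun q => D.hd.getD q 24 = h), D.term q p =
    if D.hd.getD p 24 = h then 8 else 0
  reps_ok : ∀ c < 2 ^ D.m, dec (D.reps.getD c 0) ∈ leechLattice ∧ Cfsg.sqNorm (dec (D.reps.getD c 0)) ≤ 64 ∧
    ∃ w : leechLattice, (fun p => dec (D.reps.getD c 0) p - D.vecZ c D.m p) = (2 : ℤ) • (w : GolayPt → ℤ)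
  ord : Odd D.r ∧ 1 < D.r ∧ ∀ i < 24, (iter D.sig.1 i (D.r + 1)).getLast? = some i

variable {D}

/-- The coordinate checks imply the condition on the representatives. -/
theorem reps_of_checks (h : ∀ c < 2 ^ D.m, inL (dec (D.reps.getD c 0)) = true ∧
    Cfsg.sqNorm (dec (D.reps.getD c 0)) ≤ 64 ∧
    halfOK (fun p => dec (D.reps.getD c 0) p - D.vecZ c D.m p) = true) :
    ∀ c < 2 ^ D.m, dec (D.reps.getD c 0) ∈ leechLattice ∧ Cfsg.sqNorm (dec (D.reps.getD c 0)) ≤ 64 ∧
      ∃ w : leechLattice, (fun p => dec (D.reps.getD c 0) p - D.vecZ c D.m p) = (2 : ℤ) • (w : GolayPt → ℤ) :=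
  fun c hc => ⟨mem_of_inL (h c hc).1, (h c hc).2.1, half_of (h c hc).2.2⟩

/-- Equality of classes. -/
def SameCls (v w : leechLattice) : Prop := ∃ u : leechLattice, v = w + (2 : ℤ) • u

theorem SameCls.refl (v : leechLattice) : SameCls v v := ⟨0, by simp⟩

theorem SameCls.symm {v w : leechLattice} (h : SameCls v w) : SameCls w v := by
  obtain ⟨u, rfl⟩ := h
  exact ⟨-u, by simp⟩

theorem SameCls.trans {u v w : leechLattice} (h : SameCls u v) (h' : SameCls v w) : SameCls u w := by
  obtain ⟨a, rfl⟩ := h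
  obtain ⟨b, rfl⟩ := h'
  exact ⟨a + b, by rw [smul_add]; abel⟩

theorem SameCls.smul (g : Co0) {v w : leechLattice} (h : SameCls v w) : SameCls (g • v) (g • w) := by
  obtain ⟨u, rfl⟩ := h
  exact ⟨g • u, by rw [smul_add', smul_zsmul']⟩

theorem SameCls.cong {v w : leechLattice} (h : SameCls v w) :
    Cong leechLattice (v : GolayPt → ℤ) (w : GolayPt → ℤ) := by
  obtain ⟨u, rfl⟩ := h
  exact ⟨u, u.2, by simp [two_smul]⟩

theorem codeV_add (hD : ClsOK D) (v w : leechLattice) :
    D.codeV ((v + w : leechLattice) : GolayPt → ℤ) = D.codeV v ^^^ D.codeV w := by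
  apply Nat.eq_of_testBit_eq
  intro j
  rw [Nat.testBit_xor]
  by_cases hj : j < D.m
  · simp only [Data.codeV, Nat.testBit_ofBits_lt _ _ hj, AddSubgroup.coe_add, dot_add_left]
    obtain ⟨a, ha⟩ := eight_dvd_dot v.2 (mem_of_inL (hD.ws_ok j hj))
    obtain ⟨b, hb⟩ := eight_dvd_dot w.2 (mem_of_inL (hD.ws_ok j hj))
    rw [ha, hb, ← mul_add, Int.mul_ediv_cancel_left _ (by norm_num), Int.mul_ediv_cancel_left _ (by norm_num),
      Int.mul_ediv_cancel_left _ (by norm_num)]
    rcases Int.emod_two_eq_zero_or_one a with h1 | h1 <;> rcases Int.emod_two_eq_zero_or_one b with h2 | h2 <;>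
      simp [Int.add_emod, h1, h2]
  · simp only [Data.codeV, Nat.testBit_ofBits_ge _ _ (not_lt.mp hj), Bool.bne_false]

theorem codeV_zero (D : Data) : D.codeV ((0 : leechLattice) : GolayPt → ℤ) = 0 := by
  apply Nat.eq_of_testBit_eq
  intro j
  rw [Nat.zero_testBit]
  by_cases hj : j < D.m
  · simp [Data.codeV, Nat.testBit_ofBits_lt _ _ hj, dotInt]
  · simp [Data.codeV, Nat.testBit_ofBits_ge _ _ (not_lt.mp hj)]

theorem codeV_congr (hD : ClsOK D) {v w : leechLattice} (h : SameCls v w) :
    D.codeV (v : GolayPt → ℤ) = D.codeV (w : GolayPt → ℤ) := by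
  obtain ⟨u, rfl⟩ := h
  rw [two_smul, codeV_add hD, codeV_add hD, Nat.xor_self, Nat.xor_zero]

theorem vecN_coe (hD : ClsOK D) (c : ℕ) : ∀ j ≤ D.m, ((D.vecN c j : leechLattice) : GolayPt → ℤ) = D.vecZ c j
  | 0, _ => rfl
  | j + 1, hj => by
    have h := hD.bs_ok j (by omega)
    simp only [Bool.and_eq_true] at h
    funext p
    simp only [Data.vecN, Data.vecZ, AddSubgroup.coe_add, Pi.add_apply, vecN_coe hD c j (by omega)]
    split
    · rw [kv_coe h.1]
    · rfl

theorem code_smul_vecN (hD : ClsOK D) (g : Co0) {imgs : List ℕ}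
    (hi : ∀ j < D.m, D.codeV ((g • kv (D.bs.getD j 0) : leechLattice) : GolayPt → ℤ) = imgs.getD j 0) (c : ℕ) :
    ∀ j ≤ D.m, D.codeV ((g • D.vecN c j : leechLattice) : GolayPt → ℤ) = linK imgs c j
  | 0, _ => by
    rw [Data.vecN, show g • (0 : leechLattice) = 0 from (toHom g).map_zero, codeV_zero]
    rfl
  | j + 1, hj => by
    rw [Data.vecN, smul_add', codeV_add hD, code_smul_vecN hD g hi c j (by omega), linK]
    by_cases h : c.testBit j
    · rw [if_pos h, if_pos h, hi j (by omega)]
    · rw [if_neg h, if_neg h, show g • (0 : leechLattice) = 0 from (toHom g).map_zero, codeV_zero, Nat.zero_xor]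

theorem code_vec (hD : ClsOK D) {c : ℕ} (hc : c < 2 ^ D.m) : D.codeV (D.vec c : GolayPt → ℤ) = c := by
  have h := code_smul_vecN hD 1 (imgs := (List.range D.m).map (2 ^ ·)) (fun j hj => ?_) c D.m le_rfl
  · rwa [one_smul, hD.lin_unit c hc] at h
  · have hb := hD.bs_ok j hj
    simp only [Bool.and_eq_true] at hb
    rw [one_smul, kv_coe hb.1, ← codeK_eq, hD.unit j hj]
    simp [hj]

theorem x_apply (hD : ClsOK D) (v : leechLattice) {i : ℕ} (hi : i < 24) :
    ((D.x • v : leechLattice) : GolayPt → ℤ) (ptAt (ap D.sig.1 i)) = (v : GolayPt → ℤ) (ptAt i) := by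
  have hv : valid 24 D.sig = true := by
    have := hD.perm
    simp only [preserves, Bool.and_eq_true] at this
    exact this.1
  simp only [Data.x, Data.xw, Mult.el, List.map_cons, List.map_nil, List.prod_cons, List.prod_nil, mul_one,
    atomHom, dif_pos hD.perm, mono_apply, signedPerm, notMem_empty, if_false]
  rw [← toP_ptAt hv hi, Equiv.symm_apply_apply]

theorem iter_fixed (hD : ClsOK D) {v : leechLattice} (hv : D.x • v = v) : ∀ (k i : ℕ), i < 24 →
    ∀ q ∈ iter D.sig.1 i k, (v : GolayPt → ℤ) (ptAt q) = (v : GolayPt → ℤ) (ptAt i)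
  | 0, _, _ => by simp [iter]
  | k + 1, i, hi => by
    intro q hq
    have hval : valid 24 D.sig = true := by
      have := hD.perm
      simp only [preserves, Bool.and_eq_true] at this
      exact this.1
    simp only [iter, List.mem_cons] at hq
    rcases hq with rfl | hq
    · rfl
    · rw [iter_fixed hD hv k _ (PermCert.valid_lt hval hi) q hq]
      have := x_apply hD v hi
      rwa [hv] at this

/-- A fixed vector is its code, modulo two. -/
theorem fixed_same (hD : ClsOK D) {v : leechLattice} (hv : D.x • v = v) :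
    SameCls v (D.vec (D.codeV (v : GolayPt → ℤ))) := by
  classical
  set f : ℕ → ℤ := fun q => (v : GolayPt → ℤ) (ptAt q) with hf
  set a : ℕ → ℤ := fun j => dotInt (v : GolayPt → ℤ) (dec (D.ws.getD j 0)) / 8 with ha
  have hdot : ∀ j < D.m, dotInt (v : GolayPt → ℤ) (dec (D.ws.getD j 0)) =
      ∑ q ∈ Finset.range 24, f q * co (D.ws.getD j 0) q := by
    intro j _
    rw [dotInt, ← Equiv.sum_comp ptEquiv.symm, ← Fin.sum_univ_eq_sum_range (fun q => f q * co (D.ws.getD j 0) q) 24]
    refine Finset.sum_congr rfl fun i _ => ?_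
    have e : ptEquiv.symm i = ptAt i := by
      apply ptEquiv.injective
      rw [Equiv.apply_symm_apply]
      exact Fin.ext (pidx_ptAt i).symm
    simp only [e, dec, hf, show pidx (ptAt (i : ℕ)) = i from pidx_ptAt i]
  have key : ∀ p : GolayPt, (v : GolayPt → ℤ) p = ∑ j ∈ Finset.range D.m, a j * dec (D.bs.getD j 0) p := by
    intro p
    set i := pidx p with hi
    have hi' : i < 24 := pidx_lt p
    have hp : ptAt i = p := ptEquiv.symm_apply_apply p
    have e1 : 8 * ∑ j ∈ Finset.range D.m, a j * dec (D.bs.getD j 0) p =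
        ∑ q ∈ Finset.range 24, f q * D.term q i := by
      rw [Finset.mul_sum]
      simp only [Data.term, Finset.mul_sum]
      rw [Finset.sum_comm]
      refine Finset.sum_congr rfl fun j hj => ?_
      have hj' := Finset.mem_range.mp hj
      have h8 := eight_dvd_dot v.2 (mem_of_inL (hD.ws_ok j hj'))
      rw [show dec (D.bs.getD j 0) p = co (D.bs.getD j 0) i from rfl, ← mul_assoc, ha, Int.mul_ediv_cancel' h8,
        hdot j hj', Finset.sum_mul]
      exact Finset.sum_congr rfl fun q _ => by ring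
    have e2 : ∑ q ∈ Finset.range 24, f q * D.term q i = 8 * f i := by
      have hfix : ∀ q < 24, f (D.hd.getD q 24) = f q := fun q hq => iter_fixed hD hv D.r q hq _ (hD.head q hq).1
      rw [Finset.sum_congr rfl fun q hq => by rw [← hfix q (Finset.mem_range.mp hq)],
        ← Finset.sum_fiberwise_of_maps_to (g := fun q => D.hd.getD q 24) (t := Finset.range 24)
          fun q hq => Finset.mem_range.mpr (hD.head q (Finset.mem_range.mp hq)).2]
      rw [Finset.sum_congr rfl fun h hh => show
        (∑ q ∈ (Finset.range 24).filter (fun q => D.hd.getD q 24 = h), f (D.hd.getD q 24) * D.term q i) =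
          f h * (if D.hd.getD i 24 = h then 8 else 0) from ?_]
      · simp only [mul_ite, mul_zero, Finset.sum_ite_eq, Finset.mem_range.mpr (hD.head i hi').2, if_true,
          hfix i hi']
        ring
      · rw [← hD.ident i hi' h (Finset.mem_range.mp hh), Finset.mul_sum]
        exact Finset.sum_congr rfl fun q hq => by rw [(Finset.mem_filter.mp hq).2]
    have : (v : GolayPt → ℤ) p = f i := by rw [hf]; simp only [hp]
    omega
  -- remove the even parts of the coefficients
  set c := D.codeV (v : GolayPt → ℤ) with hc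
  have main : ∀ k ≤ D.m, ∃ u : leechLattice, ∀ p,
      ∑ j ∈ Finset.range k, a j * dec (D.bs.getD j 0) p =
        (D.vecN c k : GolayPt → ℤ) p + 2 * (u : GolayPt → ℤ) p := by
    intro k hk
    induction k with
    | zero => exact ⟨0, fun p => by simp [Data.vecN]⟩
    | succ k ih =>
      obtain ⟨u, hu⟩ := ih (by omega)
      have hb := hD.bs_ok k (by omega)
      simp only [Bool.and_eq_true] at hb
      have hbit : c.testBit k = decide (a k % 2 = 1) := by
        rw [hc, Data.codeV, Nat.testBit_ofBits_lt _ _ (show k < D.m by omega)]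
      refine ⟨(a k / 2) • kv (D.bs.getD k 0) + u, fun p => ?_⟩
      rw [Finset.sum_range_succ, hu p, Data.vecN, hbit]
      simp only [AddSubgroup.coe_add, AddSubgroup.coe_zsmul, Pi.add_apply, Pi.smul_apply, smul_eq_mul,
        kv_coe hb.1, decide_eq_true_eq]
      split_ifs with h <;> simp only [kv_coe hb.1, ZeroMemClass.coe_zero, Pi.zero_apply]
      · rw [show a k = 1 + 2 * (a k / 2) by omega]
        have : (1 + 2 * (a k / 2)) / 2 = a k / 2 := by omega
        rw [this]; ring
      · rw [show a k = 2 * (a k / 2) by omega]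
        have : 2 * (a k / 2) / 2 = a k / 2 := by omega
        rw [this]; ring
  obtain ⟨u, hu⟩ := main D.m le_rfl
  refine ⟨u, Subtype.ext (funext fun p => ?_)⟩
  simp only [AddSubgroup.coe_add, AddSubgroup.coe_zsmul, Pi.add_apply, Pi.smul_apply, smul_eq_mul]
  rw [key p, hu p]
  rfl

theorem x_pow_r (hD : ClsOK D) : D.x ^ D.r = 1 := by
  have hval : valid 24 D.sig = true := by
    have := hD.perm
    simp only [preserves, Bool.and_eq_true] at this
    exact this.1
  have key : ∀ (k i : ℕ), i < 24 → ∀ v : leechLattice,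
      ∀ l, (iter D.sig.1 i (k + 1)).getLast? = some l →
      ((D.x ^ k • v : leechLattice) : GolayPt → ℤ) (ptAt l) = (v : GolayPt → ℤ) (ptAt i) := by
    intro k
    induction k with
    | zero =>
      intro i _ v l hl
      simp only [iter, List.getLast?_singleton, Option.some.injEq] at hl
      simp [← hl]
    | succ k ih =>
      intro i hi v l hl
      simp only [iter, List.getLast?_cons_cons] at hl
      rw [pow_succ, mul_smul, ih _ (PermCert.valid_lt hval hi) (D.x • v) l (by simpa [iter] using hl),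
        x_apply hD v hi]
  refine co0_ext fun v => Subtype.ext (funext fun p => ?_)
  have h := key D.r (pidx p) (pidx_lt p) v _ (hD.ord.2.2 _ (pidx_lt p))
  rwa [show ptAt (pidx p) = p from ptEquiv.symm_apply_apply p, ← one_smul Co0 v] at h

/-- A fixed class holds a fixed vector. -/
theorem exists_fixed (hD : ClsOK D) {v : leechLattice} (hv : SameCls (D.x • v) v) :
    ∃ w : leechLattice, D.x • w = w ∧ SameCls w v := by
  have hp : ∀ i : ℕ, SameCls (D.x ^ i • v) v := by
    intro i
    induction i with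
    | zero => simpa using SameCls.refl v
    | succ i ih => rw [pow_succ', mul_smul]; exact (ih.smul D.x).trans hv
  refine ⟨∑ i ∈ Finset.range D.r, D.x ^ i • v, ?_, ?_⟩
  · rw [smul_sum']
    simp only [← mul_smul, ← pow_succ']
    have h1 := Finset.sum_range_succ (fun i => D.x ^ i • v) D.r
    have h2 := Finset.sum_range_succ' (fun i => D.x ^ i • v) D.r
    rw [h1, x_pow_r hD, pow_zero] at h2
    exact (add_right_cancel h2).symm
  · have hs : ∀ k : ℕ, SameCls (∑ i ∈ Finset.range k, D.x ^ i • v) (k • v) := by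
      intro k
      induction k with
      | zero => simpa using SameCls.refl (0 : leechLattice)
      | succ k ih =>
        obtain ⟨a, ha⟩ := ih
        obtain ⟨b, hb⟩ := hp k
        exact ⟨a + b, by rw [Finset.sum_range_succ, ha, hb, succ_nsmul, smul_add]; abel⟩
    refine (hs D.r).trans ?_
    obtain ⟨j, hj⟩ := hD.ord.1
    exact ⟨j • v, by rw [hj, succ_nsmul, mul_nsmul, two_nsmul, two_smul, nsmul_add]; abel⟩

theorem vecN_fixed (hD : ClsOK D) (c : ℕ) : ∀ j ≤ D.m, D.x • D.vecN c j = D.vecN c j
  | 0, _ => (toHom D.x).map_zero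
  | j + 1, hj => by
    rw [Data.vecN, smul_add', vecN_fixed hD c j (by omega)]
    congr 1
    split
    · have hb := hD.bs_ok j (by omega)
      simp only [Bool.and_eq_true] at hb
      have hval : valid 24 D.sig = true := by
        have := hD.perm
        simp only [preserves, Bool.and_eq_true] at this
        exact this.1
      refine Subtype.ext (funext fun p => ?_)
      obtain ⟨q, rfl⟩ : ∃ q, toP D.sig q = p := ⟨(toP D.sig).symm p, Equiv.apply_symm_apply _ _⟩
      have hq : ptAt (pidx q) = q := ptEquiv.symm_apply_apply q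
      conv_lhs => rw [← hq, toP_ptAt hval (pidx_lt q), x_apply hD _ (pidx_lt q), hq, kv_coe hb.1]
      rw [kv_coe hb.1]
      show co _ (pidx q) = co _ (pidx (toP D.sig q))
      rw [pidx_toP hval, co, co, hD.bs_fix j (by omega) _ (pidx_lt q)]
    · exact (toHom D.x).map_zero

theorem vec_fixed (hD : ClsOK D) (c : ℕ) : D.x • D.vec c = D.vec c := vecN_fixed hD c D.m le_rfl

/-- A fixed class is that of its code. -/
theorem class_code (hD : ClsOK D) {v : leechLattice} (hv : SameCls (D.x • v) v) :
    SameCls v (D.vec (D.codeV (v : GolayPt → ℤ))) := by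
  obtain ⟨w, hw, hwv⟩ := exists_fixed hD hv
  rw [← codeV_congr hD hwv]
  exact hwv.symm.trans (fixed_same hD hw)

/-- The short representative of a code. -/
theorem rep_spec (hD : ClsOK D) {c : ℕ} (hc : c < 2 ^ D.m) :
    SameCls (kv (D.reps.getD c 0)) (D.vec c) ∧
      Cfsg.sqNorm ((kv (D.reps.getD c 0) : leechLattice) : GolayPt → ℤ) ≤ 64 ∧
      ((kv (D.reps.getD c 0) : leechLattice) : GolayPt → ℤ) = dec (D.reps.getD c 0) := by
  obtain ⟨h1, h2, h3⟩ := hD.reps_ok c hc
  refine ⟨?_, by rw [kv_coe' h1]; exact h2, kv_coe' h1⟩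
  obtain ⟨w, hw⟩ := h3
  refine ⟨w, Subtype.ext (funext fun p => ?_)⟩
  have := congrFun hw p
  simp only [Pi.smul_apply, smul_eq_mul] at this
  simp only [AddSubgroup.coe_add, AddSubgroup.coe_zsmul, Pi.add_apply, Pi.smul_apply, smul_eq_mul, kv_coe' h1,
    Data.vec, vecN_coe hD c D.m le_rfl]
  omega

/-- The squared length of a short vector in a fixed class. -/
theorem norm_code (hD : ClsOK D) {v : leechLattice} (hv : SameCls (D.x • v) v)
    (hn : Cfsg.sqNorm (v : GolayPt → ℤ) ≤ 64) :
    Cfsg.sqNorm (dec (D.reps.getD (D.codeV (v : GolayPt → ℤ)) 0)) = Cfsg.sqNorm (v : GolayPt → ℤ) := by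
  obtain ⟨h1, h2, h3⟩ := rep_spec hD (codeV_lt D (v : GolayPt → ℤ))
  rw [← h3]
  exact (s5551 _ _ v.2 h2 hn (h1.trans (class_code hD hv).symm).cong).1

end Cfsg.Lib.Leech.MonsterSection
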