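import Cfsg.Agent.Leech.MonsterSection.OctLit

/-!
# All elements of the group of the code carrying one element to another by conjugation

A depth-first search through the images of representatives of the cycles, pruned by chosen octads.
-/

set_option autoImplicit false

namespace Cfsg.Lib.Leech.MonsterSection

open Cfsg Cfsg.Lib.Golay Cfsg.Lib.PermCert
open scoped Pointwise

/-- One level of the search: a cycle and some octads. -/
structure Lev where
  cyc : List ℕ
  octs : List ℕ

/-- The image of a position in a partial map. -/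
def look (P : List (ℕ × ℕ)) (i : ℕ) : ℕ := (P.find? fun p => p.1 == i).elim 24 Prod.snd

/-- The iterates of a permutation at a point. -/
def iter (t a : ℕ) : ℕ → List ℕ
  | 0 => []
  | n + 1 => a :: iter t (ap t a) n

/-- The image of the domain mask, and of its part inside a mask. -/
def imMask (P : List (ℕ × ℕ)) (o : ℕ) : ℕ :=
  P.foldr (fun p r => if o.testBit p.1 then r ||| (1 <<< p.2) else r) 0

/-- Pruning by an octad. -/
noncomputable def octOK (P : List (ℕ × ℕ)) (o : ℕ) : Bool :=
  anyOct (imMask P 16777215) (imMask P o) octLit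

/-- Extend at one level by an image of the head of the cycle. -/
noncomputable def cand (t : ℕ) (L : Lev) (P : List (ℕ × ℕ)) (a : ℕ) : Option (List (ℕ × ℕ)) :=
  if P.any (fun p => p.2 == a) then none
  else if (iter t a (L.cyc.length + 1)).getLast? != some a || !decide (iter t a L.cyc.length).Nodup then none
  else
    let P' := L.cyc.zip (iter t a L.cyc.length) ++ P
    if L.octs.all (octOK P') then some P' else none

/-- The search. -/
noncomputable def dfs (t : ℕ) : List Lev → List (ℕ × ℕ) → List (List ℕ)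
  | [], P => [(List.range 24).map (look P)]
  | L :: r, P => (List.range 24).flatMap fun a => (cand t L P a).elim [] (dfs t r)

/-- The search with the first image taken from a list. -/
noncomputable def dfsFrom (t : ℕ) : List Lev → List ℕ → List (List ℕ)
  | [], _ => []
  | L :: r, S => S.flatMap fun a => (cand t L [] a).elim [] (dfs t r)

/-- The levels follow the cycles of a permutation and cover all positions once. -/
noncomputable def levsOK (s : ℕ) (ls : List Lev) : Bool :=
  (ls.all fun L => decide (0 < L.cyc.length) &&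
      ((iter s (L.cyc.getD 0 0) (L.cyc.length + 1)) == L.cyc ++ [L.cyc.getD 0 0]) &&
      L.octs.all fun o => octLit.contains o) &&
    decide ((ls.flatMap Lev.cyc).Nodup) && ((List.range 24).all fun i => (ls.flatMap Lev.cyc).contains i) &&
    ((ls.flatMap Lev.cyc).all fun i => decide (i < 24))

variable (g : Equiv.Perm GolayPt)

/-- A partial map agrees with a permutation. -/
def Agree (P : List (ℕ × ℕ)) : Prop := ∀ p ∈ P, p.1 < 24 ∧ pidx (g (ptAt p.1)) = p.2

theorem iter_length (t : ℕ) : ∀ (n a : ℕ), (iter t a n).length = n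
  | 0, _ => rfl
  | n + 1, a => by simp [iter, iter_length t n]

theorem iter_equivariant {s t : PP} (hs : valid 24 s = true) (ht : valid 24 t = true)
    (hg : g * toP s = toP t * g) : ∀ (n i : ℕ), i < 24 →
      (iter s.1 i n).zip (iter t.1 (pidx (g (ptAt i))) n) =
        (iter s.1 i n).map (fun j => (j, pidx (g (ptAt j)))) ∧ ∀ j ∈ iter s.1 i n, j < 24
  | 0, _, _ => ⟨rfl, by simp [iter]⟩
  | n + 1, i, hi => by
    have e : ap t.1 (pidx (g (ptAt i))) = pidx (g (ptAt (ap s.1 i))) := by
      rw [← pidx_toP ht, ← toP_ptAt hs hi]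
      exact congrArg pidx (Equiv.Perm.ext_iff.mp hg (ptAt i)).symm
    obtain ⟨h1, h2⟩ := iter_equivariant hs ht hg n _ (valid_lt hs hi)
    refine ⟨?_, ?_⟩
    · simp only [iter, List.zip_cons_cons, List.map_cons, e]
      rw [h1]
    · simp only [iter, List.mem_cons]
      rintro j (rfl | hj)
      · exact hi
      · exact h2 j hj

theorem imMask_spec {P : List (ℕ × ℕ)} (o j : ℕ) :
    (imMask P o).testBit j = true ↔ ∃ p ∈ P, o.testBit p.1 = true ∧ p.2 = j := by
  induction P with
  | nil => simp [imMask]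
  | cons p P ih =>
    simp only [imMask, List.foldr_cons, List.mem_cons, exists_eq_or_imp] at ih ⊢
    by_cases h : o.testBit p.1 = true
    · simp only [h, if_true, Nat.testBit_or, Bool.or_eq_true, true_and, eq_comm (a := p.2), Nat.one_shiftLeft, Nat.testBit_two_pow,
        decide_eq_true_eq]
      simp only [Nat.one_shiftLeft] at ih
      rw [ih]
      exact or_comm
    · simp [h, ih]

theorem octOK_of {P : List (ℕ × ℕ)} (hg : g ∈ M24) (hP : Agree g P) {o : ℕ} (ho : o ∈ octMasks) :
    octOK P o = true := by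
  obtain ⟨hc, h8⟩ := mem_octMasks.mp ho
  have hlt := lt_of_inCode hc
  have hmem : g • pts o ∈ octads := smul_mem_octads hg ⟨(mem_supports_iff _).mpr (by rwa [mk_pts hlt]), h8⟩
  rw [octOK, anyOct_eq, ← octLit_eq]
  refine List.any_eq_true.mpr ⟨mk (g • pts o), mk_mem_octMasks.mpr hmem, beq_iff_eq.mpr ?_⟩
  apply Nat.eq_of_testBit_eq
  intro j
  rw [Bool.eq_iff_iff, Nat.testBit_and, Bool.and_eq_true, imMask_spec, imMask_spec]
  constructor
  · rintro ⟨h1, p, hp, -, rfl⟩
    refine ⟨p, hp, ?_, rfl⟩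
    obtain ⟨hp1, hp2⟩ := hP p hp
    rw [← hp2, testBit_mk] at h1
    rw [show g (ptAt p.1) = g • ptAt p.1 from rfl, Finset.smul_mem_smul_finset_iff, mem_pts,
      show pidx (ptAt p.1) = p.1 from pidx_ptAt ⟨p.1, hp1⟩] at h1
    exact h1
  · rintro ⟨p, hp, hb, rfl⟩
    obtain ⟨hp1, hp2⟩ := hP p hp
    refine ⟨?_, p, hp, ?_, rfl⟩
    · rw [← hp2, testBit_mk, show g (ptAt p.1) = g • ptAt p.1 from rfl, Finset.smul_mem_smul_finset_iff, mem_pts,
        show pidx (ptAt p.1) = p.1 from pidx_ptAt ⟨p.1, hp1⟩]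
      exact hb
    · rw [show (16777215 : ℕ) = 2 ^ 24 - 1 from rfl, Nat.testBit_two_pow_sub_one, decide_eq_true_eq]
      exact hp1

theorem cand_of {s t : PP} (hs : valid 24 s = true) (ht : valid 24 t = true) (hg : g ∈ M24)
    (hgs : g * toP s = toP t * g) {L : Lev} {P : List (ℕ × ℕ)} (hP : Agree g P) (hpos : 0 < L.cyc.length)
    (hcyc : iter s.1 (L.cyc.getD 0 0) (L.cyc.length + 1) = L.cyc ++ [L.cyc.getD 0 0])
    (hnd : L.cyc.Nodup) (hocts : ∀ o ∈ L.octs, o ∈ octMasks) (hlt : ∀ i ∈ L.cyc, i < 24) (hdis : ∀ p ∈ P, p.1 ≠ L.cyc.getD 0 0) :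
    ∃ P', cand t.1 L P (pidx (g (ptAt (L.cyc.getD 0 0)))) = some P' ∧ Agree g P' ∧
      ∀ p ∈ P', p.1 ∈ L.cyc ∨ ∃ q ∈ P, q.1 = p.1 := by
  set h0 := L.cyc.getD 0 0 with hh0
  have hh : h0 < 24 := hlt _ (by rw [hh0, List.getD_eq_getElem _ _ hpos]; exact List.getElem_mem _)
  set a := pidx (g (ptAt h0))
  have h1 : (P.any fun p => p.2 == a) = false := by
    rw [List.any_eq_false]
    intro p hp hb
    obtain ⟨hp1, hp2⟩ := hP p hp
    rw [beq_iff_eq, ← hp2] at hb
    have := g.injective (pidx_injective hb)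
    have e1 := congrArg pidx this
    rw [pidx_ptAt ⟨p.1, hp1⟩, pidx_ptAt ⟨h0, hh⟩] at e1
    exact hdis p hp e1
  obtain ⟨e1, -⟩ := iter_equivariant g hs ht hgs (L.cyc.length + 1) h0 hh
  rw [hcyc] at e1
  have e2 : iter t.1 a (L.cyc.length + 1) = (L.cyc ++ [h0]).map fun j => pidx (g (ptAt j)) := by
    have := congrArg (List.map Prod.snd) e1
    rwa [List.map_snd_zip (by simp [iter_length]), List.map_map] at this
  have h2 : ((iter t.1 a (L.cyc.length + 1)).getLast? != some a) = false := by
    rw [e2]; simp [a]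
  obtain ⟨e3, -⟩ := iter_equivariant g hs ht hgs L.cyc.length h0 hh
  have hpre : iter s.1 h0 L.cyc.length = L.cyc := by
    have key : ∀ (n i : ℕ), iter s.1 i (n + 1) = iter s.1 i n ++ [((ap s.1)^[n]) i] := by
      intro n
      induction n with
      | zero => simp [iter]
      | succ n ih =>
        intro i
        show i :: iter s.1 (ap s.1 i) (n + 1) = (i :: iter s.1 (ap s.1 i) n) ++ _
        rw [ih, List.cons_append, Function.iterate_succ_apply]
    rw [key] at hcyc
    exact List.append_inj_left hcyc (by rw [iter_length])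
  rw [hpre] at e3
  have h2' : (iter t.1 a L.cyc.length).Nodup := by
    have e4 := congrArg (List.map Prod.snd) e3
    rw [List.map_snd_zip (by simp [iter_length]), List.map_map] at e4
    rw [e4]
    refine hnd.map_on fun x hx y hy e => ?_
    have e5 := congrArg pidx (g.injective (pidx_injective e))
    rwa [pidx_ptAt ⟨x, hlt x hx⟩, pidx_ptAt ⟨y, hlt y hy⟩] at e5
  have hA : Agree g (L.cyc.zip (iter t.1 a L.cyc.length) ++ P) := by
    intro p hp
    rcases List.mem_append.mp hp with hp | hp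
    · rw [e3, List.mem_map] at hp
      obtain ⟨j, hj, rfl⟩ := hp
      exact ⟨hlt j hj, rfl⟩
    · exact hP p hp
  refine ⟨L.cyc.zip (iter t.1 a L.cyc.length) ++ P, ?_, hA, ?_⟩
  · unfold cand
    rw [if_neg (by rw [h1]; exact Bool.false_ne_true), if_neg (by rw [h2, decide_eq_true h2']; exact Bool.false_ne_true)]
    exact if_pos (List.all_eq_true.mpr fun o ho => octOK_of g hg hA (hocts o ho))
  · intro p hp
    rcases List.mem_append.mp hp with hp | hp
    · rw [e3, List.mem_map] at hp
      obtain ⟨j, hj, rfl⟩ := hp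
      exact Or.inl hj
    · exact Or.inr ⟨p, hp, rfl⟩

theorem cand_eq {t : ℕ} {L : Lev} {P P' : List (ℕ × ℕ)} {a : ℕ} (h : cand t L P a = some P') :
    P' = L.cyc.zip (iter t a L.cyc.length) ++ P := by
  unfold cand at h
  split at h
  · cases h
  · split at h
    · cases h
    · simp only at h
      split at h
      · cases h; rfl
      · cases h

theorem cand_cover {t : ℕ} {L : Lev} {P P' : List (ℕ × ℕ)} {a : ℕ} (h : cand t L P a = some P') {i : ℕ}
    (hi : i ∈ L.cyc) : ∃ p ∈ P', p.1 = i := by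
  rw [cand_eq h]
  obtain ⟨n, hn, rfl⟩ := List.getElem_of_mem hi
  exact ⟨(L.cyc.zip (iter t a L.cyc.length))[n]'(by simp [iter_length, hn]),
    List.mem_append_left _ (List.getElem_mem _), by simp⟩

theorem look_of {P : List (ℕ × ℕ)} (hP : Agree g P) {i : ℕ} (h : ∃ p ∈ P, p.1 = i) :
    look P i = pidx (g (ptAt i)) := by
  unfold look
  cases hf : P.find? fun p => p.1 == i with
  | none =>
    obtain ⟨p, hp, rfl⟩ := h
    exact absurd (List.find?_eq_none.mp hf p hp) (by simp)
  | some p =>
    have h1 := List.find?_some hf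
    rw [beq_iff_eq] at h1
    exact ((hP p (List.mem_of_find?_eq_some hf)).2.symm.trans (by rw [h1]))

theorem dfs_mem {s t : PP} (hs : valid 24 s = true) (ht : valid 24 t = true) (hg : g ∈ M24)
    (hgs : g * toP s = toP t * g) : ∀ (ls : List Lev) (P : List (ℕ × ℕ)), Agree g P →
      (∀ L ∈ ls, 0 < L.cyc.length ∧ iter s.1 (L.cyc.getD 0 0) (L.cyc.length + 1) = L.cyc ++ [L.cyc.getD 0 0] ∧
        (∀ o ∈ L.octs, o ∈ octMasks) ∧ ∀ i ∈ L.cyc, i < 24) →
      (ls.flatMap Lev.cyc).Nodup → (∀ p ∈ P, p.1 ∉ ls.flatMap Lev.cyc) →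
      (∀ i < 24, i ∈ ls.flatMap Lev.cyc ∨ ∃ p ∈ P, p.1 = i) →
      (List.range 24).map (fun i => pidx (g (ptAt i))) ∈ dfs t.1 ls P
  | [], P, hP, _, _, _, hcov => by
    refine List.mem_singleton.mpr (List.map_congr_left fun i hi => (look_of g hP ?_).symm)
    rcases hcov i (List.mem_range.mp hi) with h | h
    · simp at h
    · exact h
  | L :: r, P, hP, hls, hnd, hdis, hcov => by
    obtain ⟨hpos, hcyc, hocts, hlt⟩ := hls L List.mem_cons_self
    simp only [List.flatMap_cons, List.nodup_append] at hnd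
    have hh0 : L.cyc.getD 0 0 ∈ L.cyc := by rw [List.getD_eq_getElem _ _ hpos]; exact List.getElem_mem _
    obtain ⟨P', hc, hP', hdom⟩ := cand_of g hs ht hg hgs hP hpos hcyc hnd.1 hocts hlt
      (fun p hp e => hdis p hp (List.mem_flatMap.mpr ⟨L, List.mem_cons_self, e ▸ hh0⟩))
    refine List.mem_flatMap.mpr ⟨pidx (g (ptAt (L.cyc.getD 0 0))), List.mem_range.mpr (pidx_lt _), ?_⟩
    rw [hc]
    refine dfs_mem hs ht hg hgs r P' hP' (fun M hM => hls M (List.mem_cons_of_mem _ hM)) hnd.2.1 ?_ ?_
    · intro p hp h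
      rcases hdom p hp with h' | ⟨q, hq, e⟩
      · exact hnd.2.2 _ h' _ h rfl
      · exact hdis q hq (e ▸ List.mem_flatMap.mpr (by
          obtain ⟨M, hM, hM'⟩ := List.mem_flatMap.mp h
          exact ⟨M, List.mem_cons_of_mem _ hM, hM'⟩))
    · intro i hi
      rcases hcov i hi with h | ⟨q, hq, e⟩
      · simp only [List.flatMap_cons, List.mem_append] at h
        rcases h with h | h
        · exact Or.inr (cand_cover hc h)
        · exact Or.inl h
      · exact Or.inr ⟨q, (cand_eq hc) ▸ List.mem_append_right _ hq, e⟩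

/-- Completeness of the search. -/
theorem dfsFrom_mem {s t : PP} {ls : List Lev} {S : List ℕ} (hs : valid 24 s = true) (ht : valid 24 t = true)
    (hok : levsOK s.1 ls = true) (hg : g ∈ M24) (hgs : g * toP s = toP t * g)
    (hS : ∀ L r, ls = L :: r → pidx (g (ptAt (L.cyc.getD 0 0))) ∈ S) :
    (List.range 24).map (fun i => pidx (g (ptAt i))) ∈ dfsFrom t.1 ls S := by
  simp only [levsOK, ← octLit_eq, Bool.and_eq_true, List.all_eq_true, decide_eq_true_eq, beq_iff_eq,
    List.contains_eq_mem] at hok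
  obtain ⟨⟨⟨h1, h2⟩, h3⟩, h4⟩ := hok
  match ls, h1, h2, h3, h4, hS with
  | [], _, _, h3, _, _ => exact absurd (h3 0 (List.mem_range.mpr (by norm_num))) (by simp)
  | L :: r, h1, h2, h3, h4, hS =>
    have hls : ∀ M ∈ L :: r, 0 < M.cyc.length ∧
        iter s.1 (M.cyc.getD 0 0) (M.cyc.length + 1) = M.cyc ++ [M.cyc.getD 0 0] ∧
        (∀ o ∈ M.octs, o ∈ octMasks) ∧ ∀ i ∈ M.cyc, i < 24 := fun M hM =>
      ⟨(h1 M hM).1.1, (h1 M hM).1.2, (h1 M hM).2,
        fun i hi => h4 i (List.mem_flatMap.mpr ⟨M, hM, hi⟩)⟩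
    obtain ⟨hpos, hcyc, hocts, hlt⟩ := hls L List.mem_cons_self
    simp only [List.flatMap_cons, List.nodup_append] at h2
    obtain ⟨P', hc, hP', hdom⟩ := cand_of g (P := []) hs ht hg hgs (by simp [Agree]) hpos hcyc h2.1 hocts hlt (by simp)
    refine List.mem_flatMap.mpr ⟨_, hS L r rfl, ?_⟩
    rw [hc]
    refine dfs_mem g hs ht hg hgs r P' hP' (fun M hM => hls M (List.mem_cons_of_mem _ hM)) h2.2.1 ?_ ?_
    · intro p hp h
      rcases hdom p hp with h' | ⟨q, hq, -⟩
      · exact h2.2.2 _ h' _ h rfl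
      · simp at hq
    · intro i hi
      rcases List.mem_append.mp (h3 i (List.mem_range.mpr hi)) with h | h
      · exact Or.inr (cand_cover hc h)
      · exact Or.inl h

end Cfsg.Lib.Leech.MonsterSection
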