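import Cfsg.Agent.Leech.MonsterSection.Act

/-!
# The homomorphism to the permutations of the sets of fixed classes
-/

set_option autoImplicit false
set_option linter.style.haveILetI false

namespace Cfsg.Lib.Leech.MonsterSection

open Cfsg Cfsg.Lib.Golay Cfsg.Lib.Leech Stab
open Cfsg.Lib.PermCert (PP ap valid Level pinv check sift size grp topGens)

variable {D : Data} {A : List Act}

/-- A permutation carries the sets as the element does. -/
def GoodAt (D : Data) (g : Co0) (π : Equiv.Perm (Fin D.n)) : Prop :=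
  ∀ i : Fin D.n, ∀ c < 2 ^ D.m, (D.objs.getD i 0).testBit c = (D.objs.getD (π i) 0).testBit (D.actC g c)

theorem goodAt_mul (hD : ClsOK D) {g h : Co0} (hh : h ∈ D.C0) {π ρ : Equiv.Perm (Fin D.n)}
    (hg : GoodAt D g π) (hk : GoodAt D h ρ) : GoodAt D (g * h) (π * ρ) := by
  intro i c hc
  rw [hk i c hc, hg (ρ i) _ (actC_lt h c), actC_mul hD g hh]
  rfl

theorem goodAt_one (hD : ClsOK D) : GoodAt D 1 1 := fun i c hc => by
  rw [actC_one hD hc]; rfl

theorem goodAt_inv (hD : ClsOK D) {g : Co0} (hg : g ∈ D.C0) {π : Equiv.Perm (Fin D.n)} (h : GoodAt D g π) :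
    GoodAt D g⁻¹ π⁻¹ := by
  intro i c hc
  have h1 := h (π⁻¹ i) (D.actC g⁻¹ c) (actC_lt _ c)
  rw [← actC_mul hD g (inv_mem hg), mul_inv_cancel, actC_one hD hc] at h1
  simpa using h1.symm

theorem goodAt_unique (hD : ClsOK D) (hA : ActOK D A) {g : Co0} (hg : g ∈ D.C0) {π ρ : Equiv.Perm (Fin D.n)}
    (h1 : GoodAt D g π) (h2 : GoodAt D g ρ) : π = ρ := by
  obtain ⟨⟨hlen, hnd⟩, hlt⟩ := hA.objs
  refine Equiv.ext fun i => Fin.ext ?_
  have hi : (π i : ℕ) < D.objs.length := by rw [hlen]; exact (π i).2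
  have hj : (ρ i : ℕ) < D.objs.length := by rw [hlen]; exact (ρ i).2
  refine (hnd.getElem_inj_iff (hi := hi) (hj := hj)).mp (Nat.eq_of_testBit_eq fun c => ?_)
  by_cases hc : c < 2 ^ D.m
  · have a1 := h1 i (D.actC g⁻¹ c) (actC_lt _ c)
    have a2 := h2 i (D.actC g⁻¹ c) (actC_lt _ c)
    rw [← actC_mul hD g (inv_mem hg), mul_inv_cancel, actC_one hD hc] at a1 a2
    rw [a1, List.getD_eq_getElem _ _ hi, List.getD_eq_getElem _ _ hj] at a2
    exact a2
  · have hp : 2 ^ 2 ^ D.m ≤ 2 ^ c := Nat.pow_le_pow_right (by norm_num) (not_lt.mp hc)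
    rw [Nat.testBit_lt_two_pow ((hlt _ (List.getElem_mem hi)).trans_le hp),
      Nat.testBit_lt_two_pow ((hlt _ (List.getElem_mem hj)).trans_le hp)]


theorem good_word (hD : ClsOK D) (hA : ActOK D A) {w : List Atom} (hw : w ∈ D.words) :
    ∃ π ∈ grp D.n D.chain, GoodAt D (Mult.el w) π := by
  obtain ⟨a, -, rfl, ha⟩ := act_of_word hA hw
  obtain ⟨-, -, hv, hlin, hobj, hsift⟩ := act_spec' hD ha
  refine ⟨PermCert.perm D.n a.2.2, ?_, fun i c hc => ?_⟩
  · have := PermCert.mem_grp_of_sift hA.chain.1 (w := [a.2.2]) (by simpa using hv) hsift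
    simpa [PermCert.wperm] using this
  · rw [hlin, PermCert.perm_apply hv]
    exact hobj i i.2 c hc

theorem good_all (hD : ClsOK D) (hA : ActOK D A) {g : Co0} (hg : g ∈ D.C0) :
    ∃ π ∈ grp D.n D.chain, GoodAt D g π := by
  obtain ⟨t, ht, f, hf, a, ha, q, hq, rfl⟩ := decompose hD hA hg
  have mt : t ∈ D.words := by simp [Data.words, ht]
  have mf : [Atom.flip f] ∈ D.words := by simp [Data.words, hf]
  have ma : [Atom.perm a] ∈ D.words := by simp [Data.words, ha]
  have mq : [Atom.perm q] ∈ D.words := by simp [Data.words, hq]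
  obtain ⟨π1, g1, h1⟩ := good_word hD hA mt
  obtain ⟨π2, g2, h2⟩ := good_word hD hA mf
  obtain ⟨π3, g3, h3⟩ := good_word hD hA ma
  obtain ⟨π4, g4, h4⟩ := good_word hD hA mq
  have ca := (word_mem hD hA ma).2
  have cq := (word_mem hD hA mq).2
  have cf := (word_mem hD hA mf).2
  exact ⟨π1 * (π2 * π3 * π4), mul_mem g1 (mul_mem (mul_mem g2 g3) g4),
    goodAt_mul hD (mul_mem (mul_mem cf ca) cq) h1 (goodAt_mul hD cq (goodAt_mul hD ca h2 h3) h4)⟩

/-- The homomorphism. -/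
noncomputable def toPerm (hD : ClsOK D) (hA : ActOK D A) : D.C0 →* grp D.n D.chain :=
  MonoidHom.mk' (fun g => ⟨_, (good_all hD hA g.2).choose_spec.1⟩) fun g h => Subtype.ext
    (goodAt_unique hD hA (mul_mem g.2 h.2) (good_all hD hA (mul_mem g.2 h.2)).choose_spec.2
      (goodAt_mul hD h.2 (good_all hD hA g.2).choose_spec.2 (good_all hD hA h.2).choose_spec.2))

theorem toPerm_good (hD : ClsOK D) (hA : ActOK D A) (g : D.C0) :
    GoodAt D g (toPerm hD hA g : Equiv.Perm (Fin D.n)) := (good_all hD hA g.2).choose_spec.2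

theorem toPerm_surjective (hD : ClsOK D) (hA : ActOK D A) : Function.Surjective (toPerm hD hA) := by
  have key : ∀ π ∈ grp D.n D.chain, ∃ g : D.C0, ((toPerm hD hA g : grp D.n D.chain) : Equiv.Perm (Fin D.n)) = π := by
    intro π hπ
    refine (Subgroup.closure_le (K := (toPerm hD hA).range.map (grp D.n D.chain).subtype)).mpr ?_ hπ |>
      (fun ⟨ρ, ⟨g, hg⟩, e⟩ => ⟨g, by rw [hg]; exact e⟩)
    rintro _ ⟨s, hs, rfl⟩
    obtain ⟨a, ha, hae⟩ := List.any_eq_true.mp (List.all_eq_true.mp hA.chain.2 s hs)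
    rw [beq_iff_eq] at hae
    subst hae
    obtain ⟨-, hC, hv, hlin, hobj, -⟩ := act_spec' hD (List.all_eq_true.mp hA.acts a ha)
    refine ⟨toPerm hD hA ⟨_, hC⟩, ⟨_, rfl⟩, goodAt_unique hD hA hC (toPerm_good hD hA ⟨_, hC⟩) fun i c hc => ?_⟩
    rw [hlin, PermCert.perm_apply hv]
    exact hobj i i.2 c hc
  intro π
  obtain ⟨g, hg⟩ := key π π.2
  exact ⟨g, Subtype.ext hg⟩

theorem card_C0_le (hD : ClsOK D) (hA : ActOK D A) :
    Nat.card D.C0 ≤ 2 * D.r * size D.chain := by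
  classical
  haveI : Finite Co0 := Nat.finite_of_card_ne_zero (by rw [card_co0]; norm_num)
  rw [← hA.count]
  refine (Nat.card_le_card_of_surjective
    (α := {g : Co0 // ∃ p : Fin D.trans.length × Fin D.fc.length × Fin D.ca.length × Fin D.cp.length,
      g = Mult.el D.trans[p.1] * (Mult.el [Atom.flip D.fc[p.2.1]] * Mult.el [Atom.perm D.ca[p.2.2.1]] *
        Mult.el [Atom.perm D.cp[p.2.2.2]])})
    (fun g => if h : g.1 ∈ D.C0 then (⟨g.1, h⟩ : D.C0) else 1) fun g => ?_).trans ?_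
  · obtain ⟨t, ht, f, hf, a, ha, q, hq, e⟩ := decompose hD hA g.2
    obtain ⟨i1, e1, rfl⟩ := List.getElem_of_mem ht
    obtain ⟨i2, e2, rfl⟩ := List.getElem_of_mem hf
    obtain ⟨i3, e3, rfl⟩ := List.getElem_of_mem ha
    obtain ⟨i4, e4, rfl⟩ := List.getElem_of_mem hq
    exact ⟨⟨g, (⟨i1, e1⟩, ⟨i2, e2⟩, ⟨i3, e3⟩, ⟨i4, e4⟩), e⟩, by simp [g.2]⟩
  · refine (Nat.card_le_card_of_surjective (fun p => (⟨_, p, rfl⟩ : {g : Co0 // ∃ p : Fin D.trans.length ×
      Fin D.fc.length × Fin D.ca.length × Fin D.cp.length, g = Mult.el D.trans[p.1] *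
        (Mult.el [Atom.flip D.fc[p.2.1]] * Mult.el [Atom.perm D.ca[p.2.2.1]] *
          Mult.el [Atom.perm D.cp[p.2.2.2]])})) ?_).trans (le_of_eq ?_)
    · rintro ⟨g, p, rfl⟩
      exact ⟨p, rfl⟩
    · simp [Nat.card_eq_fintype_card, mul_assoc]

theorem x_ne_one (hD : ClsOK D) (hA : ActOK D A) : D.x ≠ 1 := by
  intro h
  obtain ⟨i, hi, hne⟩ := hA.moved
  have e := x_e8 hD (ptAt i)
  rw [h, one_smul] at e
  have := e8_pos (s := false) (t := false) e
  rw [toP_ptAt (valid_sig hD) hi] at this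
  exact hne (by
    have h1 := congrArg pidx this
    rwa [show pidx (ptAt i) = i from pidx_ptAt ⟨i, hi⟩, show pidx (ptAt (ap D.sig.1 i)) = _ from
      pidx_ptAt ⟨_, PermCert.valid_lt (valid_sig hD) hi⟩, eq_comm] at h1)

theorem orderOf_x (hD : ClsOK D) (hA : ActOK D A) : orderOf D.x = D.r :=
  haveI := Fact.mk hA.prime
  orderOf_eq_prime (x_pow_r hD) (x_ne_one hD hA)

theorem orderOf_negX (hD : ClsOK D) (hA : ActOK D A) : orderOf (negOne * D.x) = 2 * D.r := by
  have h2 : orderOf negOne = 2 :=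
    orderOf_eq_prime (by rw [pow_two, negOne_sq]) negOne_ne_one
  rw [Commute.orderOf_mul_eq_mul_orderOf_of_coprime (negOne_comm D.x) (by
    rw [h2, orderOf_x hD hA]; exact hD.ord.1.coprime_two_left), h2, orderOf_x hD hA]

theorem negX_mem (hD : ClsOK D) : negOne * D.x ∈ D.C0 :=
  mem_C0.mpr (by rw [mul_assoc, ← mul_assoc D.x, ← negOne_comm D.x]; rw [mul_assoc])

theorem negX_trivial (hD : ClsOK D) {c : ℕ} (hc : c < 2 ^ D.m) : D.actC (negOne * D.x) c = c := by
  rw [Data.actC, mul_smul, vec_fixed hD, negOne_apply,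
    codeV_congr hD (v := -D.vec c) (w := D.vec c) ⟨-D.vec c, by rw [two_smul]; abel⟩, code_vec hD hc]

/-- The element and its negative. -/
noncomputable def negX (hD : ClsOK D) : D.C0 := ⟨negOne * D.x, negX_mem hD⟩

theorem ker_eq (hD : ClsOK D) (hA : ActOK D A) :
    (toPerm hD hA).ker = Subgroup.zpowers (negX hD) ∧ Nat.card D.C0 = 2 * D.r * size D.chain := by
  have hle : Subgroup.zpowers (negX hD) ≤ (toPerm hD hA).ker :=
    Subgroup.zpowers_le.mpr (Subtype.ext (goodAt_unique hD hA (negX_mem hD) (toPerm_good hD hA _) fun i c hc => by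
      rw [negX_trivial hD hc]; rfl))
  have hfin : Finite Co0 := Nat.finite_of_card_ne_zero (by rw [card_co0]; norm_num)
  have h1 := (toPerm hD hA).ker.card_mul_index
  rw [Subgroup.index_ker, MonoidHom.range_eq_top.mpr (toPerm_surjective hD hA), Subgroup.card_top,
    PermCert.card_grp hA.chain.1] at h1
  have h2 : Nat.card (Subgroup.zpowers (negX hD)) = 2 * D.r := by
    rw [Nat.card_zpowers, ← Subgroup.orderOf_coe]; exact orderOf_negX hD hA
  have h3 := card_C0_le hD hA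
  have h4 : Nat.card (Subgroup.zpowers (negX hD)) ≤ Nat.card (toPerm hD hA).ker :=
    Nat.card_mono (Set.toFinite _) hle
  have hpos : 0 < size D.chain := by rw [← PermCert.card_grp hA.chain.1]; exact Nat.card_pos
  have h5 : Nat.card (toPerm hD hA).ker = 2 * D.r := by nlinarith
  refine ⟨(Subgroup.eq_of_le_of_card_ge hle (by omega)).symm, ?_⟩
  rw [← h1, h5]

/-- An element of the centraliser fixing all fixed classes is a power of the element or its negative. -/
theorem trivial_mem (hD : ClsOK D) (hA : ActOK D A) {g : D.C0} (h : ∀ c < 2 ^ D.m, D.actC g c = c) :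
    g ∈ Subgroup.zpowers (negX hD) := by
  rw [← (ker_eq hD hA).1]
  exact Subtype.ext (goodAt_unique hD hA g.2 (toPerm_good hD hA g) fun i c hc => by rw [h c hc]; rfl)

end Cfsg.Lib.Leech.MonsterSection
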