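import Cfsg.Agent.Leech.MonsterSection.Swap
import Cfsg.Agent.Leech.MonsterStab

/-!
# Involutions over sign changes of a frame, and their exact inverted elements
-/

set_option autoImplicit false
set_option linter.style.haveILetI false
set_option linter.unusedSectionVars false

namespace Cfsg.Lib.Leech.MonsterSection

open Cfsg Cfsg.Lib.Golay Cfsg.Lib.Leech Stab Finset

variable {G : Type*} [Group G] [Finite G] {z : G} {Q : Subgroup (Subgroup.centralizer ({z} : Set G))} [Q.Normal]
  {e : (Subgroup.centralizer ({z} : Set G)) ⧸ Q ≃* Spor.Co1} {ψ : leechLattice → Q ⧸ Subgroup.center Q}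

variable (hw : IsExtraspecialCentralizerSetting z Q 12) (hψ : IsLeechModTwoIso Q e ψ) {g : G} {a : Q}
  (hag : ((a : Subgroup.centralizer ({z} : Set G)) : G) = g * z * g⁻¹) (ha : a ∉ Subgroup.center Q)
  {k : Co0} (hv : ψ (k • e8 pN) = QuotientGroup.mk a)

include hw hψ hag ha hv in
/-- All sign changes are induced. -/
theorem flip_mem_indGroup {c : Finset GolayPt} (hc : c ∈ code) : mono (one_mem M24) hc ∈ indGroup e g k := by
  classical
  haveI : Finite Co0 := Nat.finite_of_card_ne_zero (by rw [card_co0]; norm_num)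
  set Ind := indGroup e g k
  let φ : Ind →* (Subgroup.centralizer ({z} : Set G)) ⧸ Q :=
    MonoidHom.mk' (fun r => e.symm (QuotientGroup.mk (k * (r : Co0) * k⁻¹))) fun r s => by
      rw [← map_mul, ← QuotientGroup.mk_mul, Subgroup.coe_mul]
      congr 2
      group
  have hle : (conjCent Q g).map (QuotientGroup.mk' Q) ≤ φ.range := by
    rintro _ ⟨u, hu, rfl⟩
    obtain ⟨r, hr⟩ := img_exists (e := e) k u
    exact ⟨⟨r, u, hu, hr⟩, (img_mk hr).symm⟩
  have h1 : 2 ^ 11 ≤ Nat.card φ.range := by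
    rw [← card_conjCent_image hw hψ hag ha hv]
    exact Nat.card_mono (Set.toFinite _) hle
  have h2 : 2 ≤ Nat.card φ.ker := by
    have hn : (⟨negOne, negOne_mem_indGroup⟩ : Ind) ∈ φ.ker := by
      show e.symm (QuotientGroup.mk (k * negOne * k⁻¹)) = 1
      rw [(QuotientGroup.eq_one_iff _).mpr ((inferInstance : (Subgroup.center Co0).Normal).conj_mem _
        (Subgroup.mem_center_iff.mpr fun t => (negOne_comm t).symm) k), map_one]
    rw [Nat.succ_le_iff, Finite.one_lt_card_iff_nontrivial]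
    exact ⟨⟨⟨_, hn⟩, 1, fun h => negOne_ne_one (congrArg (fun t : φ.ker => ((t : Ind) : Co0)) h)⟩⟩
  have h3 := φ.ker.card_mul_index
  rw [Subgroup.index_ker] at h3
  let f : code → Co0 := fun d => mono (one_mem M24) d.2
  have hf : Function.Injective f := fun p q h => Subtype.ext (mono_injective _ _ _ _ h).2
  have hsub : (Ind : Set Co0) ⊆ Set.range f := fun r hr => by
    obtain ⟨d, hd, rfl⟩ := indGroup_flip hw hψ hag ha hv hr
    exact ⟨⟨d, hd⟩, rfl⟩
  have heq : (Ind : Set Co0) = Set.range f := by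
    refine Set.eq_of_subset_of_ncard_le hsub ?_ (Set.toFinite _)
    rw [Set.ncard_range_of_injective hf, card_code, ← Nat.card_coe_set_eq]
    show 4096 ≤ Nat.card Ind
    rw [← h3]
    exact (Nat.mul_le_mul h2 h1)
  exact heq.ge ⟨⟨c, hc⟩, rfl⟩

include hw hψ hag ha hv in
/-- A sign change with points on both sides lifts to an involution of the centraliser of the central involution. -/
theorem flip_involution {c : Finset GolayPt} (hc : c ∈ code) {i j : GolayPt} (hic : i ∈ c) (hjc : j ∉ c) :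
    ∃ u : Subgroup.centralizer ({z} : Set G), u * u = 1 ∧ Img e k (mono (one_mem M24) hc) u := by
  classical
  obtain ⟨u, hu, hr⟩ := flip_mem_indGroup hw hψ hag ha hv hc
  set A := ((a : Subgroup.centralizer ({z} : Set G)) : G) with hA
  set U := ((u : Subgroup.centralizer ({z} : Set G)) : G) with hU
  rcases QC_sq hw hψ (show U ∈ QC Q g from hu) with h1 | h1
  · exact ⟨u, Subtype.ext h1, hr⟩
  rw [← hag] at h1
  have hx : pairVec i j 1 ∈ singular :=
    ⟨0, fun l => (if l = i then 1 else 0) + if l = j then 1 else 0, fun l => by simp [pairVec],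
      by rw [sum_add_distrib, sum_ite, sum_ite]; rfl⟩
  obtain ⟨hxL, q, hq, hqc⟩ := (mem_classSub hψ).mp ((meet_eq_singular hw hψ hag ha hv).ge hx)
  set P := ((q : Subgroup.centralizer ({z} : Set G)) : G) with hP
  have hne : U * P ≠ P * U := fun h => by
    have e1 := img_class hψ hr hqc
    rw [show (⟨u * q * u⁻¹, _⟩ : Q) = q from Subtype.ext (Subtype.ext (mul_inv_eq_iff_eq_mul.mpr h)), ← hqc] at e1
    obtain ⟨w, hw'⟩ := (psi_smul_eq_iff hψ k).mp e1
    have hij : i ≠ j := fun h => hjc (h ▸ hic)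
    have hval : ∀ l, (w : GolayPt → ℤ) l = if l = i then -4 else 0 := fun l => by
      have := congrFun (congrArg Subtype.val hw') l
      simp only [mono_apply, signedPerm, AddSubgroup.coe_add, AddSubgroup.coe_zsmul, Pi.add_apply, Pi.smul_apply,
        smul_eq_mul, show (1 : Equiv.Perm GolayPt).symm l = l from rfl, pairVec] at this
      by_cases h1 : l = i
      · subst h1; simp [hic, hij] at this ⊢; omega
      · by_cases h2 : l = j
        · subst h2; simp [hjc, Ne.symm hij] at this ⊢; omega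
        · by_cases h3 : l ∈ c <;> simp [h1, h2, h3] at this ⊢ <;> omega
    have h16 : Cfsg.sqNorm (w : GolayPt → ℤ) = 16 := by
      unfold Cfsg.sqNorm
      simp [hval]
    have h32 := thirtytwo_le_sqNorm w.2 (fun h => by
      have := hval i
      simp [h] at this)
    omega
  have hP2 : P * P = 1 :=
    congrArg (fun t : Q => ((t : Subgroup.centralizer ({z} : Set G)) : G)) (meet_involution hw hψ hag ha hq)
  have hA2 : A * A = 1 :=
    congrArg (fun t : Q => ((t : Subgroup.centralizer ({z} : Set G)) : G))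
      (meet_involution hw hψ hag ha (a_mem_meet hw hag))
  refine ⟨u * q, Subtype.ext ?_, ?_⟩
  · show U * P * (U * P) = 1
    rcases QC_comm hw hψ (show P ∈ QC Q g from hq) (show U ∈ QC Q g from hu) with h2 | h2
    · exact absurd (mul_inv_eq_iff_eq_mul.mp (mul_inv_eq_one.mp h2)).symm hne
    · rw [← hag] at h2
      calc U * P * (U * P) = U * ((P * U * P⁻¹ * U⁻¹) * U * P * P) := by group
        _ = U * (A * U * P * P) := by rw [h2]
        _ = U * A * U * (P * P) := by group
        _ = U * A * U := by rw [hP2, mul_one]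
        _ = U * (U * U) * U := by rw [h1]
        _ = (U * U) * (U * U) := by group
        _ = 1 := by rw [h1, hA2]
  · unfold Img at hr ⊢
    rw [QuotientGroup.mk_mul, (QuotientGroup.eq_one_iff _).mpr q.2, mul_one]
    exact hr

omit g a k in
include hw in
/-- An involution inverting an element of odd prime order modulo `Q` has a translate inverting it exactly. -/
theorem exact_inverting {r : ℕ} (hr : r.Prime) (hodd : Odd r) {b u : Subgroup.centralizer ({z} : Set G)}
    (hb : orderOf b = r) (hu : u * u = 1)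
    (h : (QuotientGroup.mk (u * b * u⁻¹) : _ ⧸ Q) = (QuotientGroup.mk b)⁻¹) :
    ∃ q ∈ Q, q * u * q⁻¹ * b * (q * u * q⁻¹)⁻¹ = b⁻¹ := by
  haveI := Fact.mk hr
  set π := QuotientGroup.mk' Q
  have hker : IsPGroup 2 π.ker := by rw [QuotientGroup.ker_mk']; exact hw.2.2.1.1.1
  have hy : orderOf (π b) = r := pow_order_map π hker hr hodd hb
  have hui : u⁻¹ = u := inv_eq_of_mul_eq_one_left hu
  set u' := b * u * b⁻¹ with hu'
  set d := u * u' with hd
  have hud : u * d * u⁻¹ = d⁻¹ := by
    calc u * d * u⁻¹ = (u * u) * u' * u⁻¹ := by rw [hd]; group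
      _ = u' * u⁻¹ := by rw [hu, one_mul]
      _ = u'⁻¹ * u⁻¹ := by
        congr 1
        refine (inv_eq_of_mul_eq_one_left ?_).symm
        rw [hu']
        calc b * u * b⁻¹ * (b * u * b⁻¹) = b * (u * u) * b⁻¹ := by group
          _ = 1 := by rw [hu]; group
      _ = d⁻¹ := (mul_inv_rev u u').symm
  have h' : π u * π b * (π u)⁻¹ = (π b)⁻¹ := by rw [← map_mul, ← map_inv, ← map_mul]; exact h
  have hdπ : π d = (π b ^ 2)⁻¹ := by
    calc π d = (π u * π b * (π u)⁻¹) * (π u * π u) * (π b)⁻¹ := by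
          simp only [hd, hu', map_mul, map_inv]; group
      _ = _ := by rw [h', ← map_mul π u u, hu, map_one, mul_one, pow_two, mul_inv_rev]
  have hdr : π (d ^ r) = 1 := by
    rw [map_pow, hdπ, inv_pow, ← pow_mul, mul_comm, pow_mul, ← hy, pow_orderOf_eq_one, one_pow, inv_one]
  obtain ⟨n, hn⟩ := hker ⟨d ^ r, hdr⟩
  have hn' : (d ^ r) ^ 2 ^ n = 1 := congrArg Subtype.val hn
  obtain ⟨m, hm⟩ := exists_pow_eq_self_of_coprime (n := 2 ^ (n + 1)) (x := π b) (by
    rw [hy]; exact (Nat.coprime_two_left.mpr hodd).pow_left _)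
  set d1 := ((d ^ 2 ^ n) ^ m)⁻¹ with hd1
  have hπ1 : π d1 = π b := by
    rw [hd1, map_inv, map_pow, map_pow, hdπ, inv_pow, inv_pow, inv_inv, ← pow_mul, ← pow_mul, ← mul_assoc,
      ← pow_succ', pow_mul]
    exact hm
  have ho : orderOf d1 = r := by
    refine orderOf_eq_prime ?_ fun e1 => ?_
    · rw [hd1, inv_pow, ← pow_mul, ← pow_mul, show 2 ^ n * (m * r) = r * 2 ^ n * m by ring, pow_mul, pow_mul, hn',
        one_pow, inv_one]
    · rw [e1, map_one] at hπ1
      rw [← hπ1, orderOf_one] at hy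
      exact hr.ne_one hy.symm
  obtain ⟨q, hq, hqb⟩ := conj_in_fibre π hker hr hodd hb ho hπ1
  rw [QuotientGroup.ker_mk'] at hq
  refine ⟨q, hq, ?_⟩
  have h5 : u * d1 * u⁻¹ = d1⁻¹ := by
    rw [hd1, ← MulAut.conj_apply, map_inv, map_pow, map_pow, MulAut.conj_apply, hud, inv_pow, inv_pow]
  calc q * u * q⁻¹ * b * (q * u * q⁻¹)⁻¹ = q * u * q⁻¹ * (q * d1 * q⁻¹) * (q * u * q⁻¹)⁻¹ := by rw [hqb]
    _ = q * (u * d1 * u⁻¹) * q⁻¹ := by group
    _ = q * d1⁻¹ * q⁻¹ := by rw [h5]
    _ = b⁻¹ := by rw [← hqb]; group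

end Cfsg.Lib.Leech.MonsterSection
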