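import Cfsg.Agent.Leech.MonsterSection.BigHom
import Cfsg.Agent.Leech.MonsterSection.BigTools
import Cfsg.Agent.Leech.MonsterSection.DataBig

/-!
# The checks on the acts and on the orbit
-/

set_option autoImplicit false
set_option maxRecDepth 100000
set_option Elab.async false

namespace Cfsg.Lib.Leech.MonsterSection

open Cfsg Cfsg.Lib.Golay Cfsg.Lib.Leech Stab
open Cfsg.Lib.PermCert (topGens)

/-- The data of the large centraliser. -/
def bigB : Big :=
  { acts := bigA, layers := bigLayers, sel := bigSel, tri := bigTri, lab := bigLab, slp := bigSlp, om := bigOmega,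
    moved := bigMoved }

theorem bigAct0 : ((bigA.drop (8 * 0)).take 8).all (bigB.actOK bigD) = true := by decide +kernel

theorem bigAct1 : ((bigA.drop (8 * 1)).take 8).all (bigB.actOK bigD) = true := by decide +kernel

theorem bigAct2 : ((bigA.drop (8 * 2)).take 8).all (bigB.actOK bigD) = true := by decide +kernel

theorem bigAct3 : ((bigA.drop (8 * 3)).take 8).all (bigB.actOK bigD) = true := by decide +kernel

theorem bigAct4 : ((bigA.drop (8 * 4)).take 8).all (bigB.actOK bigD) = true := by decide +kernel

theorem bigAct5 : ((bigA.drop (8 * 5)).take 8).all (bigB.actOK bigD) = true := by decide +kernel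

theorem bigAct6 : ((bigA.drop (8 * 6)).take 8).all (bigB.actOK bigD) = true := by decide +kernel

theorem bigAct7 : ((bigA.drop (8 * 7)).take 8).all (bigB.actOK bigD) = true := by decide +kernel

theorem bigAct8 : ((bigA.drop (8 * 8)).take 8).all (bigB.actOK bigD) = true := by decide +kernel

theorem bigAct9 : ((bigA.drop (8 * 9)).take 8).all (bigB.actOK bigD) = true := by decide +kernel

theorem bigAct10 : ((bigA.drop (8 * 10)).take 8).all (bigB.actOK bigD) = true := by decide +kernel

theorem bigAct11 : ((bigA.drop (8 * 11)).take 8).all (bigB.actOK bigD) = true := by decide +kernel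

theorem bigAct12 : ((bigA.drop (8 * 12)).take 8).all (bigB.actOK bigD) = true := by decide +kernel

theorem bigAct13 : ((bigA.drop (8 * 13)).take 8).all (bigB.actOK bigD) = true := by decide +kernel

theorem bigAct14 : ((bigA.drop (8 * 14)).take 8).all (bigB.actOK bigD) = true := by decide +kernel

theorem bigAct15 : ((bigA.drop (8 * 15)).take 8).all (bigB.actOK bigD) = true := by decide +kernel

theorem bigAct16 : ((bigA.drop (8 * 16)).take 8).all (bigB.actOK bigD) = true := by decide +kernel

theorem bigAct17 : ((bigA.drop (8 * 17)).take 8).all (bigB.actOK bigD) = true := by decide +kernel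

theorem bigAct_chunks : ∀ i < 18, ((bigA.drop (8 * i)).take 8).all (bigB.actOK bigD) = true := by
  intro i hi
  interval_cases i
  · exact bigAct0
  · exact bigAct1
  · exact bigAct2
  · exact bigAct3
  · exact bigAct4
  · exact bigAct5
  · exact bigAct6
  · exact bigAct7
  · exact bigAct8
  · exact bigAct9
  · exact bigAct10
  · exact bigAct11
  · exact bigAct12
  · exact bigAct13
  · exact bigAct14
  · exact bigAct15
  · exact bigAct16
  · exact bigAct17

theorem bigLayer0 : (List.range 16).all (fun i => (List.range 256).all fun r => !(bigLayers.getD 0 0).testBit (256 * i + r) ||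
      if 0 = 0 then decide (256 * i + r = bigD.c0) else
        bigSel.any fun g => (bigLayers.getD (0 - 1) 0).testBit (linK (bigB.act g).2.1 (256 * i + r) bigD.m)) = true := by decide +kernel

theorem bigLayer1 : (List.range 16).all (fun i => (List.range 256).all fun r => !(bigLayers.getD 1 0).testBit (256 * i + r) ||
      if 1 = 0 then decide (256 * i + r = bigD.c0) else
        bigSel.any fun g => (bigLayers.getD (1 - 1) 0).testBit (linK (bigB.act g).2.1 (256 * i + r) bigD.m)) = true := by decide +kernel

theorem bigLayer2 : (List.range 16).all (fun i => (List.range 256).all fun r => !(bigLayers.getD 2 0).testBit (256 * i + r) ||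
      if 2 = 0 then decide (256 * i + r = bigD.c0) else
        bigSel.any fun g => (bigLayers.getD (2 - 1) 0).testBit (linK (bigB.act g).2.1 (256 * i + r) bigD.m)) = true := by decide +kernel

theorem bigLayer3 : (List.range 16).all (fun i => (List.range 256).all fun r => !(bigLayers.getD 3 0).testBit (256 * i + r) ||
      if 3 = 0 then decide (256 * i + r = bigD.c0) else
        bigSel.any fun g => (bigLayers.getD (3 - 1) 0).testBit (linK (bigB.act g).2.1 (256 * i + r) bigD.m)) = true := by decide +kernel

theorem bigLayer4 : (List.range 16).all (fun i => (List.range 256).all fun r => !(bigLayers.getD 4 0).testBit (256 * i + r) ||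
      if 4 = 0 then decide (256 * i + r = bigD.c0) else
        bigSel.any fun g => (bigLayers.getD (4 - 1) 0).testBit (linK (bigB.act g).2.1 (256 * i + r) bigD.m)) = true := by decide +kernel

theorem bigLayer5 : (List.range 16).all (fun i => (List.range 256).all fun r => !(bigLayers.getD 5 0).testBit (256 * i + r) ||
      if 5 = 0 then decide (256 * i + r = bigD.c0) else
        bigSel.any fun g => (bigLayers.getD (5 - 1) 0).testBit (linK (bigB.act g).2.1 (256 * i + r) bigD.m)) = true := by decide +kernel

theorem bigLayer6 : (List.range 16).all (fun i => (List.range 256).all fun r => !(bigLayers.getD 6 0).testBit (256 * i + r) ||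
      if 6 = 0 then decide (256 * i + r = bigD.c0) else
        bigSel.any fun g => (bigLayers.getD (6 - 1) 0).testBit (linK (bigB.act g).2.1 (256 * i + r) bigD.m)) = true := by decide +kernel

theorem bigLayer_chunks : ∀ j < 7, (List.range 16).all (fun i => (List.range 256).all fun r => !(bigLayers.getD j 0).testBit (256 * i + r) ||
      if j = 0 then decide (256 * i + r = bigD.c0) else
        bigSel.any fun g => (bigLayers.getD (j - 1) 0).testBit (linK (bigB.act g).2.1 (256 * i + r) bigD.m)) = true := by
  intro j hj
  interval_cases j
  · exact bigLayer0
  · exact bigLayer1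
  · exact bigLayer2
  · exact bigLayer3
  · exact bigLayer4
  · exact bigLayer5
  · exact bigLayer6

theorem bigCover0 : ((((bigReps).drop (256 * 0)).take 256).zipIdx.all fun e => !decide (dotK e.1 e.1 = 64) ||
    (List.range 7).any fun j => (bigLayers.getD j 0).testBit (256 * 0 + e.2)) = true := by decide +kernel

theorem bigCover1 : ((((bigReps).drop (256 * 1)).take 256).zipIdx.all fun e => !decide (dotK e.1 e.1 = 64) ||
    (List.range 7).any fun j => (bigLayers.getD j 0).testBit (256 * 1 + e.2)) = true := by decide +kernel

theorem bigCover2 : ((((bigReps).drop (256 * 2)).take 256).zipIdx.all fun e => !decide (dotK e.1 e.1 = 64) ||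
    (List.range 7).any fun j => (bigLayers.getD j 0).testBit (256 * 2 + e.2)) = true := by decide +kernel

theorem bigCover3 : ((((bigReps).drop (256 * 3)).take 256).zipIdx.all fun e => !decide (dotK e.1 e.1 = 64) ||
    (List.range 7).any fun j => (bigLayers.getD j 0).testBit (256 * 3 + e.2)) = true := by decide +kernel

theorem bigCover4 : ((((bigReps).drop (256 * 4)).take 256).zipIdx.all fun e => !decide (dotK e.1 e.1 = 64) ||
    (List.range 7).any fun j => (bigLayers.getD j 0).testBit (256 * 4 + e.2)) = true := by decide +kernel

theorem bigCover5 : ((((bigReps).drop (256 * 5)).take 256).zipIdx.all fun e => !decide (dotK e.1 e.1 = 64) ||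
    (List.range 7).any fun j => (bigLayers.getD j 0).testBit (256 * 5 + e.2)) = true := by decide +kernel

theorem bigCover6 : ((((bigReps).drop (256 * 6)).take 256).zipIdx.all fun e => !decide (dotK e.1 e.1 = 64) ||
    (List.range 7).any fun j => (bigLayers.getD j 0).testBit (256 * 6 + e.2)) = true := by decide +kernel

theorem bigCover7 : ((((bigReps).drop (256 * 7)).take 256).zipIdx.all fun e => !decide (dotK e.1 e.1 = 64) ||
    (List.range 7).any fun j => (bigLayers.getD j 0).testBit (256 * 7 + e.2)) = true := by decide +kernel

theorem bigCover8 : ((((bigReps).drop (256 * 8)).take 256).zipIdx.all fun e => !decide (dotK e.1 e.1 = 64) ||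
    (List.range 7).any fun j => (bigLayers.getD j 0).testBit (256 * 8 + e.2)) = true := by decide +kernel

theorem bigCover9 : ((((bigReps).drop (256 * 9)).take 256).zipIdx.all fun e => !decide (dotK e.1 e.1 = 64) ||
    (List.range 7).any fun j => (bigLayers.getD j 0).testBit (256 * 9 + e.2)) = true := by decide +kernel

theorem bigCover10 : ((((bigReps).drop (256 * 10)).take 256).zipIdx.all fun e => !decide (dotK e.1 e.1 = 64) ||
    (List.range 7).any fun j => (bigLayers.getD j 0).testBit (256 * 10 + e.2)) = true := by decide +kernel

theorem bigCover11 : ((((bigReps).drop (256 * 11)).take 256).zipIdx.all fun e => !decide (dotK e.1 e.1 = 64) ||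
    (List.range 7).any fun j => (bigLayers.getD j 0).testBit (256 * 11 + e.2)) = true := by decide +kernel

theorem bigCover12 : ((((bigReps).drop (256 * 12)).take 256).zipIdx.all fun e => !decide (dotK e.1 e.1 = 64) ||
    (List.range 7).any fun j => (bigLayers.getD j 0).testBit (256 * 12 + e.2)) = true := by decide +kernel

theorem bigCover13 : ((((bigReps).drop (256 * 13)).take 256).zipIdx.all fun e => !decide (dotK e.1 e.1 = 64) ||
    (List.range 7).any fun j => (bigLayers.getD j 0).testBit (256 * 13 + e.2)) = true := by decide +kernel

theorem bigCover14 : ((((bigReps).drop (256 * 14)).take 256).zipIdx.all fun e => !decide (dotK e.1 e.1 = 64) ||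
    (List.range 7).any fun j => (bigLayers.getD j 0).testBit (256 * 14 + e.2)) = true := by decide +kernel

theorem bigCover15 : ((((bigReps).drop (256 * 15)).take 256).zipIdx.all fun e => !decide (dotK e.1 e.1 = 64) ||
    (List.range 7).any fun j => (bigLayers.getD j 0).testBit (256 * 15 + e.2)) = true := by decide +kernel

theorem bigCover_chunks : ∀ i < 16, ((((bigReps).drop (256 * i)).take 256).zipIdx.all fun e => !decide (dotK e.1 e.1 = 64) ||
    (List.range 7).any fun j => (bigLayers.getD j 0).testBit (256 * i + e.2)) = true := by
  intro i hi
  interval_cases i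
  · exact bigCover0
  · exact bigCover1
  · exact bigCover2
  · exact bigCover3
  · exact bigCover4
  · exact bigCover5
  · exact bigCover6
  · exact bigCover7
  · exact bigCover8
  · exact bigCover9
  · exact bigCover10
  · exact bigCover11
  · exact bigCover12
  · exact bigCover13
  · exact bigCover14
  · exact bigCover15

theorem bigCount0 : (bigReps0.countP fun K => decide (dotK K K = 64)) = 105 := by decide +kernel

theorem bigCount1 : (bigReps1.countP fun K => decide (dotK K K = 64)) = 100 := by decide +kernel

theorem bigCount2 : (bigReps2.countP fun K => decide (dotK K K = 64)) = 84 := by decide +kernel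

theorem bigCount3 : (bigReps3.countP fun K => decide (dotK K K = 64)) = 116 := by decide +kernel

theorem bigCount4 : (bigReps4.countP fun K => decide (dotK K K = 64)) = 108 := by decide +kernel

theorem bigCount5 : (bigReps5.countP fun K => decide (dotK K K = 64)) = 108 := by decide +kernel

theorem bigCount6 : (bigReps6.countP fun K => decide (dotK K K = 64)) = 108 := by decide +kernel

theorem bigCount7 : (bigReps7.countP fun K => decide (dotK K K = 64)) = 108 := by decide +kernel

theorem bigCount8 : (bigReps8.countP fun K => decide (dotK K K = 64)) = 108 := by decide +kernel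

theorem bigCount9 : (bigReps9.countP fun K => decide (dotK K K = 64)) = 108 := by decide +kernel

theorem bigCount10 : (bigReps10.countP fun K => decide (dotK K K = 64)) = 108 := by decide +kernel

theorem bigCount11 : (bigReps11.countP fun K => decide (dotK K K = 64)) = 108 := by decide +kernel

theorem bigCount12 : (bigReps12.countP fun K => decide (dotK K K = 64)) = 100 := by decide +kernel

theorem bigCount13 : (bigReps13.countP fun K => decide (dotK K K = 64)) = 100 := by decide +kernel

theorem bigCount14 : (bigReps14.countP fun K => decide (dotK K K = 64)) = 116 := by decide +kernel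

theorem bigCount15 : (bigReps15.countP fun K => decide (dotK K K = 64)) = 116 := by decide +kernel

theorem bigReps_count : (bigReps.countP fun K => decide (dotK K K = 64)) = 1701 := by
  simp only [bigReps, List.countP_append, bigCount0, bigCount1, bigCount2, bigCount3, bigCount4, bigCount5, bigCount6, bigCount7, bigCount8, bigCount9, bigCount10, bigCount11, bigCount12, bigCount13, bigCount14, bigCount15]

end Cfsg.Lib.Leech.MonsterSection
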