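import Cfsg.Agent.Leech.MonsterSection.OkBigReps
import Cfsg.Agent.Leech.MonsterSection.OkBigActs

/-!
# The checks for a central element of order 3
-/

set_option autoImplicit false
set_option maxRecDepth 100000
set_option Elab.async false

namespace Cfsg.Lib.Leech.MonsterSection

open Cfsg Cfsg.Lib.Golay Cfsg.Lib.Leech Stab
open Cfsg.Lib.PermCert (topGens)

theorem sqNorm_dec (K : ℕ) : Cfsg.sqNorm (dec K) = dotK K K := by
  rw [dotK_eq]; simp [Cfsg.sqNorm, dotInt, pow_two]

theorem bigLin_blocks : ∀ i < 16, ∀ r < 256,
    linK ((List.range bigD.m).map (2 ^ ·)) (256 * i + r) bigD.m = 256 * i + r := by decide +kernel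

theorem bigCls : ClsOK bigD where
  perm := by decide +kernel
  bs_ok := by decide +kernel
  bs_fix := by decide +kernel
  ws_ok := by decide +kernel
  unit := by decide +kernel
  lin_unit := fun c hc => of_blocks (p := fun c => linK ((List.range bigD.m).map (2 ^ ·)) c bigD.m = c)
    bigLin_blocks c hc
  head := by decide +kernel
  ident := by decide +kernel
  reps_ok := bigReps_ok
  ord := by decide +kernel

theorem bigA_len : bigA.length = 144 := by decide +kernel

theorem bigLayers_len : bigLayers.length = 7 := by decide +kernel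

theorem bigHeadCa : ∀ a < 24,
    (bigD.ca.any fun g => PermCert.ap g.1 ((bigD.levs.head?.elim [] Lev.cyc).getD 0 0) == a) = true ∨
    (dfsFrom bigD.sig.1 bigD.levs [a]).isEmpty = true := by
  decide +kernel

theorem bigHeadCp : ((dfsFrom bigD.sig.1 bigD.levs [(bigD.levs.head?.elim [] Lev.cyc).getD 0 0]).all fun l =>
    bigD.cp.any fun q => (List.range 24).map (PermCert.ap q.1) == l) = true := by
  decide +kernel

set_option maxHeartbeats 2000000 in
theorem bigBOK : BigOK bigD bigB where
  words := by decide +kernel
  acts := by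
    refine List.all_eq_true.mpr fun a ha => ?_
    obtain ⟨c, hc, rfl⟩ := List.getElem_of_mem (show a ∈ bigA from ha)
    have hc' : c < 144 := bigA_len ▸ hc
    have h := List.all_eq_true.mp (bigAct_chunks (c / 8) (by omega)) bigA[c] ?_
    · exact h
    · refine List.mem_iff_getElem.mpr ⟨c % 8, ?_, ?_⟩
      · rw [List.length_take, List.length_drop, bigA_len]; omega
      · rw [List.getElem_take, List.getElem_drop]
        simp only [Nat.div_add_mod]
        rfl
  base := by decide +kernel
  sel := by decide +kernel
  layers := fun j hj c hc h => by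
    have hj' : j < 7 := bigLayers_len ▸ hj
    have h2 := of_blocks (k := 16) (w := 256) (p := fun c => (!(bigLayers.getD j 0).testBit c ||
      if j = 0 then decide (c = bigD.c0) else
        bigSel.any fun g => (bigLayers.getD (j - 1) 0).testBit (linK (bigB.act g).2.1 c bigD.m)) = true)
      (fun i hi r hr => List.all_eq_true.mp (List.all_eq_true.mp (bigLayer_chunks j hj') i (List.mem_range.mpr hi)) r
        (List.mem_range.mpr hr))
      c hc
    rw [show (bigLayers.getD j 0).testBit c = true from h, Bool.not_true, Bool.false_or] at h2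
    rcases Nat.eq_zero_or_pos j with hj0 | hj0
    · rw [if_pos hj0] at h2 ⊢; simpa using h2
    · rw [if_neg (Nat.ne_of_gt hj0)] at h2 ⊢; exact h2
  cover := fun c hc hn => by
    have h := of_chunks (p := fun K i => !decide (dotK K K = 64) ||
      (List.range 7).any fun j => (bigLayers.getD j 0).testBit i) 0 bigReps_len bigCover_chunks c hc
    rw [sqNorm_dec] at hn
    simp only [show bigReps.getD c 0 = bigD.reps.getD c 0 from rfl, hn, decide_true, Bool.not_true, Bool.false_or,
      List.any_eq_true, List.mem_range] at h
    obtain ⟨j, hj, hjc⟩ := h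
    exact ⟨j, by show j < bigLayers.length; rw [bigLayers_len]; exact hj, hjc⟩
  levs := by decide +kernel
  head_ca := bigHeadCa
  head_cp := bigHeadCp
  fc_ok := by decide +kernel
  chain := by decide +kernel
  tri_ok := by decide +kernel
  slp := by decide +kernel
  omega := by decide +kernel
  count := by
    rw [show 2 ^ bigD.m = bigD.reps.length from bigReps_len.symm,
      card_filter_getD bigD.reps 0 fun K => Cfsg.sqNorm (dec K) = 64]
    simp only [sqNorm_dec]
    rw [show bigD.reps = bigReps from rfl, bigReps_count]
    decide +kernel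
  prime := by show Nat.Prime 3; norm_num
  moved := by decide +kernel

theorem bigGram_ok : (∀ i < bigD.m, bigGram.getD i 0 < 2 ^ bigD.m ∧ ∀ j < bigD.m,
    decide (dotInt (dec (bigD.bs.getD i 0)) (dec (bigD.bs.getD j 0)) / 8 % 2 = 1) = (bigGram.getD i 0).testBit j) ∧
    (∀ j < bigD.m, ∀ p, bigD.vecZ (2 ^ j) bigD.m p = dec (bigD.bs.getD j 0) p) ∧
    ∀ i < 16, ∀ r < 256, 256 * i + r ≠ 0 → linK bigGram (256 * i + r) bigD.m ≠ 0 := by
  decide +kernel

theorem bigNondeg : NondegOK bigD :=
  nondeg_of_gram bigCls bigGram bigGram_ok.1 bigGram_ok.2.1 fun c hc =>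
    of_blocks (p := fun c => c ≠ 0 → linK bigGram c bigD.m ≠ 0) bigGram_ok.2.2 c hc

end Cfsg.Lib.Leech.MonsterSection
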