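import Cfsg.Agent.Leech.MonsterSection.BigTools
import Cfsg.Agent.Leech.MonsterSection.DataBig

/-!
# The checks on the representatives
-/

set_option autoImplicit false
set_option maxRecDepth 100000
set_option Elab.async false

namespace Cfsg.Lib.Leech.MonsterSection

open Cfsg Cfsg.Lib.Golay Cfsg.Lib.Leech Stab
open Cfsg.Lib.PermCert (topGens)

theorem bigRep0 : ((((bigReps.zip bigCoef).drop (256 * 0)).take 256).zipIdx.all fun e =>
    repK bigD bigGramZ bigOrigin e.1.2 e.1.1 (256 * 0 + e.2)) = true := by decide +kernel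

theorem bigRep1 : ((((bigReps.zip bigCoef).drop (256 * 1)).take 256).zipIdx.all fun e =>
    repK bigD bigGramZ bigOrigin e.1.2 e.1.1 (256 * 1 + e.2)) = true := by decide +kernel

theorem bigRep2 : ((((bigReps.zip bigCoef).drop (256 * 2)).take 256).zipIdx.all fun e =>
    repK bigD bigGramZ bigOrigin e.1.2 e.1.1 (256 * 2 + e.2)) = true := by decide +kernel

theorem bigRep3 : ((((bigReps.zip bigCoef).drop (256 * 3)).take 256).zipIdx.all fun e =>
    repK bigD bigGramZ bigOrigin e.1.2 e.1.1 (256 * 3 + e.2)) = true := by decide +kernel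

theorem bigRep4 : ((((bigReps.zip bigCoef).drop (256 * 4)).take 256).zipIdx.all fun e =>
    repK bigD bigGramZ bigOrigin e.1.2 e.1.1 (256 * 4 + e.2)) = true := by decide +kernel

theorem bigRep5 : ((((bigReps.zip bigCoef).drop (256 * 5)).take 256).zipIdx.all fun e =>
    repK bigD bigGramZ bigOrigin e.1.2 e.1.1 (256 * 5 + e.2)) = true := by decide +kernel

theorem bigRep6 : ((((bigReps.zip bigCoef).drop (256 * 6)).take 256).zipIdx.all fun e =>
    repK bigD bigGramZ bigOrigin e.1.2 e.1.1 (256 * 6 + e.2)) = true := by decide +kernel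

theorem bigRep7 : ((((bigReps.zip bigCoef).drop (256 * 7)).take 256).zipIdx.all fun e =>
    repK bigD bigGramZ bigOrigin e.1.2 e.1.1 (256 * 7 + e.2)) = true := by decide +kernel

theorem bigRep8 : ((((bigReps.zip bigCoef).drop (256 * 8)).take 256).zipIdx.all fun e =>
    repK bigD bigGramZ bigOrigin e.1.2 e.1.1 (256 * 8 + e.2)) = true := by decide +kernel

theorem bigRep9 : ((((bigReps.zip bigCoef).drop (256 * 9)).take 256).zipIdx.all fun e =>
    repK bigD bigGramZ bigOrigin e.1.2 e.1.1 (256 * 9 + e.2)) = true := by decide +kernel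

theorem bigRep10 : ((((bigReps.zip bigCoef).drop (256 * 10)).take 256).zipIdx.all fun e =>
    repK bigD bigGramZ bigOrigin e.1.2 e.1.1 (256 * 10 + e.2)) = true := by decide +kernel

theorem bigRep11 : ((((bigReps.zip bigCoef).drop (256 * 11)).take 256).zipIdx.all fun e =>
    repK bigD bigGramZ bigOrigin e.1.2 e.1.1 (256 * 11 + e.2)) = true := by decide +kernel

theorem bigRep12 : ((((bigReps.zip bigCoef).drop (256 * 12)).take 256).zipIdx.all fun e =>
    repK bigD bigGramZ bigOrigin e.1.2 e.1.1 (256 * 12 + e.2)) = true := by decide +kernel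

theorem bigRep13 : ((((bigReps.zip bigCoef).drop (256 * 13)).take 256).zipIdx.all fun e =>
    repK bigD bigGramZ bigOrigin e.1.2 e.1.1 (256 * 13 + e.2)) = true := by decide +kernel

theorem bigRep14 : ((((bigReps.zip bigCoef).drop (256 * 14)).take 256).zipIdx.all fun e =>
    repK bigD bigGramZ bigOrigin e.1.2 e.1.1 (256 * 14 + e.2)) = true := by decide +kernel

theorem bigRep15 : ((((bigReps.zip bigCoef).drop (256 * 15)).take 256).zipIdx.all fun e =>
    repK bigD bigGramZ bigOrigin e.1.2 e.1.1 (256 * 15 + e.2)) = true := by decide +kernel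

theorem bigRep_chunks : ∀ i < 16, ((((bigReps.zip bigCoef).drop (256 * i)).take 256).zipIdx.all fun e =>
    repK bigD bigGramZ bigOrigin e.1.2 e.1.1 (256 * i + e.2)) = true := by
  intro i hi
  interval_cases i
  · exact bigRep0
  · exact bigRep1
  · exact bigRep2
  · exact bigRep3
  · exact bigRep4
  · exact bigRep5
  · exact bigRep6
  · exact bigRep7
  · exact bigRep8
  · exact bigRep9
  · exact bigRep10
  · exact bigRep11
  · exact bigRep12
  · exact bigRep13
  · exact bigRep14
  · exact bigRep15

theorem bigZip_len : (bigReps.zip bigCoef).length = 16 * 256 := by decide +kernel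

theorem bigReps_len : bigReps.length = 16 * 256 := by decide +kernel

theorem bigRep_basis : (∀ j < bigD.m, inL (dec (bigD.bs.getD j 0)) = true ∧
    packK (cv (bigD.bs.getD j 0)) 24 = bigD.bs.getD j 0) ∧
    (∀ j < bigD.m, ∀ l < bigD.m, (bigGramZ.getD j []).getD l 0 = dotK (bigD.bs.getD j 0) (bigD.bs.getD l 0)) ∧
    bigOrigin = ∑ i ∈ Finset.range 24, 16 * 32 ^ i := by decide +kernel

theorem bigPow : 2 ^ bigD.m = 16 * 256 := by decide +kernel

theorem bigD_reps : bigD.reps = bigReps := rfl

attribute [local irreducible] bigReps bigCoef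

theorem bigReps_ok : ∀ c < 2 ^ bigD.m, dec (bigD.reps.getD c 0) ∈ leechLattice ∧
    Cfsg.sqNorm (dec (bigD.reps.getD c 0)) ≤ 64 ∧
    ∃ w : leechLattice, (fun p => dec (bigD.reps.getD c 0) p - bigD.vecZ c bigD.m p) = (2 : ℤ) • (w : GolayPt → ℤ) :=
  reps_of_chunks (D := bigD) (G := bigGramZ) (o := bigOrigin) bigRep_basis.2.2 bigRep_basis.1 bigRep_basis.2.1
    (L := bigReps) (L' := bigCoef) bigD_reps bigZip_len bigPow bigRep_chunks

end Cfsg.Lib.Leech.MonsterSection
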