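import Cfsg.Agent.Golay.Elements
import Cfsg.Agent.Golay.OctInv

/-!
# The centre of a Sylow 3-subgroup of the group of the code
-/

set_option autoImplicit false
set_option maxRecDepth 100000

namespace Cfsg.Lib.Leech.MonsterSection

open Cfsg Cfsg.Lib.Golay Cfsg.Lib.PermCert

/-- A central element of the Sylow 3-subgroup with six fixed points. -/
def triC : PP := (8417378446359460738428373931133995711926151764510298417183376203676157505588072475260884503804295132966429917186, 3006336336348469213301570473344671824706591366265691725161876170472168356687903104389515110806323818689502248961)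

theorem triC_ok : valid 24 triC = true ∧ sift 24 cgSyl3.chain [triC] = true ∧ nfix triC = 6 ∧
    (cgSyl3.gens.all fun g => preserves g.1 && (List.range 24).all fun i =>
      ap triC.1 (ap g.1.1 i) == ap g.1.1 (ap triC.1 i)) = true ∧ size cgSyl3.chain = 27 ∧
    (List.range 24).all (fun i => ap triC.1 (ap triC.1 (ap triC.1 i)) == i) = true := by
  decide +kernel

/-- An element of order 3 with six fixed points is central in some subgroup of order 27. -/
theorem six_central {x : Equiv.Perm GolayPt} (hx : x ∈ M24) (h3 : orderOf x = 3) (h6 : fixCard x = 6) :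
    ∃ P : Subgroup (Equiv.Perm GolayPt), P ≤ M24 ∧ Nat.card P = 27 ∧ x ∈ P ∧ ∀ p ∈ P, p * x = x * p := by
  obtain ⟨hv, hs, hn, hg, hsz, hcube⟩ := triC_ok
  simp only [List.all_eq_true, Bool.and_eq_true, List.mem_range, beq_iff_eq] at hg hcube
  set c := toP triC with hc
  set P0 := cgSyl3.grp with hP0
  have hcP : c ∈ P0 := mem_of_sift cgSyl3_ok hv hs
  have hle : P0 ≤ M24 := by
    rw [hP0, ← (CG.ok_spec cgSyl3_ok).2.2, Subgroup.closure_le]
    rintro _ ⟨g, hgm, rfl⟩
    exact toP_mem_M24 (hg g hgm).1
  have hcc : ∀ p ∈ P0, p * c = c * p := by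
    intro p hp
    have : P0 ≤ Subgroup.centralizer {c} := by
      rw [hP0, ← (CG.ok_spec cgSyl3_ok).2.2, Subgroup.closure_le]
      rintro _ ⟨g, hgm, rfl⟩
      refine Subgroup.mem_centralizer_singleton_iff.mpr (Equiv.ext fun q => pidx_injective ?_)
      have hgv : valid 24 g.1 = true := by
        have := (hg g hgm).1
        simp only [preserves, Bool.and_eq_true] at this
        exact this.1
      show pidx (toP g.1 (toP triC q)) = pidx (toP triC (toP g.1 q))
      rw [pidx_toP hgv, pidx_toP hv, pidx_toP hv, pidx_toP hgv]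
      exact ((hg g hgm).2 _ (pidx_lt q)).symm
    exact Subgroup.mem_centralizer_singleton_iff.mp (this hp)
  have hc3 : orderOf c = 3 := by
    haveI : Fact (Nat.Prime 3) := ⟨Nat.prime_three⟩
    refine orderOf_eq_prime (Equiv.ext fun q => pidx_injective ?_) fun e => ?_
    · show pidx (toP triC (toP triC (toP triC q))) = pidx q
      rw [pidx_toP hv, pidx_toP hv, pidx_toP hv, hcube _ (pidx_lt q)]
    · have h := (fixCard_toP hv).trans hn
      rw [← hc, e] at h
      simp [fixCard] at h
  have hc6 : fixCard c = 6 := (fixCard_toP hv).trans hn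
  obtain ⟨g, hgM, hg'⟩ := three_classes hx h3
  obtain ⟨t, htM, ht'⟩ := three_classes (hle hcP) hc3
  have e1 := (hg'.resolve_right fun h => by omega).1
  have e2 := (ht'.resolve_right fun h => by omega).1
  set u := g * t⁻¹ with hu
  have exu : x = u * c * u⁻¹ := by rw [e1, e2, hu]; group
  refine ⟨P0.map (MulAut.conj u).toMonoidHom, ?_, ?_, ⟨c, hcP, exu.symm⟩, ?_⟩
  · rintro _ ⟨p, hp, rfl⟩
    exact mul_mem (mul_mem (mul_mem hgM (inv_mem htM)) (hle hp)) (inv_mem (mul_mem hgM (inv_mem htM)))
  · rw [Subgroup.card_map_of_injective (MulAut.conj u).injective, hP0, CG.card_grp cgSyl3_ok, hsz]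
  · rintro _ ⟨p, hp, rfl⟩
    show u * p * u⁻¹ * x = x * (u * p * u⁻¹)
    rw [exu]
    calc u * p * u⁻¹ * (u * c * u⁻¹) = u * (p * c) * u⁻¹ := by group
      _ = u * (c * p) * u⁻¹ := by rw [hcc p hp]
      _ = _ := by group

end Cfsg.Lib.Leech.MonsterSection
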