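import Cfsg.Agent.Leech.MonsterStab
import Cfsg.Agent.Leech.MonsterSection.Hom
import Cfsg.Agent.Leech.MonsterSection.Six
import Cfsg.Agent.Golay.M24

/-!
# Elements of odd prime order in the centraliser of a pair of commuting conjugates

Every such element is, over a suitable frame, exactly a permutation of the code; any two with the same permutation are
conjugate.
-/

set_option autoImplicit false
set_option linter.style.haveILetI false
set_option linter.unusedSectionVars false

namespace Cfsg.Lib.Leech.MonsterSection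

open Cfsg Cfsg.Lib.Golay Cfsg.Lib.Leech Stab
open scoped commutatorElement

/-- In a fibre over an element of odd prime order with a 2-group kernel all such elements are conjugate. -/
theorem conj_in_fibre {H K : Type*} [Group H] [Group K] [Finite H] (f : H →* K) (hker : IsPGroup 2 f.ker) {r : ℕ}
    (hr : r.Prime) (hodd : Odd r) {b b1 : H} (hb : orderOf b = r) (hb1 : orderOf b1 = r) (h : f b1 = f b) :
    ∃ q ∈ f.ker, q * b1 * q⁻¹ = b := by
  classical
  haveI := Fact.mk hr
  set T := (Subgroup.zpowers (f b)).comap f with hT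
  have hfb : f b ≠ 1 := fun e => by
    obtain ⟨k, hk⟩ := hker ⟨b, e⟩
    have h1 : r ∣ 2 ^ k := hb ▸ orderOf_dvd_of_pow_eq_one (congrArg Subtype.val hk)
    obtain ⟨t, ht⟩ := hodd
    have := Nat.le_of_dvd two_pos (hr.dvd_of_dvd_pow h1)
    have := hr.two_le
    omega
  have hfo : orderOf (f b) = r :=
    (Nat.dvd_prime hr).mp (hb ▸ orderOf_map_dvd f b) |>.resolve_left fun e => hfb (orderOf_eq_one_iff.mp e)
  have hbT : b ∈ T := Subgroup.mem_zpowers (f b)
  have hb1T : b1 ∈ T := by rw [hT, Subgroup.mem_comap, h]; exact Subgroup.mem_zpowers _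
  obtain ⟨n, hn⟩ := hker.exists_card_eq
  let φ : T →* K := f.comp T.subtype
  have hrange : φ.range = Subgroup.zpowers (f b) := by
    refine le_antisymm ?_ (Subgroup.zpowers_le.mpr ⟨⟨b, hbT⟩, rfl⟩)
    rintro _ ⟨t, rfl⟩
    exact t.2
  have hkc : Nat.card φ.ker = Nat.card f.ker :=
    Nat.card_congr ⟨fun t => ⟨t.1.1, t.2⟩, fun t => ⟨⟨t.1, by
      show f t.1 ∈ Subgroup.zpowers (f b)
      rw [show f t.1 = 1 from t.2]; exact one_mem _⟩, t.2⟩, fun _ => rfl, fun _ => rfl⟩
  have hcard : Nat.card T = 2 ^ n * r := by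
    have h1 := φ.ker.card_mul_index
    rw [Subgroup.index_ker, hrange, Nat.card_zpowers, hfo, hkc, hn] at h1
    exact h1.symm
  have hfac : (Nat.card T).factorization r = 1 := by
    rw [hcard, Nat.factorization_mul (pow_ne_zero _ (by norm_num)) hr.ne_zero, Nat.factorization_pow,
      Finsupp.add_apply, Finsupp.smul_apply, hr.factorization_self,
      Nat.factorization_eq_zero_of_not_dvd (fun h2 => by
        have := Nat.le_of_dvd two_pos h2
        obtain ⟨t, ht⟩ := hodd
        have := hr.two_le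
        omega)]
    simp
  have hc : ∀ c : H, orderOf c = r → ∀ hc : c ∈ T,
      Nat.card (Subgroup.zpowers (⟨c, hc⟩ : T)) = r ^ (Nat.card T).factorization r := fun c h1 h2 => by
    rw [Nat.card_zpowers, Subgroup.orderOf_mk, h1, hfac, pow_one]
  obtain ⟨t, ht⟩ := MulAction.exists_smul_eq T (Sylow.ofCard _ (hc b1 hb1 hb1T)) (Sylow.ofCard _ (hc b hb hbT))
  have h1 : t * ⟨b1, hb1T⟩ * t⁻¹ ∈ (Sylow.ofCard _ (hc b hb hbT) : Subgroup T) := by
    rw [← ht, Sylow.coe_subgroup_smul]
    exact ⟨⟨b1, hb1T⟩, Subgroup.mem_zpowers _, rfl⟩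
  obtain ⟨i, hi⟩ : ∃ i : ℤ, b ^ i = (t : H) * b1 * (t : H)⁻¹ := by
    obtain ⟨i, hi⟩ := Subgroup.mem_zpowers_iff.mp h1
    exact ⟨i, by simpa using congrArg Subtype.val hi⟩
  obtain ⟨j, hj⟩ := Subgroup.mem_zpowers_iff.mp t.2
  have hone : f b ^ i = f b := by
    have := congrArg f hi
    rw [map_zpow, map_mul, map_mul, map_inv, h, ← hj] at this
    rw [this]; group
  have hbi : b ^ i = b := by
    have h2 : f b ^ (i - 1) = 1 := by rw [zpow_sub_one, hone, mul_inv_cancel]
    have h3 : b ^ (i - 1) = 1 := by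
      rw [← orderOf_dvd_iff_zpow_eq_one] at h2 ⊢
      rwa [hb, ← hfo]
    rw [zpow_sub_one, mul_inv_eq_one] at h3
    exact h3
  refine ⟨b ^ (-j) * t, ?_, ?_⟩
  · show f (b ^ (-j) * t) = 1
    rw [map_mul, map_zpow, ← hj]; group
  · calc b ^ (-j) * (t : H) * b1 * (b ^ (-j) * (t : H))⁻¹ = b ^ (-j) * ((t : H) * b1 * (t : H)⁻¹) * (b ^ (-j))⁻¹ := by
          group
      _ = b ^ (-j) * b * (b ^ (-j))⁻¹ := by rw [← hi, hbi]
      _ = b := by group

theorem pow_order_map {H K : Type*} [Group H] [Group K] (f : H →* K) (hker : IsPGroup 2 f.ker) {r : ℕ}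
    (hr : r.Prime) (hodd : Odd r) {b : H} (hb : orderOf b = r) : orderOf (f b) = r := by
  refine (Nat.dvd_prime hr).mp (hb ▸ orderOf_map_dvd f b) |>.resolve_left fun e => ?_
  obtain ⟨k, hk⟩ := hker ⟨b, orderOf_eq_one_iff.mp e⟩
  have h1 : r ∣ 2 ^ k := hb ▸ orderOf_dvd_of_pow_eq_one (congrArg Subtype.val hk)
  obtain ⟨t, ht⟩ := hodd
  have := Nat.le_of_dvd two_pos (hr.dvd_of_dvd_pow h1)
  have := hr.two_le
  omega

/-! ### The permutation part of a monomial automorphism -/

theorem exists_perm {g : Co0} (hg : g ∈ monoGroup) :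
    ∃ σ : M24, ∀ i, ∃ s : Bool, g • e8 i = if s then -e8 ((σ : Equiv.Perm GolayPt) i) else e8 ((σ : Equiv.Perm GolayPt) i) := by
  have hf : FixesFrame g := by rw [← SetLike.mem_coe, coe_monoGroup] at hg; exact hg
  obtain ⟨σ, c, hσ, hc, rfl⟩ := frame_is_monomial hf
  exact ⟨⟨σ, hσ⟩, fun i => ⟨decide (σ i ∈ c), mono_e8 hσ hc i⟩⟩

/-- The permutation part. -/
noncomputable def permPart : monoGroup →* M24 :=
  MonoidHom.mk' (fun g => (exists_perm g.2).choose) fun g h => by
    refine Subtype.ext (Equiv.ext fun i => ?_)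
    obtain ⟨s, hs⟩ := (exists_perm (g * h).2).choose_spec i
    obtain ⟨t, ht⟩ := (exists_perm h.2).choose_spec i
    obtain ⟨u, hu⟩ := (exists_perm g.2).choose_spec (((exists_perm h.2).choose : Equiv.Perm GolayPt) i)
    have hs' : (g : Co0) • ((h : Co0) • e8 i) = _ := (mul_smul _ _ _).symm.trans hs
    rw [ht] at hs'
    cases t
    · simp only [Bool.false_eq_true, if_false, hu] at hs'
      exact (e8_pos hs').symm
    · simp only [if_true, smul_neg', hu] at hs'
      refine (e8_pos (s := !u) (Eq.trans ?_ hs')).symm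
      cases u <;> simp

theorem permPart_eq {g : monoGroup} {σ : Equiv.Perm GolayPt} {i : GolayPt} {s : Bool}
    (h : (g : Co0) • e8 i = if s then -e8 (σ i) else e8 (σ i)) : (permPart g : Equiv.Perm GolayPt) i = σ i := by
  obtain ⟨t, ht⟩ := (exists_perm g.2).choose_spec i
  exact e8_pos (ht.symm.trans h)

theorem permPart_mono {σ : Equiv.Perm GolayPt} {c : Finset GolayPt} (hσ : σ ∈ M24) (hc : c ∈ code)
    (h : mono hσ hc ∈ monoGroup) : (permPart ⟨mono hσ hc, h⟩ : Equiv.Perm GolayPt) = σ :=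
  Equiv.ext fun i => permPart_eq (g := ⟨mono hσ hc, h⟩) (mono_e8 hσ hc i)

theorem permPart_sq {g : monoGroup} (h : permPart g = 1) : (g : Co0) * g = 1 := by
  refine Mult.co0_ext_e8 fun i => ?_
  obtain ⟨s, hs⟩ := (exists_perm g.2).choose_spec i
  have h1 : ((exists_perm g.2).choose : Equiv.Perm GolayPt) = 1 := congrArg Subtype.val h
  simp only [h1, Equiv.Perm.one_apply] at hs
  rw [mul_smul, hs, one_smul]
  cases s <;> simp [hs, smul_neg']

theorem permPart_ker : IsPGroup 2 permPart.ker := fun g =>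
  ⟨1, Subtype.ext (Subtype.ext (by simpa [pow_two] using permPart_sq g.2))⟩

theorem negOne_mem_mono : negOne ∈ monoGroup := mono_mem_monoGroup _ univ_mem_code

theorem permPart_negOne : permPart ⟨negOne, negOne_mem_mono⟩ = 1 :=
  Subtype.ext (Equiv.ext fun i => permPart_eq (s := true) (σ := 1) (by simp [negOne_apply]))

variable {D : Data}

theorem x_mem_mono (hD : ClsOK D) : D.x ∈ monoGroup := by
  rw [Data.x, Data.xw, el_perm hD.perm]; exact mono_mem_monoGroup _ empty_mem_code

theorem permPart_x (hD : ClsOK D) : (permPart ⟨D.x, x_mem_mono hD⟩ : Equiv.Perm GolayPt) = toP D.sig :=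
  Equiv.ext fun i => permPart_eq (g := ⟨D.x, x_mem_mono hD⟩) (s := false) (by rw [x_e8 hD]; rfl)

/-! ### In the group of Monster type -/

variable {G : Type*} [Group G] [Finite G] {z : G} {Q : Subgroup (Subgroup.centralizer ({z} : Set G))} [Q.Normal]
  {e : (Subgroup.centralizer ({z} : Set G)) ⧸ Q ≃* Spor.Co1} {ψ : leechLattice → Q ⧸ Subgroup.center Q}

/-- The centraliser of an element of `Q`, inside the centraliser. -/
def CQa (a : Q) : Subgroup (Subgroup.centralizer ({z} : Set G)) :=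
  Subgroup.centralizer {(a : Subgroup.centralizer ({z} : Set G))}

theorem mem_CQa {a : Q} {u : Subgroup.centralizer ({z} : Set G)} :
    u ∈ CQa a ↔ u * a = a * u := Subgroup.mem_centralizer_singleton_iff

/-- A standard element over a fused involution. -/
def Std (D : Data) (e : (Subgroup.centralizer ({z} : Set G)) ⧸ Q ≃* Spor.Co1)
    (ψ : leechLattice → Q ⧸ Subgroup.center Q) (a : Q) (b : Subgroup.centralizer ({z} : Set G)) : Prop :=
  ∃ k : Co0, ψ (k • e8 pN) = QuotientGroup.mk a ∧ Img e k D.x b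

theorem img_neg {k g : Co0} {u : Subgroup.centralizer ({z} : Set G)} (h : Img e k g u) : Img e k (negOne * g) u := by
  unfold Img at h ⊢
  rw [h, QuotientGroup.eq, show (k * g * k⁻¹)⁻¹ * (k * (negOne * g) * k⁻¹) = k * (g⁻¹ * negOne * g) * k⁻¹ by group,
    mul_assoc g⁻¹, negOne_comm g, inv_mul_cancel_left, ← negOne_comm k, mul_inv_cancel_right]
  exact Subgroup.mem_center_iff.mpr fun t => (negOne_comm t).symm

theorem img_center {k g g' : Co0} {u : Subgroup.centralizer ({z} : Set G)} (h : Img e k g u) (h' : Img e k g' u) :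
    g' = g ∨ g' = negOne * g := by
  unfold Img at h h'
  have h1 := QuotientGroup.eq.mp (h.symm.trans h')
  rw [show (k * g * k⁻¹)⁻¹ * (k * g' * k⁻¹) = k * (g⁻¹ * g') * k⁻¹ by group] at h1
  have h2 := (inferInstance : (Subgroup.center Co0).Normal).conj_mem _ h1 k⁻¹
  rw [show k⁻¹ * (k * (g⁻¹ * g') * k⁻¹) * k⁻¹⁻¹ = g⁻¹ * g' by group] at h2
  rcases center_cases h2 with e1 | e1
  · exact Or.inl (inv_mul_eq_one.mp e1).symm
  · exact Or.inr (by rw [negOne_comm, ← e1, mul_inv_cancel_left])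

theorem psi_mono (hψ : IsLeechModTwoIso Q e ψ) {k μ : Co0} (hμ : μ ∈ monoGroup) :
    ψ ((k * μ) • e8 pN) = ψ (k • e8 pN) := by
  rw [mul_smul]; exact mono_fix hψ hμ

variable (hw : IsExtraspecialCentralizerSetting z Q 12) (hψ : IsLeechModTwoIso Q e ψ)
variable {a : Q} (ha : a ∉ Subgroup.center Q) {k : Co0} (hv : ψ (k • e8 pN) = QuotientGroup.mk a)

include hψ hv in
theorem img_mono {u : Subgroup.centralizer ({z} : Set G)} (hu : u ∈ CQa a) {g : Co0} (hg : Img e k g u) :
    g ∈ monoGroup := by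
  refine monoGroup_iff.mpr ((psi_smul_eq_iff hψ k).mp ?_)
  rw [img_class hψ hg hv, hv]
  congr 1
  exact Subtype.ext (mul_inv_eq_iff_eq_mul.mpr (mem_CQa.mp hu))

/-- The map to the permutations. -/
noncomputable def theta (e : (Subgroup.centralizer ({z} : Set G)) ⧸ Q ≃* Spor.Co1) (hψ : IsLeechModTwoIso Q e ψ)
    {a : Q} {k : Co0} (hv : ψ (k • e8 pN) = QuotientGroup.mk a) : CQa a →* M24 :=
  MonoidHom.mk' (fun u => permPart ⟨(img_exists (e := e) k u.1).choose,
    img_mono hψ hv u.2 (img_exists (e := e) k u.1).choose_spec⟩) fun u v => by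
    have h := img_mul (img_exists (e := e) k u.1).choose_spec (img_exists (e := e) k v.1).choose_spec
    rcases img_center h (img_exists (e := e) k (u * v).1).choose_spec with h1 | h1
    · rw [← map_mul]; exact congrArg permPart (Subtype.ext h1)
    · have h2 : (⟨_, img_mono hψ hv (u * v).2 (img_exists (e := e) k (u * v).1).choose_spec⟩ : monoGroup) =
          ⟨negOne, negOne_mem_mono⟩ * (⟨_, img_mono hψ hv u.2 (img_exists (e := e) k u.1).choose_spec⟩ *
            ⟨_, img_mono hψ hv v.2 (img_exists (e := e) k v.1).choose_spec⟩) := Subtype.ext h1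
      rw [h2, map_mul, permPart_negOne, one_mul, map_mul]

theorem theta_eq {u : CQa a} {g : monoGroup} (hg : Img e k g u.1) : theta e hψ hv u = permPart g := by
  show permPart _ = permPart g
  rcases img_center hg (img_exists (e := e) k u.1).choose_spec with h1 | h1
  · exact congrArg permPart (Subtype.ext h1)
  · rw [show (⟨_, img_mono hψ hv u.2 (img_exists (e := e) k u.1).choose_spec⟩ : monoGroup) =
      ⟨negOne, negOne_mem_mono⟩ * g from Subtype.ext h1, map_mul, permPart_negOne, one_mul]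

include hw ha in
theorem theta_surjective : Function.Surjective (theta e hψ hv) := fun σ => by
  have hm : mono σ.2 empty_mem_code ∈ monoGroup := mono_mem_monoGroup σ.2 empty_mem_code
  obtain ⟨x, hx, hxa⟩ := lift_stab hw hψ ha hv (mono_fix hψ hm)
  refine ⟨⟨x, mem_CQa.mpr (mul_inv_eq_iff_eq_mul.mp hxa)⟩, ?_⟩
  rw [theta_eq hψ hv (g := ⟨_, hm⟩) hx]
  exact Subtype.ext (permPart_mono σ.2 empty_mem_code hm)

include hw in
theorem theta_ker : IsPGroup 2 (theta e hψ hv).ker := by
  rintro ⟨u, hu⟩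
  set g : monoGroup := ⟨_, img_mono hψ hv u.2 (img_exists (e := e) k u.1).choose_spec⟩
  have hg : Img e k g u.1 := (img_exists (e := e) k u.1).choose_spec
  have h1 : u.1 * u.1 ∈ Q := (img_mem_iff (img_mul hg hg)).mpr (by
    rw [permPart_sq (g := g) hu]; exact one_mem _)
  obtain ⟨n, hn⟩ := hw.2.2.1.1.1 ⟨_, h1⟩
  refine ⟨n + 1, Subtype.ext (Subtype.ext ?_)⟩
  have h2 := congrArg Subtype.val hn
  simp only [SubmonoidClass.coe_pow, OneMemClass.coe_one] at h2
  show u.1 ^ 2 ^ (n + 1) = 1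
  rw [pow_succ', pow_mul, pow_two]
  exact h2

include hw hψ ha hv in
theorem card_CQa (r : ℕ) (hr : r.Prime) (hodd : Odd r) :
    (Nat.card (CQa a)).factorization r = (244823040 : ℕ).factorization r := by
  have h1 := (theta e hψ hv).ker.card_mul_index
  rw [Subgroup.index_ker, MonoidHom.range_eq_top.mpr (theta_surjective hw hψ ha hv), Subgroup.card_top, card_M24] at h1
  obtain ⟨n, hn⟩ := (theta_ker hw hψ hv).exists_card_eq
  rw [← h1, hn, Nat.factorization_mul (pow_ne_zero _ (by norm_num)) (by norm_num), Finsupp.add_apply,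
    Nat.factorization_pow, Finsupp.smul_apply, Nat.factorization_eq_zero_of_not_dvd (fun h2 => by
      have := Nat.le_of_dvd two_pos h2
      obtain ⟨t, ht⟩ := hodd
      have := hr.two_le
      omega), smul_zero, zero_add]

include hψ hv in
/-- An element whose permutation is conjugate to the standard one is standard. -/
theorem std_of (hw : IsExtraspecialCentralizerSetting z Q 12) (hD : ClsOK D) (hA : D.r.Prime) {b : CQa a} (hb : orderOf b = D.r) {τ : M24}
    (h : τ * theta e hψ hv b * τ⁻¹ = permPart ⟨D.x, x_mem_mono hD⟩) : Std D e ψ a b.1 := by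
  classical
  haveI : Finite Co0 := Nat.finite_of_card_ne_zero (by rw [card_co0]; norm_num)
  haveI := Fact.mk hA
  obtain ⟨g0, hg0⟩ := img_exists (e := e) k b.1
  have hm0 := img_mono hψ hv b.2 hg0
  obtain ⟨g, hg, hgm, hgr⟩ : ∃ g : Co0, Img e k g b.1 ∧ g ∈ monoGroup ∧ g ^ D.r = 1 := by
    have h1 : g0 ^ D.r ∈ Subgroup.center Co0 := (img_mem_iff (img_pow hg0 D.r)).mp (by
      rw [show (b.1 : Subgroup.centralizer ({z} : Set G)) ^ D.r = 1 by
        rw [← hb, ← Subgroup.orderOf_coe, pow_orderOf_eq_one]]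
      exact one_mem _)
    rcases center_cases h1 with e1 | e1
    · exact ⟨g0, hg0, hm0, e1⟩
    · refine ⟨negOne * g0, img_neg hg0, mul_mem negOne_mem_mono hm0, ?_⟩
      obtain ⟨j, hj⟩ := hD.ord.1
      rw [(Commute.mul_pow (negOne_comm g0)), e1, hj, pow_succ, pow_mul, pow_two, negOne_sq, one_pow, one_mul,
        negOne_sq]
  have hμ : mono τ.2 empty_mem_code ∈ monoGroup := mono_mem_monoGroup τ.2 empty_mem_code
  set μ : monoGroup := ⟨_, hμ⟩ with hμdef
  set g' : monoGroup := μ * ⟨g, hgm⟩ * μ⁻¹ with hg'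
  have hperm : permPart g' = permPart ⟨D.x, x_mem_mono hD⟩ := by
    rw [hg', map_mul, map_mul, map_inv, ← theta_eq hψ hv (g := ⟨g, hgm⟩) hg,
      show permPart μ = τ from Subtype.ext (permPart_mono τ.2 empty_mem_code hμ), h]
  have hx1 : orderOf (⟨D.x, x_mem_mono hD⟩ : monoGroup) = D.r := by
    refine orderOf_eq_prime (Subtype.ext (x_pow_r hD)) fun e1 => ?_
    have h2 := congrArg (fun t : M24 => τ⁻¹ * t * τ) h
    simp only [← mul_assoc, inv_mul_cancel, one_mul, inv_mul_cancel_right, mul_inv_cancel_right] at h2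
    have h3 : theta e hψ hv b = 1 := by
      rw [e1, map_one, mul_one, inv_mul_cancel] at h2; exact h2
    have h4 : g = 1 := by
      have h5 : permPart ⟨g, hgm⟩ = 1 := by rw [← theta_eq hψ hv (g := ⟨g, hgm⟩) hg]; exact h3
      obtain ⟨j, hj⟩ := hD.ord.1
      have h6 := permPart_sq h5
      rw [hj, pow_succ, pow_mul, pow_two, h6, one_pow, one_mul] at hgr
      exact hgr
    have h5 : (b.1 : Subgroup.centralizer ({z} : Set G)) ∈ Q := (img_mem_iff hg).mpr (h4 ▸ one_mem _)
    obtain ⟨n, hn⟩ := hw.2.2.1.1.1 ⟨_, h5⟩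
    have h7 : D.r ∣ 2 ^ n := by
      rw [← hb, ← Subgroup.orderOf_coe]
      exact orderOf_dvd_of_pow_eq_one (congrArg Subtype.val hn)
    have := Nat.le_of_dvd two_pos (hA.dvd_of_dvd_pow h7)
    obtain ⟨j, hj⟩ := hD.ord.1
    have := hD.ord.2.1
    omega
  have hg1 : orderOf g' = D.r := by
    refine orderOf_eq_prime ?_ fun e1 => ?_
    · rw [hg', conj_pow, show (⟨g, hgm⟩ : monoGroup) ^ D.r = 1 from Subtype.ext hgr, mul_one, mul_inv_cancel]
    · have h9 := pow_order_map permPart permPart_ker hA hD.ord.1 hx1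
      rw [← hperm, e1, map_one, orderOf_one] at h9
      exact hA.ne_one h9.symm
  obtain ⟨q, -, hq⟩ := conj_in_fibre permPart permPart_ker hA hD.ord.1 hx1 hg1 hperm
  refine ⟨k * ((q * μ : monoGroup) : Co0)⁻¹, by rw [psi_mono hψ (inv_mem (q * μ).2), hv], ?_⟩
  have e2 : ((q * μ : monoGroup) : Co0) * g * ((q * μ : monoGroup) : Co0)⁻¹ = D.x := by
    have := congrArg Subtype.val hq
    simp only [hg', Subgroup.coe_mul, Subgroup.coe_inv] at this ⊢
    rw [← this]; group
  unfold Img at hg ⊢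
  rw [hg, ← e2]
  congr 1
  group

include hw hψ ha in
/-- Two standard elements are conjugate. -/
theorem conj_of_std (hD : ClsOK D) (hA : D.r.Prime) {b b' : CQa a} (hb : orderOf b = D.r) (hb' : orderOf b' = D.r)
    (h : Std D e ψ a b.1) (h' : Std D e ψ a b'.1) : ∃ u : CQa a, u * b' * u⁻¹ = b := by
  obtain ⟨k1, hk1, hi1⟩ := h
  obtain ⟨k2, hk2, hi2⟩ := h'
  set μ := k1⁻¹ * k2 with hμ
  have hk : k2 = k1 * μ := by rw [hμ, mul_inv_cancel_left]
  have hm : μ ∈ monoGroup := by
    refine monoGroup_iff.mpr ((psi_smul_eq_iff hψ k1).mp ?_)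
    rw [← mul_smul, ← hk, hk2, hk1]
  obtain ⟨u0, hu0, hua⟩ := lift_stab hw hψ ha hk1 (mono_fix hψ (inv_mem hm))
  set u : CQa a := ⟨u0⁻¹, inv_mem (mem_CQa.mpr (mul_inv_eq_iff_eq_mul.mp hua))⟩ with hu
  set f : CQa a →* (Subgroup.centralizer ({z} : Set G)) ⧸ Q := (QuotientGroup.mk' Q).comp (CQa a).subtype
  have hker : IsPGroup 2 f.ker := by
    rintro ⟨v, hv⟩
    obtain ⟨n, hn⟩ := hw.2.2.1.1.1 ⟨v.1, (QuotientGroup.eq_one_iff _).mp hv⟩
    have h2 := congrArg Subtype.val hn
    simp only [SubmonoidClass.coe_pow, OneMemClass.coe_one] at h2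
    exact ⟨n, Subtype.ext (Subtype.ext h2)⟩
  set b1 := u⁻¹ * b' * u with hb1
  have hi3 : Img e k1 (μ * D.x * μ⁻¹) b'.1 := by
    unfold Img at hi2 ⊢
    exact hi2.trans (congrArg _ (show k2 * D.x * k2⁻¹ = k1 * (μ * D.x * μ⁻¹) * k1⁻¹ by rw [hμ]; group))
  have hi4 : Img e k1 D.x b1.1 := by
    have := img_conj hu0 hi3
    simpa [hb1, hu, mul_assoc] using this
  have hfe : f b1 = f b := by
    show (QuotientGroup.mk b1.1 : (Subgroup.centralizer ({z} : Set G)) ⧸ Q) = QuotientGroup.mk b.1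
    exact e.injective (hi4.trans hi1.symm)
  have ho : orderOf b1 = D.r := by
    rw [← hb', hb1]
    have h9 := orderOf_injective (MulAut.conj u⁻¹).toMonoidHom (MulAut.conj u⁻¹).injective b'
    simpa using h9
  obtain ⟨q, -, hq⟩ := conj_in_fibre f hker hA hD.ord.1 hb ho hfe
  exact ⟨q * u⁻¹, by rw [← hq, hb1]; group⟩

include hw hψ ha hv in
/-- With six fixed points the element is central in a subgroup of order 27. -/
theorem central_of_six {b : CQa a} (hb : orderOf b = 3)
    (h6 : fixCard (theta e hψ hv b : Equiv.Perm GolayPt) = 6) :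
    ∃ P : Subgroup (CQa a), Nat.card P = 27 ∧ b ∈ P ∧ ∀ p ∈ P, p * b = b * p := by
  classical
  haveI : Fact (Nat.Prime 3) := ⟨Nat.prime_three⟩
  set θ := theta e hψ hv
  have hker := theta_ker hw hψ hv
  have ho : orderOf (θ b) = 3 := pow_order_map θ hker Nat.prime_three (by decide) hb
  obtain ⟨P0, hP0, hc, hxP, hcen⟩ := six_central (θ b).2 (by rw [Subgroup.orderOf_coe]; exact ho) h6
  set S := (P0.subgroupOf M24).comap θ with hS
  have hcS : Nat.card S = Nat.card θ.ker * 27 := by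
    let φ : S →* M24 := θ.comp S.subtype
    have hr : φ.range = P0.subgroupOf M24 := by
      refine le_antisymm ?_ fun y hy => ?_
      · rintro _ ⟨t, rfl⟩; exact t.2
      · obtain ⟨t, rfl⟩ := theta_surjective hw hψ ha hv y
        exact ⟨⟨t, hy⟩, rfl⟩
    have hk : Nat.card φ.ker = Nat.card θ.ker :=
      Nat.card_congr ⟨fun t => ⟨t.1.1, t.2⟩, fun t => ⟨⟨t.1, by
        show θ t.1 ∈ P0.subgroupOf M24
        rw [show θ t.1 = 1 from t.2]; exact one_mem _⟩, t.2⟩, fun _ => rfl, fun _ => rfl⟩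
    have h1 := φ.ker.card_mul_index
    rw [Subgroup.index_ker, hr, Nat.card_congr (Subgroup.subgroupOfEquivOfLe hP0).toEquiv, hc, hk] at h1
    exact h1.symm
  obtain ⟨n, hn⟩ := hker.exists_card_eq
  have hfac : (Nat.card S).factorization 3 = 3 := by
    rw [hcS, hn, show (27 : ℕ) = 3 ^ 3 by norm_num, Nat.factorization_mul (pow_ne_zero _ (by norm_num))
      (by norm_num), Finsupp.add_apply, Nat.factorization_pow, Nat.factorization_pow, Finsupp.smul_apply,
      Finsupp.smul_apply, Nat.prime_three.factorization_self,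
      Nat.factorization_eq_zero_of_not_dvd (by norm_num : ¬ 3 ∣ 2)]
    rfl
  have hbS : b ∈ S := by show θ b ∈ P0.subgroupOf M24; exact hxP
  have hp : IsPGroup 3 (Subgroup.zpowers (⟨b, hbS⟩ : S)) :=
    IsPGroup.of_card (n := 1) (by rw [Nat.card_zpowers, Subgroup.orderOf_mk, hb, pow_one])
  obtain ⟨P, hP⟩ := hp.exists_le_sylow
  refine ⟨(P : Subgroup S).map S.subtype, ?_, ⟨_, hP (Subgroup.mem_zpowers _), rfl⟩, ?_⟩
  · rw [Subgroup.card_map_of_injective S.subtype_injective, P.card_eq_multiplicity, hfac]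
    norm_num
  · rintro _ ⟨p, hpP, rfl⟩
    set w := ⁅p, (⟨b, hbS⟩ : S)⁆ with hw'
    have hwP : w ∈ (P : Subgroup S) := by
      have hbP := hP (Subgroup.mem_zpowers (⟨b, hbS⟩ : S))
      rw [hw', commutatorElement_def]
      exact mul_mem (mul_mem (mul_mem hpP hbP) (inv_mem hpP)) (inv_mem hbP)
    have hwk : (w : CQa a) ∈ θ.ker := by
      rw [MonoidHom.mem_ker]
      simp only [hw', commutatorElement_def, Subgroup.coe_mul, Subgroup.coe_inv, map_mul, map_inv]
      have := hcen _ p.2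
      rw [mul_inv_eq_one, mul_inv_eq_iff_eq_mul]
      exact Subtype.ext this
    obtain ⟨i, hi⟩ := P.2 ⟨w, hwP⟩
    obtain ⟨j, hj⟩ := hker ⟨_, hwk⟩
    have h1 : orderOf (w : CQa a) ∣ 3 ^ i := orderOf_dvd_of_pow_eq_one (by
      have := congrArg (fun q : ↥(P : Subgroup S) => ((q : S) : CQa a)) hi
      simpa using this)
    have h2 : orderOf (w : CQa a) ∣ 2 ^ j := orderOf_dvd_of_pow_eq_one (congrArg Subtype.val hj)
    have h3 := orderOf_eq_one_iff.mp (Nat.eq_one_of_dvd_coprimes (Nat.Coprime.pow i j (by norm_num)) h1 h2)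
    simp only [hw', commutatorElement_def, Subgroup.coe_mul, Subgroup.coe_inv] at h3
    exact mul_inv_eq_iff_eq_mul.mp (mul_inv_eq_one.mp h3)

end Cfsg.Lib.Leech.MonsterSection
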