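import Cfsg.Agent.Leech.MonsterSection.CentralNormal
import Cfsg.Agent.Leech.MonsterSection.InvolutionLift
import Cfsg.Agent.Leech.MonsterSection.OkSevenInv

/-!
# The normaliser of an element of order 7 in a group of Monster type

An involution inverting the element acts on the classes fixed by it outside the group of its centraliser.
-/

set_option autoImplicit false
set_option maxRecDepth 100000
set_option linter.style.haveILetI false
set_option linter.unusedSectionVars false

namespace Cfsg.Lib.Leech.MonsterSection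

open Cfsg Cfsg.Lib.Golay Cfsg.Lib.Leech Stab
open Cfsg.Lib.PermCert (ap)

theorem pn_smul (g : Co0) (v : leechLattice) :
    Cfsg.sqNorm ((g • v : leechLattice) : GolayPt → ℤ) = Cfsg.sqNorm (v : GolayPt → ℤ) := g.2.2 v

theorem invFrame_inv : Mult.el invFrameInv = (Mult.el invFrame)⁻¹ := by
  obtain ⟨-, h1, h2, -⟩ := invWord_ok
  have h := Mult.el_eq (by rw [List.all_append, h1, h2]; rfl) rfl invFrame_check.1
  rw [Mult.el_append] at h
  exact eq_inv_of_mul_eq_one_right (h.trans (by simp [Mult.el]))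

theorem x_inv : Mult.el [Atom.perm sevenSigInv] = sevenD.x⁻¹ := by
  have hx : sevenD.xw.all (·.ok) = true := by simp [Data.xw, Atom.ok, sevenCls.perm]
  have hs : [Atom.perm sevenSigInv].all (·.ok) = true := by simp [Atom.ok, invWord_ok.2.2.2.2.1]
  have h := Mult.el_eq (by rw [List.all_append, hs, hx]; rfl) rfl invFrame_check.2.2.1
  rw [Mult.el_append] at h
  exact eq_inv_of_mul_eq_one_left (h.trans (by simp [Mult.el]))

theorem invWord_inverts : Mult.el invWord * sevenD.x * (Mult.el invWord)⁻¹ = sevenD.x⁻¹ := by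
  have hx : sevenD.xw.all (·.ok) = true := by simp [Data.xw, Atom.ok, sevenCls.perm]
  have hs : [Atom.perm sevenSigInv].all (·.ok) = true := by simp [Atom.ok, invWord_ok.2.2.2.2.1]
  have h := Mult.el_eq (by rw [List.all_append, invWord_ok.1, hx]; rfl)
    (by rw [List.all_append, hs, invWord_ok.1]; rfl) invFrame_check.2.1
  rw [Mult.el_append, Mult.el_append, x_inv, ← Data.x] at h
  rw [h, mul_inv_cancel_right]

theorem sevenSq_squares : Mult.el [Atom.perm sevenSq] * sevenD.x * (Mult.el [Atom.perm sevenSq])⁻¹ =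
    sevenD.x ^ 2 := by
  have hx : sevenD.xw.all (·.ok) = true := by simp [Data.xw, Atom.ok, sevenCls.perm]
  have hs : [Atom.perm sevenSq].all (·.ok) = true := by simp [Atom.ok, invWord_ok.2.2.2.2.2.1]
  have h := Mult.el_eq (by rw [List.all_append, hs, hx]; rfl)
    (by rw [List.all_append, List.all_append, hs, hx]; rfl) invFrame_check.2.2.2
  rw [Mult.el_append, Mult.el_append, Mult.el_append, ← Data.x] at h
  rw [h, mul_inv_cancel_right, pow_two]

/-- The centraliser of the permutation keeps the orbit. -/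
theorem orb_stable {c : ℕ} (hc : c ∈ sevenD.orb) {h : Co0} (hh : h ∈ sevenD.C0) :
    sevenD.actC h c ∈ sevenD.orb := by
  have step : ∀ w ∈ sevenD.words, ∀ d ∈ sevenD.orb,
      sevenD.actC (Mult.el w) d ∈ sevenD.orb := by
    intro w hw d hd
    obtain ⟨a, ha, rfl, hok⟩ := act_of_word sevenAct hw
    obtain ⟨-, -, -, hlin, -⟩ := act_spec' sevenCls hok
    have h1 := List.all_eq_true.mp (List.all_eq_true.mp seven_orb_closed a ha) d hd
    simp only [Bool.and_eq_true, List.contains_eq_mem, decide_eq_true_eq] at h1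
    rw [hlin]
    exact h1.2
  obtain ⟨t, ht, f, hf, a, ha, q, hq, rfl⟩ := decompose sevenCls sevenAct hh
  have mt : t ∈ sevenD.words := by simp [Data.words, ht]
  have mf : [Atom.flip f] ∈ sevenD.words := by simp [Data.words, hf]
  have ma : [Atom.perm a] ∈ sevenD.words := by simp [Data.words, ha]
  have mq : [Atom.perm q] ∈ sevenD.words := by simp [Data.words, hq]
  have cf := (word_mem sevenCls sevenAct mf).2
  have ca := (word_mem sevenCls sevenAct ma).2
  have cq := (word_mem sevenCls sevenAct mq).2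
  rw [actC_mul sevenCls _ (mul_mem (mul_mem cf ca) cq), actC_mul sevenCls _ cq, actC_mul sevenCls _ ca]
  exact step _ mt _ (step _ mf _ (step _ ma _ (step _ mq _ hc)))

/-- The inverting element moves the code 41 out of the orbit. -/
theorem inv_moves : sevenD.actC (Mult.el invWord) 41 ∉ sevenD.orb := by
  obtain ⟨hno, hsh⟩ := seven_moves
  have h41 : 41 < 2 ^ sevenD.m := by decide +kernel
  obtain ⟨hs, e⟩ := Mult.el_smul invWord_ok.1 (Mult.short_of_check hsh)
  obtain ⟨h1, -, h3⟩ := rep_spec sevenCls h41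
  have h4 : sevenD.actC (Mult.el invWord) 41 = sevenD.codeK (evalW invWord (sevenD.reps.getD 41 0)) := by
    rw [Data.actC, ← codeV_congr sevenCls (h1.smul (Mult.el invWord)),
      show kv (sevenD.reps.getD 41 0) = ⟨dec (sevenD.reps.getD 41 0), (Mult.short_of_check hsh).1⟩ from Subtype.ext h3,
      e, codeK_eq]
  rw [h4]
  simpa [List.contains_eq_mem] using hno

variable {G : Type*} [Group G] [Finite G] {z : G} {Q : Subgroup (Subgroup.centralizer ({z} : Set G))} [Q.Normal]
  {e : (Subgroup.centralizer ({z} : Set G)) ⧸ Q ≃* Spor.Co1} {ψ : leechLattice → Q ⧸ Subgroup.center Q}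
variable (hw : IsExtraspecialCentralizerSetting z Q 12) (hψ : IsLeechModTwoIso Q e ψ)
variable {b : Subgroup.centralizer ({z} : Set G)} {k : Co0} (hb : orderOf b = 7) (hi : Img e k sevenD.x b)

include hw hψ hb hi in
/-- An involution inverting the element. -/
theorem exists_inverting : ∃ u : Subgroup.centralizer ({z} : Set G),
    u * u = 1 ∧ u * b * u⁻¹ = b⁻¹ ∧ Img e k (Mult.el invWord) u := by
  set k' := k * Mult.el invFrame with hk'
  obtain ⟨a, ha'⟩ := QuotientGroup.mk_surjective (ψ (k' • e8 pN))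
  obtain ⟨hc, hne⟩ := (fused_iff hw hψ a).mpr ⟨k' • e8 pN, (pn_smul _ _).trans (sqNorm_e8 _), ha'.symm⟩
  obtain ⟨g, -, hag, ha, -⟩ := fused_frame hw hψ hc hne
  obtain ⟨-, -, -, hcode, -, -, h0, h1⟩ := invWord_ok
  have hpts : pts invFlip ∈ code := (mem_supports_iff _).mpr (by
    rwa [mk_pts (lt_of_inCode hcode)])
  obtain ⟨u0, hu0, hr⟩ := flip_involution hw hψ hag.symm ha ha'.symm hpts (i := ptAt 0) (j := ptAt 1)
    (by rw [mem_pts, show pidx (ptAt 0) = 0 from pidx_ptAt ⟨0, by norm_num⟩]; exact h0)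
    (by rw [mem_pts, show pidx (ptAt 1) = 1 from pidx_ptAt ⟨1, by norm_num⟩, h1]; simp)
  have hgi : Img e k (Mult.el invWord) u0 := by
    have e1 : Mult.el invWord = Mult.el invFrame * mono (one_mem M24) hpts * (Mult.el invFrame)⁻¹ := by
      rw [invWord, Mult.el_append, Mult.el_append, invFrame_inv]
      simp [Mult.el, atomHom, hcode]
    unfold Img at hr ⊢
    rw [hr, e1]
    exact congrArg _ (by rw [hk']; group)
  have hb' : orderOf b = sevenD.r := hb
  obtain ⟨q, hq, hqu⟩ := exact_inverting hw (r := 7) (by norm_num) (by decide) hb hu0 (by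
    apply e.injective
    have h2 := img_conj hgi hi
    rw [invWord_inverts] at h2
    have h3 := img_inv hi
    unfold Img at h2 h3
    rw [QuotientGroup.mk_inv] at h3
    exact h2.trans h3.symm)
  refine ⟨q * u0 * q⁻¹, ?_, hqu, ?_⟩
  · calc q * u0 * q⁻¹ * (q * u0 * q⁻¹) = q * (u0 * u0) * q⁻¹ := by group
      _ = 1 := by rw [hu0]; group
  · unfold Img at hgi ⊢
    rw [QuotientGroup.mk_mul, QuotientGroup.mk_mul, QuotientGroup.mk_inv, (QuotientGroup.eq_one_iff _).mpr hq,
      one_mul, inv_one, mul_one]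
    exact hgi

include hw hψ hb hi in
/-- An element taking the element to its square. -/
theorem exists_squaring : ∃ u : Subgroup.centralizer ({z} : Set G), u * b * u⁻¹ = b ^ 2 := by
  haveI : Fact (Nat.Prime 7) := ⟨by norm_num⟩
  obtain ⟨u0, hu0⟩ := img_lift (e := e) k (Mult.el [Atom.perm sevenSq])
  have h1 : (QuotientGroup.mk' Q) (u0 * b * u0⁻¹) = (QuotientGroup.mk' Q) (b ^ 2) := by
    apply e.injective
    have h2 := img_conj hu0 hi
    rw [sevenSq_squares] at h2
    exact h2.trans (img_pow hi 2).symm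
  have ho : orderOf (b ^ 2) = 7 := by rw [Nat.Coprime.orderOf_pow (by rw [hb]; norm_num), hb]
  obtain ⟨q, -, hqu⟩ := conj_in_fibre (QuotientGroup.mk' Q) (by rw [QuotientGroup.ker_mk']; exact hw.2.2.1.1.1)
    (r := 7) (by norm_num) (by decide) ho
    (by rw [← hb]; exact orderOf_injective (MulAut.conj u0).toMonoidHom (MulAut.conj u0).injective b) h1
  exact ⟨q * u0, by rw [← hqu]; group⟩

include hw hψ hb hi in
/-- A fixed point over a code. -/
theorem fused_fix (c : ℕ) :
    ∃ q : Q, (q : Subgroup.centralizer ({z} : Set G)) * b = b * q ∧ ψ (k • sevenD.vec c) = QuotientGroup.mk q := by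
  exact exists_fix hw hψ sevenCls (show orderOf b = sevenD.r from hb) hi c

include hψ in
theorem fused_of_code (hw : IsExtraspecialCentralizerSetting z Q 12) {c : ℕ} (hc : c < 2 ^ sevenD.m)
    (h64 : Cfsg.sqNorm (dec (sevenD.reps.getD c 0)) = 64) {q : Q} (hq : ψ (k • sevenD.vec c) = QuotientGroup.mk q) :
    IsConj z ((q : Subgroup.centralizer ({z} : Set G)) : G) ∧ ((q : Subgroup.centralizer ({z} : Set G)) : G) ≠ z := by
  obtain ⟨h1, -, h3⟩ := rep_spec sevenCls hc
  refine (fused_iff hw hψ q).mpr ⟨k • kv (sevenD.reps.getD c 0), (pn_smul _ _).trans (by rw [h3]; exact h64), ?_⟩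
  rw [← hq]
  exact (psi_smul_eq_iff hψ k).mpr h1

include hw hψ hb hi in
/-- A fused fixed point is carried to the central involution in the centraliser of the element. -/
theorem conjB_of_fused {q : Q} (hq : (q : Subgroup.centralizer ({z} : Set G)) * b = b * q)
    (hc : IsConj z ((q : Subgroup.centralizer ({z} : Set G)) : G))
    (hne : ((q : Subgroup.centralizer ({z} : Set G)) : G) ≠ z) :
    ConjB z (Subgroup.zpowers (b : G)) ((q : Subgroup.centralizer ({z} : Set G)) : G) := by
  have hb' : b ∈ CQa q := mem_CQa.mpr hq.symm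
  obtain ⟨c, h1, h2⟩ := swap hw hψ sevenCls (show sevenD.r.Prime from sevenAct.prime) sevenNondeg (fun _ => True)
    hc hne (b := ⟨b, hb'⟩) (by rw [← Subgroup.orderOf_coe]; exact hb) trivial (fun _ _ _ => trivial)
    (fun b' h _ => classHyp_sylow hw hψ sevenCls sevenAct
      (by show 7 ∣ 244823040 ∧ ¬ 7 ^ 2 ∣ 244823040; norm_num) q hc hne b' h trivial)
  exact ⟨c, (mem_centB rfl).mpr h1, h2⟩

include hw hψ hb hi in
/-- The layer holds the fused fixed points; the inverting involution is not inner on it. -/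
theorem seven_layer :
    ∃ u : Subgroup.centralizer ({z} : Set G), u * u = 1 ∧ u ≠ 1 ∧ u * b * u⁻¹ = b⁻¹ ∧
      ¬ ∃ l ∈ (Cfsg.layer ↥(Subgroup.centralizer (Subgroup.zpowers (b : G) : Set G))).map
          (Subgroup.centralizer (Subgroup.zpowers (b : G) : Set G)).subtype,
        ∀ x ∈ (Cfsg.layer ↥(Subgroup.centralizer (Subgroup.zpowers (b : G) : Set G))).map
          (Subgroup.centralizer (Subgroup.zpowers (b : G) : Set G)).subtype, (u : G) * x * (u : G)⁻¹ = l * x * l⁻¹ := by
  set B := Subgroup.zpowers (b : G) with hB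
  have hb' : orderOf b = sevenD.r := hb
  obtain ⟨u, hu, hub, hui⟩ := exists_inverting hw hψ hb hi
  have hu1 : u ≠ 1 := fun h => by
    rw [h, one_mul, inv_one, mul_one] at hub
    have : b * b = 1 := mul_eq_one_iff_eq_inv.mpr hub
    have h2 : orderOf b ∣ 2 := orderOf_dvd_of_pow_eq_one (by rw [pow_two, this])
    rw [hb] at h2
    norm_num at h2
  refine ⟨u, hu, hu1, hub, ?_⟩
  rintro ⟨l, hl, hlx⟩
  have h6 : (6 : ℕ) < 2 ^ sevenD.m := by decide +kernel
  have h17 : (17 : ℕ) < 2 ^ sevenD.m := by decide +kernel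
  have h23 : (23 : ℕ) < 2 ^ sevenD.m := by decide +kernel
  have h41 : (41 : ℕ) < 2 ^ sevenD.m := by decide +kernel
  have n6 := seven_norms 6 (by simp)
  have n17 := seven_norms 17 (by simp)
  have n23 := seven_norms 23 (by simp)
  have n41 := seven_norms 41 (by simp)
  obtain ⟨q6, c6, e6⟩ := fused_fix hw hψ hb hi 6
  obtain ⟨q17, c17, e17⟩ := fused_fix hw hψ hb hi 17
  obtain ⟨q41, c41, e41⟩ := fused_fix hw hψ hb hi 41
  obtain ⟨c, hc, nc, hdot⟩ := seven_partner
  obtain ⟨qc, cc, ec⟩ := fused_fix hw hψ hb hi c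
  have e623 : ψ (k • sevenD.vec 23) = QuotientGroup.mk (q6 * q17) := by
    rw [QuotientGroup.mk_mul, ← e6, ← e17, ← hψ.1, ← smul_add']
    refine (psi_smul_eq_iff hψ k).mpr (SameCls.symm ?_)
    have h := class_code sevenCls (v := sevenD.vec 6 + sevenD.vec 17)
      (by rw [smul_add', vec_fixed sevenCls, vec_fixed sevenCls]; exact SameCls.refl _)
    rwa [codeV_add sevenCls, code_vec sevenCls h6, code_vec sevenCls h17] at h
  have cj : ∀ {q : Q} {d : ℕ}, d < 2 ^ sevenD.m → Cfsg.sqNorm (dec (sevenD.reps.getD d 0)) = 64 →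
      (q : Subgroup.centralizer ({z} : Set G)) * b = b * q → ψ (k • sevenD.vec d) = QuotientGroup.mk q →
      ConjB z B ((q : Subgroup.centralizer ({z} : Set G)) : G) := fun hd hn hq he =>
    conjB_of_fused hw hψ hb hi hq (fused_of_code hψ hw hd hn he).1 (fused_of_code hψ hw hd hn he).2
  have k3 : ConjB z B (((q6 : Subgroup.centralizer ({z} : Set G)) : G) * ((q17 : Subgroup.centralizer ({z} : Set G)) : G)) :=
    cj (q := q6 * q17) h23 n23
      ((show Commute (q6 : Subgroup.centralizer ({z} : Set G)) b from c6).mul_left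
        (show Commute (q17 : Subgroup.centralizer ({z} : Set G)) b from c17)).eq e623
  have hncomm : ((q41 : Subgroup.centralizer ({z} : Set G)) : G) * ((qc : Subgroup.centralizer ({z} : Set G)) : G) ≠
      ((qc : Subgroup.centralizer ({z} : Set G)) : G) * ((q41 : Subgroup.centralizer ({z} : Set G)) : G) := fun h => by
    refine not_commute_of_dot hw hψ e41 ec ?_ (Subtype.ext (Subtype.ext h))
    rw [dot_smul, show ((sevenD.vec 41 : leechLattice) : GolayPt → ℤ) = sevenD.vecZ 41 sevenD.m from
      vecN_coe sevenCls 41 sevenD.m le_rfl, show ((sevenD.vec c : leechLattice) : GolayPt → ℤ) =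
      sevenD.vecZ c sevenD.m from vecN_coe sevenCls c sevenD.m le_rfl]
    exact hdot
  have g1 := cj h41 n41 c41 e41
  have g2 := cj hc nc cc ec
  have mem : ∀ y, ConjB z B y → y ∈ (Cfsg.layer ↥(Subgroup.centralizer (B : Set G))).map
      (Subgroup.centralizer (B : Set G)).subtype := fun y hy =>
    conj_mem_layer hw hψ sevenCls (repOf sevenCls sevenAct) sevenNondeg hb' hi hB
      (cj h6 n6 c6 e6) (cj h17 n17 c17 e17) k3 g1 g2 hncomm hy
  -- the automorphism would centralise the central involution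
  have huz : (u : G) * z = z * (u : G) := Subgroup.mem_centralizer_singleton_iff.mp u.2
  have hlz : l * z = z * l := by
    have h := hlx z (mem z ⟨1, one_mem _, by group⟩)
    rw [huz, mul_inv_cancel_right] at h
    exact (mul_inv_eq_iff_eq_mul.mp h.symm)
  obtain ⟨⟨l', hl'⟩, -, rfl⟩ := hl
  set L : Subgroup.centralizer ({z} : Set G) := ⟨l', Subgroup.mem_centralizer_singleton_iff.mpr hlz⟩
  have hLb : L * b = b * L := Subtype.ext ((mem_centB hB).mp hl')
  obtain ⟨h, hh⟩ := img_exists (e := e) k L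
  have hh0 := img_C0 sevenCls hi hLb hh
  have h41' := hlx _ (mem _ g1)
  have hconj : (⟨u * q41 * u⁻¹, (inferInstance : Q.Normal).conj_mem _ q41.2 u⟩ : Q) =
      ⟨L * q41 * L⁻¹, (inferInstance : Q.Normal).conj_mem _ q41.2 L⟩ := Subtype.ext (Subtype.ext h41')
  have hcls : SameCls (Mult.el invWord • sevenD.vec 41) (h • sevenD.vec 41) :=
    (psi_smul_eq_iff hψ k).mp (by rw [img_class hψ hui e41, img_class hψ hh e41, hconj])
  refine inv_moves ?_
  rw [Data.actC, codeV_congr sevenCls hcls]
  exact orb_stable (by decide +kernel) hh0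

end Cfsg.Lib.Leech.MonsterSection
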