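import Cfsg.Agent.Leech.MonsterSection.Fixed
import Cfsg.Agent.S5406

/-!
# A fused involution is carried to the central one inside the centraliser of a standard element
-/

set_option autoImplicit false
set_option linter.style.haveILetI false
set_option linter.unusedSectionVars false

namespace Cfsg.Lib.Leech.MonsterSection

open Cfsg Cfsg.Lib.Golay Cfsg.Lib.Leech Stab
open Cfsg.Lib.PermCert (ap)

variable {G : Type*} [Group G] [Finite G] {z : G} {Q : Subgroup (Subgroup.centralizer ({z} : Set G))} [Q.Normal]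
  {e : (Subgroup.centralizer ({z} : Set G)) ⧸ Q ≃* Spor.Co1} {ψ : leechLattice → Q ⧸ Subgroup.center Q} {D : Data}

/-- A fused involution off the centre, with its frame. -/
theorem fused_frame (hw : IsExtraspecialCentralizerSetting z Q 12) (hψ : IsLeechModTwoIso Q e ψ) {a : Q}
    (hc : IsConj z ((a : Subgroup.centralizer ({z} : Set G)) : G))
    (hne : ((a : Subgroup.centralizer ({z} : Set G)) : G) ≠ z) :
    ∃ (g : G) (k : Co0), g * z * g⁻¹ = ((a : Subgroup.centralizer ({z} : Set G)) : G) ∧ a ∉ Subgroup.center Q ∧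
      ψ (k • e8 pN) = QuotientGroup.mk a := by
  obtain ⟨g, hg⟩ := isConj_iff.mp hc
  obtain ⟨a', k, hag, ha, hv, -⟩ := fused_base hw hψ
    (s := ((a : Subgroup.centralizer ({z} : Set G)) : G)) ⟨_, a.2⟩ hne hg
  obtain rfl : a' = a := Subtype.ext (Subtype.ext (hag.trans hg))
  exact ⟨g, k, hg, ha, hv⟩

theorem exists_std_pow_of_class (hw : IsExtraspecialCentralizerSetting z Q 12) (hψ : IsLeechModTwoIso Q e ψ)
    (hD : ClsOK D) (hp : D.r.Prime) (hmoved : ¬ ∀ q < 24, PermCert.ap D.sig.1 q = q) {a : Q} {k : Co0} (hv : ψ (k • e8 pN) = QuotientGroup.mk a) {b : CQa a}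
    (hb : orderOf b = D.r)
    (h : ∃ τ : M24, ∃ i : ℤ, τ * theta e hψ hv b ^ i * τ⁻¹ = permPart ⟨D.x, x_mem_mono hD⟩) :
    ∃ i : ℤ, orderOf (b ^ i) = D.r ∧ Std D e ψ a (b ^ i).1 := by
  haveI := Fact.mk hp
  obtain ⟨τ, i, hi⟩ := h
  have hpx : permPart ⟨D.x, x_mem_mono hD⟩ ≠ 1 := fun e1 => by
    refine hmoved (fun q hq => ?_)
    have h6 : toP D.sig (ptAt q) = ptAt q := by rw [← permPart_x hD, e1]; rfl
    rw [toP_ptAt (valid_sig hD) hq] at h6
    have h7 := congrArg pidx h6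
    rwa [show pidx (ptAt (ap D.sig.1 q)) = _ from pidx_ptAt ⟨_, PermCert.valid_lt (valid_sig hD) hq⟩,
      show pidx (ptAt q) = q from pidx_ptAt ⟨q, hq⟩] at h7
  have hbi : orderOf (b ^ i) = D.r := by
    refine orderOf_eq_prime ?_ fun e1 => hpx ?_
    · rw [← zpow_natCast, ← zpow_mul, mul_comm, zpow_mul, zpow_natCast, ← hb, pow_orderOf_eq_one, one_zpow]
    · rw [← hi, ← map_zpow, e1, map_one, mul_one, mul_inv_cancel]
  exact ⟨i, hbi, std_of hψ hv hw hD hp hbi (τ := τ) (by rw [map_zpow]; exact hi)⟩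

include D in
/-- The swap. -/
theorem swap (hw : IsExtraspecialCentralizerSetting z Q 12) (hψ : IsLeechModTwoIso Q e ψ) (hD : ClsOK D)
    (hp : D.r.Prime) (hnd : NondegOK D) (Adm : G → Prop) {a : Q}
    (hc : IsConj z ((a : Subgroup.centralizer ({z} : Set G)) : G))
    (hne : ((a : Subgroup.centralizer ({z} : Set G)) : G) ≠ z) {b : CQa a} (hb : orderOf b = D.r)
    (hAdm : Adm ((b : Subgroup.centralizer ({z} : Set G)) : G))
    (htrans : ∀ t : G, t * z * t⁻¹ = ((a : Subgroup.centralizer ({z} : Set G)) : G) →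
      t * ((a : Subgroup.centralizer ({z} : Set G)) : G) * t⁻¹ = z →
      Adm (t * ((b : Subgroup.centralizer ({z} : Set G)) : G) * t⁻¹))
    (hstd : ∀ b' : CQa a, orderOf b' = D.r → Adm ((b' : Subgroup.centralizer ({z} : Set G)) : G) →
      ∃ i : ℤ, orderOf (b' ^ i) = D.r ∧ Std D e ψ a (b' ^ i).1) :
    ∃ c : G, c * ((b : Subgroup.centralizer ({z} : Set G)) : G) = ((b : Subgroup.centralizer ({z} : Set G)) : G) * c ∧
      c * ((a : Subgroup.centralizer ({z} : Set G)) : G) * c⁻¹ = z := by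
  haveI := Fact.mk hp
  obtain ⟨g, k, hag', ha, hv⟩ := fused_frame hw hψ hc hne
  have hag : ((a : Subgroup.centralizer ({z} : Set G)) : G) = g * z * g⁻¹ := hag'.symm
  set s := ((a : Subgroup.centralizer ({z} : Set G)) : G) with hs
  -- the inverse image of the central involution
  have hzU : z ∈ QC Q g := center_le_meet hw hψ hag ha hv (Subgroup.mem_center_iff.mpr fun w =>
    Subtype.ext (Subtype.ext (Subgroup.mem_centralizer_singleton_iff.mp
      (w : Subgroup.centralizer ({z} : Set G)).2)) : (⟨zC z, zC_mem hw⟩ : Q) ∈ Subgroup.center Q)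
  obtain ⟨y, hyQ, hy⟩ := QC_mem.mp hzU
  have hyv : (y : G) = g⁻¹ * z * g := hy
  have hyne : (y : G) ≠ z := fun h1 => hne (by
    rw [hag, show g * z * g⁻¹ = g * (g⁻¹ * z * g) * g⁻¹ by rw [← hyv, h1]]; group)
  obtain ⟨h, hhC, hh⟩ := Cfsg.Agent.S5406.result z Q ⟨hw, e, ψ, hψ⟩ s (y : G) ⟨_, a.2⟩ ⟨_, hyQ⟩ hc
    (isConj_iff.mpr ⟨g⁻¹, by rw [hyv]; group⟩) hne hyne
  have hhz := Subgroup.mem_centralizer_singleton_iff.mp hhC
  set t := g * h with ht
  have tz : t * z * t⁻¹ = s := by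
    calc t * z * t⁻¹ = g * (h * z * h⁻¹) * g⁻¹ := by rw [ht]; group
      _ = s := by rw [hhz, mul_inv_cancel_right, hag]
  have ts : t * s * t⁻¹ = z := by
    calc t * s * t⁻¹ = g * (h * s * h⁻¹) * g⁻¹ := by rw [ht]; group
      _ = z := by rw [hh, hyv]; group
  obtain ⟨i0, hb0, hstd0⟩ := hstd b hb hAdm
  set bG := ((b : Subgroup.centralizer ({z} : Set G)) : G) with hbG
  set b1 := b ^ i0 with hb1
  set b1G := ((b1 : Subgroup.centralizer ({z} : Set G)) : G) with hb1G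
  have hbz : Commute bG z := Subgroup.mem_centralizer_singleton_iff.mp b.1.2
  have hbs : Commute bG s := congrArg Subtype.val (mem_CQa.mp b.2)
  have c1 : t * bG * t⁻¹ ∈ Subgroup.centralizer ({z} : Set G) := Subgroup.mem_centralizer_singleton_iff.mpr (by
    calc t * bG * t⁻¹ * z = t * bG * t⁻¹ * (t * s * t⁻¹) := by rw [ts]
      _ = t * (bG * s) * t⁻¹ := by group
      _ = t * (s * bG) * t⁻¹ := by rw [hbs.eq]
      _ = (t * s * t⁻¹) * (t * bG * t⁻¹) := by group
      _ = z * (t * bG * t⁻¹) := by rw [ts])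
  have c2 : (⟨_, c1⟩ : Subgroup.centralizer ({z} : Set G)) ∈ CQa a := mem_CQa.mpr (Subtype.ext (by
    show t * bG * t⁻¹ * s = s * (t * bG * t⁻¹)
    calc t * bG * t⁻¹ * s = t * bG * t⁻¹ * (t * z * t⁻¹) := by rw [tz]
      _ = t * (bG * z) * t⁻¹ := by group
      _ = t * (z * bG) * t⁻¹ := by rw [hbz.eq]
      _ = (t * z * t⁻¹) * (t * bG * t⁻¹) := by group
      _ = s * (t * bG * t⁻¹) := by rw [tz]))
  set b' : CQa a := ⟨⟨_, c1⟩, c2⟩ with hb'
  have ho : orderOf b' = D.r := by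
    rw [← hb, ← Subgroup.orderOf_coe, ← Subgroup.orderOf_coe, ← Subgroup.orderOf_coe b,
      ← Subgroup.orderOf_coe (b : Subgroup.centralizer ({z} : Set G))]
    exact orderOf_injective (MulAut.conj t).toMonoidHom (MulAut.conj t).injective bG
  obtain ⟨j, hj, hstdj⟩ := hstd b' ho (htrans t tz ts)
  obtain ⟨u, hu⟩ := conj_of_std hw hψ ha hD hp hb0 hj hstd0 hstdj
  have hu' : ((u : Subgroup.centralizer ({z} : Set G)) : G) * (t * bG * t⁻¹) ^ j *
      ((u : Subgroup.centralizer ({z} : Set G)) : G)⁻¹ = b1G := by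
    have := congrArg (fun v : CQa a => ((v : Subgroup.centralizer ({z} : Set G)) : G)) hu
    simp only [Subgroup.coe_mul, Subgroup.coe_inv, Subgroup.coe_zpow, hb'] at this
    exact this
  set uG := ((u : Subgroup.centralizer ({z} : Set G)) : G)
  have huz : Commute uG z := Subgroup.mem_centralizer_singleton_iff.mp u.1.2
  have hus : Commute uG s := congrArg Subtype.val (mem_CQa.mp u.2)
  set t2 := uG * t with ht2
  have t2z : t2 * z * t2⁻¹ = s := by
    calc t2 * z * t2⁻¹ = uG * (t * z * t⁻¹) * uG⁻¹ := by rw [ht2]; group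
      _ = s := by rw [tz, hus.eq, mul_inv_cancel_right]
  have t2s : t2 * s * t2⁻¹ = z := by
    calc t2 * s * t2⁻¹ = uG * (t * s * t⁻¹) * uG⁻¹ := by rw [ht2]; group
      _ = z := by rw [ts, huz.eq, mul_inv_cancel_right]
  have t2b : t2 * bG ^ j * t2⁻¹ = b1G := by
    rw [← hu', conj_zpow, ht2]; group
  -- move the fused involution by a fixed point
  obtain ⟨k1, -, hi1⟩ := hstd0
  have hab : (a : Subgroup.centralizer ({z} : Set G)) * b1.1 = b1.1 * a := (mem_CQa.mp b1.2).symm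
  obtain ⟨q, hq, hqa⟩ : ∃ q : Q, (q : Subgroup.centralizer ({z} : Set G)) * b1.1 = b1.1 * q ∧ q * a ≠ a * q := by
    by_contra! hno
    exact ha (fix_center hw hψ hD (by rw [Subgroup.orderOf_coe]; exact hb0) hi1 hnd hab hno)
  have hqz : ((q : Subgroup.centralizer ({z} : Set G)) : G) * z = z * ((q : Subgroup.centralizer ({z} : Set G)) : G) :=
    Subgroup.mem_centralizer_singleton_iff.mp q.1.2
  set qG := ((q : Subgroup.centralizer ({z} : Set G)) : G) with hqG
  have hqs : qG * s * qG⁻¹ = z * s := by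
    have hcc : q * a * q⁻¹ * a⁻¹ ∈ Subgroup.center Q := by
      rw [← QuotientGroup.eq_one_iff]
      simp only [QuotientGroup.mk_mul, QuotientGroup.mk_inv]
      rw [mul_inv_eq_one, mul_inv_eq_iff_eq_mul, (psi_mul_comm hψ _ _).1]
    rcases center_cases' hw hcc with h1 | h1
    · exact absurd (mul_inv_eq_iff_eq_mul.mp (mul_inv_eq_one.mp (Subtype.ext h1 : q * a * q⁻¹ * a⁻¹ = 1))) hqa
    · have h2 : qG * s * qG⁻¹ * s⁻¹ = z := congrArg Subtype.val h1
      rw [← mul_inv_eq_iff_eq_mul]; exact h2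
  have hqb1 : Commute qG b1G := congrArg Subtype.val hq
  have hb1z : b1G = bG ^ i0 := by simp [hb1G, hb1, hbG]
  -- powers of the first generator give back the element
  obtain ⟨l, hl⟩ : ∃ l : ℤ, b1G ^ l = bG := by
    have h1 : Subgroup.zpowers b1G ≤ Subgroup.zpowers bG :=
      Subgroup.zpowers_le.mpr (hb1z ▸ Subgroup.zpow_mem _ (Subgroup.mem_zpowers _) _)
    have h2 : Subgroup.zpowers b1G = Subgroup.zpowers bG := Subgroup.eq_of_le_of_card_ge h1 (by
      rw [Nat.card_zpowers, Nat.card_zpowers, hb1G, hbG, Subgroup.orderOf_coe, Subgroup.orderOf_coe,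
        Subgroup.orderOf_coe, Subgroup.orderOf_coe, hb, hb0])
    exact Subgroup.mem_zpowers_iff.mp (h2 ▸ Subgroup.mem_zpowers bG)
  have hqb : Commute qG bG := hl ▸ hqb1.zpow_right l
  set c := t2 * qG * t2⁻¹ * qG with hc'
  have hcb1 : Commute c b1G := by
    refine Commute.mul_left ?_ hqb1
    show t2 * qG * t2⁻¹ * b1G = b1G * (t2 * qG * t2⁻¹)
    rw [← t2b]
    calc t2 * qG * t2⁻¹ * (t2 * bG ^ j * t2⁻¹) = t2 * (qG * bG ^ j) * t2⁻¹ := by group
      _ = t2 * (bG ^ j * qG) * t2⁻¹ := by rw [(hqb.zpow_right j).eq]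
      _ = _ := by group
  refine ⟨c, hl ▸ (hcb1.zpow_right l).eq, ?_⟩
  have hz2 : z * z = 1 := by rw [← pow_two, ← hw.1, pow_orderOf_eq_one]
  calc c * s * c⁻¹ = t2 * qG * (t2⁻¹ * (qG * s * qG⁻¹) * t2) * qG⁻¹ * t2⁻¹ := by rw [hc']; group
    _ = t2 * qG * ((t2⁻¹ * z * t2) * (t2⁻¹ * s * t2)) * qG⁻¹ * t2⁻¹ := by rw [hqs]; group
    _ = t2 * qG * (s * z) * qG⁻¹ * t2⁻¹ := by
      rw [show t2⁻¹ * z * t2 = s by rw [← t2s]; group, show t2⁻¹ * s * t2 = z by rw [← t2z]; group]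
    _ = t2 * ((qG * s * qG⁻¹) * (qG * z * qG⁻¹)) * t2⁻¹ := by group
    _ = t2 * (z * s * z) * t2⁻¹ := by rw [hqs, hqz, mul_inv_cancel_right]
    _ = z := by
      have hsz : s * z = z * s := Subgroup.mem_centralizer_singleton_iff.mp a.1.2
      rw [show z * s * z = s by rw [mul_assoc, hsz, ← mul_assoc, hz2, one_mul], t2s]

end Cfsg.Lib.Leech.MonsterSection
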