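import Cfsg.Agent.Leech.MonsterSection.Local
import Cfsg.Agent.Leech.MonsterSection.Swap

/-!
# The section of a subgroup of odd prime order of the centraliser of two fused involutions
-/

set_option autoImplicit false
set_option linter.style.haveILetI false
set_option linter.unusedSectionVars false

namespace Cfsg.Lib.Leech.MonsterSection

open Cfsg Cfsg.Lib.Golay Cfsg.Lib.Leech Stab
open Cfsg.Lib.PermCert (ap grp)

variable {G : Type*} [Group G] [Finite G] {z : G} {Q : Subgroup (Subgroup.centralizer ({z} : Set G))} [Q.Normal]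
  {e : (Subgroup.centralizer ({z} : Set G)) ⧸ Q ≃* Spor.Co1} {ψ : leechLattice → Q ⧸ Subgroup.center Q} {D : Data}
  {A : List Act}

/-- Into the group from the centraliser of a pair. -/
def inG (a : Q) : CQa a →* G := (Subgroup.centralizer ({z} : Set G)).subtype.comp (CQa a).subtype

theorem inG_injective (a : Q) : Function.Injective (inG a) := fun _ _ h => Subtype.ext (Subtype.ext h)

theorem mem_pair {a : Q} {g : G}
    (hg : g ∈ Subgroup.centralizer ({z, ((a : Subgroup.centralizer ({z} : Set G)) : G)} : Set G)) :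
    ∃ h : g ∈ Subgroup.centralizer ({z} : Set G), (⟨g, h⟩ : Subgroup.centralizer ({z} : Set G)) ∈ CQa a := by
  have h1 := hg z (Set.mem_insert _ _)
  have h2 := hg _ (Set.mem_insert_of_mem _ rfl)
  exact ⟨Subgroup.mem_centralizer_singleton_iff.mpr h1.symm, mem_CQa.mpr (Subtype.ext h2.symm)⟩

theorem range_inG (a : Q) :
    (inG a).range = Subgroup.centralizer ({z, ((a : Subgroup.centralizer ({z} : Set G)) : G)} : Set G) := by
  ext g
  constructor
  · rintro ⟨u, rfl⟩ y (rfl | hy)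
    · exact (Subgroup.mem_centralizer_singleton_iff.mp u.1.2).symm
    · rw [Set.mem_singleton_iff] at hy
      subst hy
      exact (congrArg Subtype.val (mem_CQa.mp u.2)).symm
  · intro hg
    obtain ⟨h, h'⟩ := mem_pair hg
    exact ⟨⟨_, h'⟩, rfl⟩

theorem card_pair (hw : IsExtraspecialCentralizerSetting z Q 12) (hψ : IsLeechModTwoIso Q e ψ) {a : Q}
    (hc : IsConj z ((a : Subgroup.centralizer ({z} : Set G)) : G))
    (hne : ((a : Subgroup.centralizer ({z} : Set G)) : G) ≠ z) {r : ℕ} (hr : r.Prime) (hodd : Odd r) :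
    (Nat.card ↥(Subgroup.centralizer ({z, ((a : Subgroup.centralizer ({z} : Set G)) : G)} : Set G))).factorization r =
      (244823040 : ℕ).factorization r := by
  obtain ⟨g, k, -, ha, hv⟩ := fused_frame hw hψ hc hne
  rw [← range_inG a, ← Nat.card_congr (MonoidHom.ofInjective (inG_injective a)).toEquiv,
    card_CQa hw hψ ha hv r hr hodd]

/-- The hypothesis that elements of the given order are, up to powers, standard. -/
def ClassHyp (z : G) (Q : Subgroup (Subgroup.centralizer ({z} : Set G))) [Q.Normal]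
    (e : (Subgroup.centralizer ({z} : Set G)) ⧸ Q ≃* Spor.Co1) (ψ : leechLattice → Q ⧸ Subgroup.center Q) (D : Data)
    (Adm : G → G → Prop) : Prop :=
  ∀ a : Q, IsConj z ((a : Subgroup.centralizer ({z} : Set G)) : G) →
    ((a : Subgroup.centralizer ({z} : Set G)) : G) ≠ z → ∀ b' : CQa a, orderOf b' = D.r →
      Adm ((a : Subgroup.centralizer ({z} : Set G)) : G) ((b' : Subgroup.centralizer ({z} : Set G)) : G) →
        ∃ i : ℤ, orderOf (b' ^ i) = D.r ∧ Std D e ψ a (b' ^ i).1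

/-- The assembly over a representation. -/
theorem monster_section_rep (hw : IsExtraspecialCentralizerSetting z Q 12) (hψ : IsLeechModTwoIso Q e ψ) (hD : ClsOK D)
    {P : Type*} [Group P] (ρ : Rep hD P) (hnd : NondegOK D) (hns : ∀ N : Subgroup P, N.Normal → IsPGroup 2 N → N = ⊥)
    {w : ℕ} (hw0 : 0 < w) (hm : D.m = 2 * w) (Adm : G → G → Prop)
    (htrans : ∀ s b : G, Adm s b → ∀ t : G, t * z * t⁻¹ = s → t * s * t⁻¹ = z → Adm s (t * b * t⁻¹))
    (hstd : ClassHyp z Q e ψ D Adm) {s : G}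
    (hsQ : ∃ hsc : s ∈ Subgroup.centralizer ({z} : Set G), (⟨s, hsc⟩ : Subgroup.centralizer ({z} : Set G)) ∈ Q)
    (hs : IsConj z s) (hs1 : s ≠ z) {B : Subgroup G} (hB : B ≤ Subgroup.centralizer ({z, s} : Set G))
    (hcard : Nat.card B = D.r) (hadm : ∀ b ∈ B, b ≠ 1 → Adm s b)
    [(B.subgroupOf (Subgroup.centralizer (B : Set G))).Normal] :
    ∃ (t : ↥(Subgroup.centralizer (B : Set G)) ⧸ B.subgroupOf (Subgroup.centralizer (B : Set G)))
      (R : Subgroup (Subgroup.centralizer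
        ({t} : Set (↥(Subgroup.centralizer (B : Set G)) ⧸ B.subgroupOf (Subgroup.centralizer (B : Set G))))))
      (_ : R.Normal),
      Cfsg.IsExtraspecialCentralizerSetting t R w ∧
      Nonempty ((Subgroup.centralizer
        ({t} : Set (↥(Subgroup.centralizer (B : Set G)) ⧸ B.subgroupOf (Subgroup.centralizer (B : Set G))))) ⧸ R ≃*
          P) ∧
      ((∀ s' b' : G, Adm s' b') →
        Set.ncard {x : Subgroup.centralizer
          ({t} : Set (↥(Subgroup.centralizer (B : Set G)) ⧸ B.subgroupOf (Subgroup.centralizer (B : Set G)))) |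
          x ∈ R ∧ IsConj t (x : ↥(Subgroup.centralizer (B : Set G)) ⧸ B.subgroupOf (Subgroup.centralizer (B : Set G)))} =
        1 + 2 * D.n64) := by
  haveI := Fact.mk ρ.prime
  obtain ⟨hsc, hsm⟩ := hsQ
  set a : Q := ⟨⟨s, hsc⟩, hsm⟩ with ha
  -- the standard generator
  haveI : Nontrivial B := Finite.one_lt_card_iff_nontrivial.mp (hcard ▸ ρ.prime.one_lt)
  obtain ⟨⟨x0, hx0⟩, hx1⟩ := exists_ne (1 : B)
  have hx0' : x0 ≠ 1 := fun h => hx1 (Subtype.ext h)
  obtain ⟨hxc, hxa⟩ := mem_pair (a := a) (hB hx0)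
  have hox : orderOf x0 = D.r := by
    have h1 : orderOf x0 ∣ D.r := hcard ▸ Subgroup.orderOf_dvd_natCard B hx0
    exact ((Nat.dvd_prime ρ.prime).mp h1).resolve_left fun h => hx0' (orderOf_eq_one_iff.mp h)
  obtain ⟨i, hi, k, -, himg⟩ := hstd a hs hs1 ⟨⟨x0, hxc⟩, hxa⟩
    (by rw [← Subgroup.orderOf_coe, ← Subgroup.orderOf_coe]; exact hox) (hadm x0 hx0 hx0')
  set bb : CQa a := (⟨⟨x0, hxc⟩, hxa⟩ : CQa a) ^ i with hbb
  set b : Subgroup.centralizer ({z} : Set G) := bb.1 with hb'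
  have hbo : orderOf b = D.r := by rw [hb', Subgroup.orderOf_coe]; exact hi
  have hbG : (b : G) = x0 ^ i := by simp [hb', hbb]
  have hbB : (b : G) ∈ B := hbG ▸ Subgroup.zpow_mem _ hx0 _
  have hBb : B = Subgroup.zpowers (b : G) := (Subgroup.eq_of_le_of_card_ge (Subgroup.zpowers_le.mpr hbB) (by
    rw [Nat.card_zpowers, Subgroup.orderOf_coe, hbo, hcard])).symm
  have hcom : ∀ c : G, c * (b : G) = (b : G) * c → c ∈ Subgroup.centralizer (B : Set G) := by
    intro c hc y hy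
    rw [hBb] at hy
    obtain ⟨j, rfl⟩ := Subgroup.mem_zpowers_iff.mp hy
    exact ((Commute.zpow_right hc j).symm).eq
  have hb1 : (b : G) ≠ 1 := fun h => by
    rw [show b = 1 from Subtype.ext h, orderOf_one] at hbo
    exact ρ.prime.ne_one hbo.symm
  obtain ⟨c, hcb, hcs⟩ := swap hw hψ hD ρ.prime hnd (Adm s) (a := a) hs hs1 (b := bb) hi (hadm _ hbB hb1)
    (fun t h1 h2 => htrans s _ (hadm _ hbB hb1) t h1 h2) (fun b' h1 h2 => hstd a hs hs1 b' h1 h2)
  obtain ⟨t, R, hR, h1, h2, h3⟩ := section_type hw hψ hD ρ hbo himg hBb hw0 hm hnd hns (q0 := a)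
    (mem_CQa.mp bb.2).symm hs1 ⟨c, hcom c hcb, hcs⟩
  refine ⟨t, R, hR, h1, h2, fun hall => h3 fun q hq hqc => ?_⟩
  by_cases hqz : (q : G) = z
  · exact ⟨1, one_mem _, by simp [hqz]⟩
  obtain ⟨hqQ, hqb⟩ := mem_fixQ.mp hq
  have hq' : b ∈ CQa (⟨q, hqQ⟩ : Q) := mem_CQa.mpr hqb.symm
  obtain ⟨c, hcb, hcs⟩ := swap hw hψ hD ρ.prime hnd (Adm (q : G)) (a := ⟨q, hqQ⟩) hqc hqz (b := ⟨b, hq'⟩)
    (by rw [← Subgroup.orderOf_coe]; exact hbo) (hall _ _) (fun _ _ _ => hall _ _)
    (fun b' h1 h2 => hstd ⟨q, hqQ⟩ hqc hqz b' h1 h2)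
  exact ⟨c, hcom c hcb, hcs⟩

/-- The assembly. -/
theorem monster_section (hw : IsExtraspecialCentralizerSetting z Q 12) (hψ : IsLeechModTwoIso Q e ψ) (hD : ClsOK D)
    (hA : ActOK D A) (hnd : NondegOK D) (hns : ∀ N : Subgroup (grp D.n D.chain), N.Normal → Group.IsSolvable N → N = ⊥)
    {w : ℕ} (hw0 : 0 < w) (hm : D.m = 2 * w) (Adm : G → G → Prop)
    (htrans : ∀ s b : G, Adm s b → ∀ t : G, t * z * t⁻¹ = s → t * s * t⁻¹ = z → Adm s (t * b * t⁻¹))
    (hstd : ClassHyp z Q e ψ D Adm) {s : G}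
    (hsQ : ∃ hsc : s ∈ Subgroup.centralizer ({z} : Set G), (⟨s, hsc⟩ : Subgroup.centralizer ({z} : Set G)) ∈ Q)
    (hs : IsConj z s) (hs1 : s ≠ z) {B : Subgroup G} (hB : B ≤ Subgroup.centralizer ({z, s} : Set G))
    (hcard : Nat.card B = D.r) (hadm : ∀ b ∈ B, b ≠ 1 → Adm s b)
    [(B.subgroupOf (Subgroup.centralizer (B : Set G))).Normal] :
    ∃ (t : ↥(Subgroup.centralizer (B : Set G)) ⧸ B.subgroupOf (Subgroup.centralizer (B : Set G)))
      (R : Subgroup (Subgroup.centralizer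
        ({t} : Set (↥(Subgroup.centralizer (B : Set G)) ⧸ B.subgroupOf (Subgroup.centralizer (B : Set G))))))
      (_ : R.Normal),
      Cfsg.IsExtraspecialCentralizerSetting t R w ∧
      Nonempty ((Subgroup.centralizer
        ({t} : Set (↥(Subgroup.centralizer (B : Set G)) ⧸ B.subgroupOf (Subgroup.centralizer (B : Set G))))) ⧸ R ≃*
          grp D.n D.chain) ∧
      ((∀ s' b' : G, Adm s' b') →
        Set.ncard {x : Subgroup.centralizer
          ({t} : Set (↥(Subgroup.centralizer (B : Set G)) ⧸ B.subgroupOf (Subgroup.centralizer (B : Set G)))) |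
          x ∈ R ∧ IsConj t (x : ↥(Subgroup.centralizer (B : Set G)) ⧸ B.subgroupOf (Subgroup.centralizer (B : Set G)))} =
        1 + 2 * D.n64) := by
  haveI : Fact (Nat.Prime 2) := ⟨Nat.prime_two⟩
  exact monster_section_rep hw hψ hD (repOf hD hA) hnd (fun N hN hp => hns N hN (by
    haveI := hp.isNilpotent
    infer_instance)) hw0 hm Adm htrans hstd hsQ hs hs1 hB hcard hadm

theorem not_fixed (hA : ActOK D A) : ¬ ∀ q < 24, ap D.sig.1 q = q := fun h => by
  obtain ⟨i, hi, hne⟩ := hA.moved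
  exact hne (h i hi)

theorem orderOf_permPart_x (hD : ClsOK D) (hA : ActOK D A) :
    orderOf (permPart ⟨D.x, x_mem_mono hD⟩) = D.r :=
  pow_order_map permPart permPart_ker hA.prime hD.ord.1 (by rw [← Subgroup.orderOf_coe]; exact orderOf_x hD hA)

/-- The class hypothesis when the Sylow subgroup has prime order. -/
theorem classHyp_sylow (hw : IsExtraspecialCentralizerSetting z Q 12) (hψ : IsLeechModTwoIso Q e ψ) (hD : ClsOK D)
    (hA : ActOK D A) (hdvd : D.r ∣ 244823040 ∧ ¬ D.r ^ 2 ∣ 244823040) :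
    ClassHyp z Q e ψ D (fun _ _ => True) := by
  intro a hc hne b hb _
  haveI := Fact.mk hA.prime
  obtain ⟨g, k, -, -, hv⟩ := fused_frame hw hψ hc hne
  refine exists_std_pow_of_class hw hψ hD hA.prime (not_fixed hA) hv hb ?_
  set σ := theta e hψ hv b
  set x := permPart ⟨D.x, x_mem_mono hD⟩
  have hσ : orderOf σ = D.r := pow_order_map _ (theta_ker hw hψ hv) hA.prime hD.ord.1 hb
  have hfac : (Nat.card M24).factorization D.r = 1 := by
    rw [card_M24]
    refine le_antisymm ?_ ((Nat.Prime.dvd_iff_one_le_factorization hA.prime (by norm_num)).mp hdvd.1)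
    by_contra h
    exact hdvd.2 ((Nat.Prime.pow_dvd_iff_le_factorization hA.prime (by norm_num)).mpr (by omega))
  have hc' : ∀ y : M24, orderOf y = D.r →
      Nat.card (Subgroup.zpowers y) = D.r ^ (Nat.card M24).factorization D.r := fun y hy => by
    rw [Nat.card_zpowers, hy, hfac, pow_one]
  obtain ⟨τ, hτ⟩ := MulAction.exists_smul_eq M24 (Sylow.ofCard _ (hc' σ hσ))
    (Sylow.ofCard _ (hc' x (orderOf_permPart_x hD hA)))
  have h1 : x ∈ ((τ • Sylow.ofCard _ (hc' σ hσ) : Sylow D.r M24) : Subgroup M24) := by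
    rw [hτ]; exact Subgroup.mem_zpowers x
  rw [Sylow.coe_subgroup_smul] at h1
  obtain ⟨y, hy, hyx⟩ := h1
  obtain ⟨i, rfl⟩ := Subgroup.mem_zpowers_iff.mp hy
  exact ⟨τ, i, hyx⟩

/-- Not central in any subgroup of order 27 of the centraliser of the pair. -/
def NotThreeCentral (z s b : G) : Prop :=
  ∀ P : Subgroup G, P ≤ Subgroup.centralizer ({z, s} : Set G) → Nat.card P = 27 → b ∈ P → ∃ p ∈ P, p * b ≠ b * p

theorem notThreeCentral_trans (s b : G) (h : NotThreeCentral z s b) (t : G) (h1 : t * z * t⁻¹ = s)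
    (h2 : t * s * t⁻¹ = z) : NotThreeCentral z s (t * b * t⁻¹) := by
  intro P hP hc hbP
  have hle : P.map (MulAut.conj t⁻¹).toMonoidHom ≤ Subgroup.centralizer ({z, s} : Set G) := by
    rintro _ ⟨p, hp, rfl⟩ y hy
    have e1 := hP hp
    show y * (t⁻¹ * p * t⁻¹⁻¹) = t⁻¹ * p * t⁻¹⁻¹ * y
    have hy' : t * y * t⁻¹ ∈ ({z, s} : Set G) := by
      rcases hy with rfl | hy
      · rw [h1]; exact Set.mem_insert_of_mem _ rfl
      · rw [Set.mem_singleton_iff] at hy
        subst hy; rw [h2]; exact Set.mem_insert _ _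
    calc y * (t⁻¹ * p * t⁻¹⁻¹) = t⁻¹ * ((t * y * t⁻¹) * p) * t := by group
      _ = t⁻¹ * (p * (t * y * t⁻¹)) * t := by rw [e1 _ hy']
      _ = _ := by group
  obtain ⟨p, ⟨q, hq, rfl⟩, hne⟩ := h _ hle (by rw [Subgroup.card_map_of_injective (MulAut.conj t⁻¹).injective, hc])
    ⟨t * b * t⁻¹, hbP, by show t⁻¹ * (t * b * t⁻¹) * t⁻¹⁻¹ = b; group⟩
  refine ⟨q, hq, fun e1 => hne ?_⟩
  show t⁻¹ * q * t⁻¹⁻¹ * b = b * (t⁻¹ * q * t⁻¹⁻¹)
  calc t⁻¹ * q * t⁻¹⁻¹ * b = t⁻¹ * (q * (t * b * t⁻¹)) * t := by group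
    _ = t⁻¹ * ((t * b * t⁻¹) * q) * t := by rw [e1]
    _ = _ := by group

/-- The class hypothesis for the non-central elements of order 3. -/
theorem classHyp_three (hw : IsExtraspecialCentralizerSetting z Q 12) (hψ : IsLeechModTwoIso Q e ψ) (hD : ClsOK D)
    (hA : ActOK D A) (hr : D.r = 3) (hfix : nfix D.sig = 0) :
    ClassHyp z Q e ψ D (NotThreeCentral z) := by
  intro a hc hne b hb hadm
  obtain ⟨g, k, -, ha, hv⟩ := fused_frame hw hψ hc hne
  refine exists_std_pow_of_class hw hψ hD hA.prime (not_fixed hA) hv hb ?_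
  set σ := theta e hψ hv b with hσd
  have hσ : orderOf (σ : Equiv.Perm GolayPt) = 3 := by
    rw [Subgroup.orderOf_coe]; exact (pow_order_map _ (theta_ker hw hψ hv) hA.prime hD.ord.1 hb).trans hr
  have hx3 : orderOf (permPart ⟨D.x, x_mem_mono hD⟩ : Equiv.Perm GolayPt) = 3 := by
    rw [Subgroup.orderOf_coe, orderOf_permPart_x hD hA, hr]
  obtain ⟨g1, hg1, h1⟩ := three_classes σ.2 hσ
  obtain ⟨g2, hg2, h2⟩ := three_classes (permPart ⟨D.x, x_mem_mono hD⟩).2 hx3
  have hx0 : fixCard (permPart ⟨D.x, x_mem_mono hD⟩ : Equiv.Perm GolayPt) = 0 := by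
    rw [permPart_x hD, fixCard_toP (valid_sig hD), hfix]
  have e2 := (h2.resolve_left fun h => by omega).1
  rcases h1 with ⟨-, h6⟩ | ⟨e1, -⟩
  · exfalso
    obtain ⟨P, hP, hbP, hcen⟩ := central_of_six hw hψ ha hv (hb.trans hr) h6
    obtain ⟨_, ⟨p, hp, rfl⟩, hne'⟩ := hadm (P.map (inG a))
      (fun x hx => by
        obtain ⟨p, -, rfl⟩ := hx
        rw [← range_inG a]; exact ⟨p, rfl⟩)
      (by rw [Subgroup.card_map_of_injective (inG_injective a), hP]) ⟨b, hbP, rfl⟩
    exact hne' (congrArg (inG a) (hcen p hp))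
  · refine ⟨⟨g2 * g1⁻¹, mul_mem hg2 (inv_mem hg1)⟩, 1, Subtype.ext ?_⟩
    simp only [zpow_one, Subgroup.coe_mul, Subgroup.coe_inv]
    rw [e1, e2]; group

end Cfsg.Lib.Leech.MonsterSection
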