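import Cfsg.Agent.Leech.MonsterSection.Top
import Cfsg.Agent.Leech.MonsterSection.CenterThree

/-!
# The central elements of order 3
-/

set_option autoImplicit false
set_option linter.style.haveILetI false
set_option linter.unusedSectionVars false

namespace Cfsg.Lib.Leech.MonsterSection

open Cfsg Cfsg.Lib.Golay Cfsg.Lib.Leech Stab

variable {G : Type*} [Group G] [Finite G] {z : G} {Q : Subgroup (Subgroup.centralizer ({z} : Set G))} [Q.Normal]
  {e : (Subgroup.centralizer ({z} : Set G)) ⧸ Q ≃* Spor.Co1} {ψ : leechLattice → Q ⧸ Subgroup.center Q} {D : Data}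

/-- Central in some subgroup of order 27 of the centraliser of the pair. -/
def ThreeCentral (z s b : G) : Prop :=
  ∃ P : Subgroup G, P ≤ Subgroup.centralizer ({z, s} : Set G) ∧ Nat.card P = 27 ∧ b ∈ P ∧ ∀ p ∈ P, p * b = b * p

theorem threeCentral_trans (s b : G) (h : ThreeCentral z s b) (t : G) (h1 : t * z * t⁻¹ = s)
    (h2 : t * s * t⁻¹ = z) : ThreeCentral z s (t * b * t⁻¹) := by
  obtain ⟨P, hP, hc, hb, hcen⟩ := h
  refine ⟨P.map (MulAut.conj t).toMonoidHom, ?_, by rw [Subgroup.card_map_of_injective (MulAut.conj t).injective, hc],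
    ⟨b, hb, rfl⟩, ?_⟩
  · rintro _ ⟨p, hp, rfl⟩ y hy
    show y * (t * p * t⁻¹) = t * p * t⁻¹ * y
    have hy' : t⁻¹ * y * t ∈ ({z, s} : Set G) := by
      rcases hy with rfl | hy
      · exact Set.mem_insert_of_mem _ (by rw [Set.mem_singleton_iff]; conv_lhs => rw [← h2]
                                          group)
      · rw [Set.mem_singleton_iff] at hy
        subst hy
        exact (show t⁻¹ * y * t = z by conv_lhs => rw [← h1]
                                       group) ▸ Set.mem_insert _ _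
    calc y * (t * p * t⁻¹) = t * ((t⁻¹ * y * t) * p) * t⁻¹ := by group
      _ = t * (p * (t⁻¹ * y * t)) * t⁻¹ := by rw [hP hp _ hy']
      _ = _ := by group
  · rintro _ ⟨p, hp, rfl⟩
    show t * p * t⁻¹ * (t * b * t⁻¹) = t * b * t⁻¹ * (t * p * t⁻¹)
    calc t * p * t⁻¹ * (t * b * t⁻¹) = t * (p * b) * t⁻¹ := by group
      _ = t * (b * p) * t⁻¹ := by rw [hcen p hp]
      _ = _ := by group

/-- The class hypothesis for the central elements of order 3. -/
theorem classHyp_central (hw : IsExtraspecialCentralizerSetting z Q 12) (hψ : IsLeechModTwoIso Q e ψ) (hD : ClsOK D)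
    (hr : D.r = 3) (hfix : nfix D.sig = 6) (hx3 : orderOf (permPart ⟨D.x, x_mem_mono hD⟩ : Equiv.Perm GolayPt) = 3) :
    ClassHyp z Q e ψ D (ThreeCentral z) := by
  intro a hc hne b hb hadm
  haveI : Fact (Nat.Prime 3) := ⟨Nat.prime_three⟩
  have hp : D.r.Prime := hr ▸ Nat.prime_three
  have hnf : ¬ ∀ q < 24, PermCert.ap D.sig.1 q = q := fun h => by
    have : nfix D.sig = 24 := by
      rw [nfix, List.countP_eq_length.mpr (fun i hi => by simpa using h i (List.mem_range.mp hi))]
      simp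
    omega
  obtain ⟨g, k, -, ha, hv⟩ := fused_frame hw hψ hc hne
  refine exists_std_pow_of_class hw hψ hD hp hnf hv hb ?_
  set σ := theta e hψ hv b with hσd
  have hker := theta_ker hw hψ hv
  have hσ : orderOf σ = 3 := (pow_order_map _ hker hp hD.ord.1 hb).trans hr
  obtain ⟨P, hPle, hPc, hbP, hcen⟩ := hadm
  set P' := P.comap (inG a) with hP'
  have hrange : P ≤ (inG a).range := by rw [range_inG a]; exact hPle
  have hP'c : Nat.card P' = 27 := by
    rw [hP', ← hPc]
    refine Nat.card_congr (Equiv.ofBijective (fun x => (⟨inG a x.1, x.2⟩ : P)) ⟨fun x y h => ?_, fun y => ?_⟩)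
    · exact Subtype.ext (inG_injective a (congrArg (fun z : P => (z : G)) h))
    · obtain ⟨x, hx⟩ := hrange y.2
      exact ⟨⟨x, by show inG a x ∈ P; rw [hx]; exact y.2⟩, Subtype.ext hx⟩
  set θ' := (theta e hψ hv).subgroupMap P'
  have hinj : Function.Injective θ' := by
    refine (injective_iff_map_eq_one _).mpr fun x hx => ?_
    have hxk : (x : CQa a) ∈ (theta e hψ hv).ker := congrArg Subtype.val hx
    obtain ⟨i, hi⟩ := hker ⟨_, hxk⟩
    have h27 : x ^ 27 = 1 := hP'c ▸ pow_card_eq_one'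
    have h2 : orderOf x ∣ 2 ^ i := orderOf_dvd_of_pow_eq_one (Subtype.ext (by
      simpa using congrArg (fun v : (theta e hψ hv).ker => (v : CQa a)) hi))
    exact orderOf_eq_one_iff.mp (Nat.eq_one_of_dvd_coprimes (Nat.Coprime.pow i 3 (by norm_num : Nat.Coprime 2 3))
      h2 (orderOf_dvd_of_pow_eq_one h27))
  have h6 : fixCard (σ : Equiv.Perm GolayPt) = 6 := by
    refine six_of_central (P := P'.map (theta e hψ hv)) ?_ ⟨b, hbP, rfl⟩ ?_ hσ
    · rw [← hP'c]
      exact (Nat.card_congr (Equiv.ofBijective θ' ⟨hinj, MonoidHom.subgroupMap_surjective _ _⟩)).symm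
    · rintro _ ⟨p, hp', rfl⟩
      have : p * b = b * p := inG_injective a (by rw [map_mul, map_mul]; exact hcen _ hp')
      rw [hσd, ← map_mul, this, map_mul]
  have hσ' : orderOf (σ : Equiv.Perm GolayPt) = 3 := by rw [Subgroup.orderOf_coe]; exact hσ
  obtain ⟨g1, hg1, h1⟩ := three_classes σ.2 hσ'
  obtain ⟨g2, hg2, h2⟩ := three_classes (permPart ⟨D.x, x_mem_mono hD⟩).2 hx3
  have hx6 : fixCard (permPart ⟨D.x, x_mem_mono hD⟩ : Equiv.Perm GolayPt) = 6 := by
    rw [permPart_x hD, fixCard_toP (valid_sig hD), hfix]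
  have e1 := (h1.resolve_right fun h => by omega).1
  have e2 := (h2.resolve_right fun h => by omega).1
  refine ⟨⟨g2 * g1⁻¹, mul_mem hg2 (inv_mem hg1)⟩, 1, Subtype.ext ?_⟩
  simp only [zpow_one, Subgroup.coe_mul, Subgroup.coe_inv]
  rw [e1, e2]; group

end Cfsg.Lib.Leech.MonsterSection
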